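import Mathlib
import Cfsg.Agent.Lib.Helper71.BG1310Defs
import Cfsg.Agent.Lib.Helper20.UniqueInvolution
import Cfsg.Agent.S1409
import Cfsg.Agent.S1415

/-!
# BG 13.10 pack (architect helper71), LEAF F (keystone 131006): `C_{M_σ}(E₃) ≠ M_σ`

Direct proof (no LEAF A needed): otherwise `M = M_σ E` normalizes a subgroup `S₀ ≤ E₃` of prime
order `s ∈ τ₃(M)` (`S₀` is characteristic in the cyclic normal subgroup `E₃` of `E`), so
`N_G(S₀) = M` and S1409 gives `¬ PRankLE s 1 M`, against `s ∈ τ₃(M)`.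
-/

set_option autoImplicit false

namespace Cfsg.Agent.Lib.Helper48.BG1310

open Cfsg Cfsg.Agent.Lib.Helper55 Cfsg.Agent.Lib.Helper31.BG134 Cfsg.Agent.Lib.Helper71.BG1310

variable {G : Type*} [Group G] [Finite G]

/-- in a cyclic subgroup `C`, subgroups of the same order coincide -/
theorem eq_of_le_cyclic_of_card_eq {C A B : Subgroup G} (hC : IsCyclic C) (hA : A ≤ C) (hB : B ≤ C)
    (h : Nat.card A = Nat.card B) : A = B := by
  have e1 : Nat.card ↥(A.subgroupOf C) = Nat.card A :=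
    Nat.card_congr (Subgroup.subgroupOfEquivOfLe hA).toEquiv
  have e2 : Nat.card ↥(B.subgroupOf C) = Nat.card B :=
    Nat.card_congr (Subgroup.subgroupOfEquivOfLe hB).toEquiv
  have h3 := Cfsg.Agent.Lib.Helper20.subgroup_eq_of_card_eq_of_isCyclic (A.subgroupOf C)
    (B.subgroupOf C) (by rw [e1, e2, h])
  rw [← Subgroup.map_subgroupOf_eq_of_le hA, ← Subgroup.map_subgroupOf_eq_of_le hB, h3]

/-- a subgroup of a cyclic subgroup `C` is normalized by the normalizer of `C` -/
theorem normalizer_le_normalizer_of_le_cyclic {C A : Subgroup G} (hC : IsCyclic C) (hA : A ≤ C) :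
    Subgroup.normalizer (C : Set G) ≤ Subgroup.normalizer (A : Set G) := by
  intro g hg
  rw [← cj_eq_self_iff] at hg ⊢
  have h1 : cj g A ≤ C := by
    rw [← hg]
    exact cj_mono hA
  exact eq_of_le_cyclic_of_card_eq hC h1 hA (card_cj g A)

/-- **LEAF F (131006)  NR.ne_top** -/
theorem NR.ne_top {M E E₁ E₃ : Subgroup G} (c : NR M E E₁ E₃) : CP M E₃ ≠ sigmaCore M := by
  intro hEq
  have hcent : sigmaCore M ≤ Subgroup.centralizer (E₃ : Set G) := by
    rw [← hEq]
    exact inf_le_right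
  obtain ⟨hcyc, -, hnorm⟩ := (Cfsg.Agent.S1415.result c.hG M c.hM E c.hE).2.2 E₃ c.hE₃
  -- a prime `s` dividing `|E₃|`
  have hcard1 : Nat.card E₃ ≠ 1 := fun h => c.hE₃1 (Subgroup.card_eq_one.mp h)
  obtain ⟨s, hs, hsd⟩ := Nat.exists_prime_and_dvd hcard1
  have : Fact s.Prime := ⟨hs⟩
  have hs3 : s ∈ tau3 M := c.hE₃.2.1 s hs hsd
  obtain ⟨x, hx⟩ := exists_prime_orderOf_dvd_card' s hsd
  have hS₀E₃ : Subgroup.zpowers (x : G) ≤ E₃ := Subgroup.zpowers_le.mpr x.2
  have hS₀c : Nat.card (Subgroup.zpowers (x : G)) = s := by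
    rw [Nat.card_zpowers, Subgroup.orderOf_coe, hx]
  have hE₃M : E₃ ≤ M := c.hE₃.1.trans c.hE.1
  -- `M ≤ N(S₀)`
  have hMN : M ≤ Subgroup.normalizer ((Subgroup.zpowers (x : G) : Subgroup G) : Set G) := by
    intro m hm
    obtain ⟨a, ha, b, hb, rfl⟩ := c.hE.2.2.2 m hm
    apply Subgroup.mul_mem
    · exact normalizer_le_normalizer_of_le_cyclic hcyc hS₀E₃ (hnorm ha)
    · have h1 : b ∈ Subgroup.centralizer
          ((Subgroup.zpowers (x : G) : Subgroup G) : Set G) :=
        Subgroup.centralizer_le (by exact_mod_cast hS₀E₃) (hcent hb)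
      exact Subgroup.centralizer_le_normalizer _ h1
  -- `N(S₀) = M`
  have hNM : Subgroup.normalizer ((Subgroup.zpowers (x : G) : Subgroup G) : Set G) ≤ M := by
    rcases eq_or_lt_of_le hMN with h | h
    · rw [← h]
    · have htop := c.hM.2 _ h
      exfalso
      -- `S₀` is normal in the simple group `G`
      have hnormal : (Subgroup.zpowers (x : G)).Normal :=
        Subgroup.normalizer_eq_top_iff.mp htop
      have hsimple : IsSimpleGroup G := c.hG.2.1
      rcases hnormal.eq_bot_or_eq_top with h0 | h0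
      · rw [h0, Subgroup.card_bot] at hS₀c
        exact hs.one_lt.ne hS₀c
      · apply c.hM.1
        rw [eq_top_iff, ← h0]
        exact hS₀E₃.trans hE₃M
  have h1409 := Cfsg.Agent.S1409.result c.hG M c.hM s hs3.2.1 _ hS₀c hNM
  exact h1409.1.2 hs3.2.2.2

end Cfsg.Agent.Lib.Helper48.BG1310
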