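import Mathlib
import Cfsg.Agent.Lib.Helper11.BG144Defs

/-!
# K-144-G1 (keystone 137409, architect helper11): `supportR` commutes with conjugation
-/

set_option autoImplicit false

namespace Cfsg.Agent.Lib.Helper48.BG144

open Cfsg Subgroup Cfsg.Agent.Lib.Helper11.BG144

section Transport
variable {A B : Type*} [Group A] [Group B]

/-- the defining family of `fittingHall` is preserved by isomorphisms -/
theorem fittingHall_mem_map (e : A ≃* B) {N : Subgroup A}
    (hN : N.Normal ∧ Group.IsNilpotent N ∧ (Nat.card N).Coprime N.index) :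
    (N.map e.toMonoidHom).Normal ∧ Group.IsNilpotent ↥(N.map e.toMonoidHom) ∧
      (Nat.card ↥(N.map e.toMonoidHom)).Coprime (N.map e.toMonoidHom).index := by
  obtain ⟨h1, h2, h3⟩ := hN
  refine ⟨h1.map _ e.surjective, ?_, ?_⟩
  · exact Group.nilpotent_of_mulEquiv (N.equivMapOfInjective e.toMonoidHom e.injective)
  · rw [Subgroup.card_map_of_injective e.injective]
    have : (N.map e.toMonoidHom).index = N.index := Subgroup.index_map_equiv N e
    rw [this]
    exact h3

theorem fittingHall_map_le (e : A ≃* B) : (fittingHall A).map e.toMonoidHom ≤ fittingHall B := by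
  rw [Subgroup.map_le_iff_le_comap]
  unfold fittingHall
  apply sSup_le
  intro N hN
  rw [← Subgroup.map_le_iff_le_comap]
  exact le_sSup (fittingHall_mem_map e hN)

/-- `fittingHall` is transported by isomorphisms -/
theorem fittingHall_map_equiv (e : A ≃* B) : (fittingHall A).map e.toMonoidHom = fittingHall B := by
  apply le_antisymm (fittingHall_map_le e)
  have h := fittingHall_map_le e.symm
  have h2 := Subgroup.map_mono (f := e.toMonoidHom) h
  rw [Subgroup.map_map] at h2
  have h3 : e.toMonoidHom.comp e.symm.toMonoidHom = MonoidHom.id B := by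
    ext b
    simp
  rw [h3, Subgroup.map_id] at h2
  exact h2

end Transport

variable {G : Type*} [Group G]

theorem fittingHallOf_cj (y : G) (L : Subgroup G) :
    fittingHallOf (cj y L) = cj y (fittingHallOf L) := by
  unfold fittingHallOf
  have e := fittingHall_map_equiv
    (L.equivMapOfInjective (MulAut.conj y).toMonoidHom (MulAut.conj y).injective)
  show (fittingHall ↥(L.map (MulAut.conj y).toMonoidHom)).map
      (L.map (MulAut.conj y).toMonoidHom).subtype =
    ((fittingHall ↥L).map L.subtype).map (MulAut.conj y).toMonoidHom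
  rw [← e, Subgroup.map_map, Subgroup.map_map]
  congr 1

theorem centralizer_conj (x y : G) :
    centralizer ({y * x * y⁻¹} : Set G) = cj y (centralizer ({x} : Set G)) := by
  ext g
  rw [Subgroup.mem_map]
  constructor
  · intro hg
    refine ⟨y⁻¹ * g * y, ?_, ?_⟩
    · rw [Subgroup.mem_centralizer_iff] at hg ⊢
      intro h hh
      rw [Set.mem_singleton_iff] at hh
      subst hh
      have := hg (y * h * y⁻¹) rfl
      calc h * (y⁻¹ * g * y) = y⁻¹ * ((y * h * y⁻¹) * g) * y := by group
        _ = y⁻¹ * (g * (y * h * y⁻¹)) * y := by rw [this]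
        _ = y⁻¹ * g * y * h := by group
    · simp [MulAut.conj_apply, mul_assoc]
  · rintro ⟨c, hc, rfl⟩
    rw [Subgroup.mem_centralizer_iff] at hc ⊢
    intro h hh
    rw [Set.mem_singleton_iff] at hh
    subst hh
    have := hc x rfl
    show y * x * y⁻¹ * (y * c * y⁻¹) = y * c * y⁻¹ * (y * x * y⁻¹)
    calc y * x * y⁻¹ * (y * c * y⁻¹) = y * (x * c) * y⁻¹ := by group
      _ = y * (c * x) * y⁻¹ := by rw [this]
      _ = y * c * y⁻¹ * (y * x * y⁻¹) := by group

theorem cj_le_cj_iff (y : G) (A B : Subgroup G) : cj y A ≤ cj y B ↔ A ≤ B :=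
  Subgroup.map_le_map_iff_of_injective (MulAut.conj y).injective

theorem isCoatom_cj_iff (y : G) (L : Subgroup G) : IsCoatom (cj y L) ↔ IsCoatom L :=
  OrderIso.isCoatom_iff (MulEquiv.mapSubgroup (MulAut.conj y)) L

theorem cj_inv_cj' (y : G) (L : Subgroup G) : cj y⁻¹ (cj y L) = L := by
  show (L.map (MulAut.conj y).toMonoidHom).map (MulAut.conj y⁻¹).toMonoidHom = L
  rw [Subgroup.map_map]
  have : (MulAut.conj y⁻¹).toMonoidHom.comp (MulAut.conj y).toMonoidHom = MonoidHom.id G := by
    ext g
    simp [MulAut.conj_apply, mul_assoc]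
  rw [this, Subgroup.map_id]

theorem cj_cj_inv' (y : G) (L : Subgroup G) : cj y (cj y⁻¹ L) = L := by
  have := cj_inv_cj' y⁻¹ L
  rwa [inv_inv] at this

variable [Finite G]

/-- **K-144-G1 (137409).** -/
theorem supportR_conj (M : Subgroup G) (x y : G) :
    supportR (cj y M) (y * x * y⁻¹) = cj y (supportR M x) := by
  classical
  have hcx := centralizer_conj x y
  -- the conditions correspond
  have hcond : (¬ centralizer ({y * x * y⁻¹} : Set G) ≤ cj y M ∧
      ∃! L : Subgroup G, IsCoatom L ∧ centralizer ({y * x * y⁻¹} : Set G) ≤ L) ↔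
      (¬ centralizer ({x} : Set G) ≤ M ∧
      ∃! L : Subgroup G, IsCoatom L ∧ centralizer ({x} : Set G) ≤ L) := by
    rw [hcx, cj_le_cj_iff]
    apply and_congr Iff.rfl
    constructor
    · rintro ⟨L', ⟨hL'c, hL'le⟩, huniq⟩
      refine ⟨cj y⁻¹ L', ⟨?_, ?_⟩, ?_⟩
      · rw [← isCoatom_cj_iff y, cj_cj_inv']
        exact hL'c
      · rw [← cj_le_cj_iff y, cj_cj_inv']
        exact hL'le
      · rintro L ⟨hLc, hLle⟩
        have := huniq (cj y L) ⟨(isCoatom_cj_iff y L).mpr hLc, (cj_le_cj_iff y _ _).mpr hLle⟩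
        rw [← this, cj_inv_cj']
    · rintro ⟨L, ⟨hLc, hLle⟩, huniq⟩
      refine ⟨cj y L, ⟨(isCoatom_cj_iff y L).mpr hLc, (cj_le_cj_iff y _ _).mpr hLle⟩, ?_⟩
      rintro L' ⟨hL'c, hL'le⟩
      have := huniq (cj y⁻¹ L') ⟨?_, ?_⟩
      · rw [← this, cj_cj_inv']
      · rw [← isCoatom_cj_iff y, cj_cj_inv']
        exact hL'c
      · rw [← cj_le_cj_iff y, cj_cj_inv']
        exact hL'le
  unfold supportR
  by_cases h : ¬ centralizer ({x} : Set G) ≤ M ∧
      ∃! L : Subgroup G, IsCoatom L ∧ centralizer ({x} : Set G) ≤ L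
  · have h' := hcond.mpr h
    rw [dif_pos h, dif_pos h']
    -- the chosen subgroups correspond
    have hL := Classical.choose_spec h.2.exists
    have hL' := Classical.choose_spec h'.2.exists
    have hEq : Classical.choose h'.2.exists = cj y (Classical.choose h.2.exists) := by
      apply h'.2.unique hL'
      refine ⟨(isCoatom_cj_iff y _).mpr hL.1, ?_⟩
      rw [hcx, cj_le_cj_iff]
      exact hL.2
    rw [hEq, fittingHallOf_cj, hcx]
    exact (Subgroup.map_inf _ _ _ (MulAut.conj y).injective).symm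
  · have h' : ¬ (¬ centralizer ({y * x * y⁻¹} : Set G) ≤ cj y M ∧
      ∃! L : Subgroup G, IsCoatom L ∧ centralizer ({y * x * y⁻¹} : Set G) ≤ L) :=
      fun h' => h (hcond.mp h')
    rw [dif_neg h, dif_neg h']
    exact (Subgroup.map_bot _).symm

end Cfsg.Agent.Lib.Helper48.BG144
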