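import Mathlib
import Cfsg.Prelude.Def_HallClasses
import Cfsg.Agent.Lib.Helper06.HallSym.Defs

set_option autoImplicit false
open Cfsg
open scoped Pointwise

/-!
# K-S2536-G6b (keystone 253610, architect helper6): a cycle of prime length in a transitive group with a block `B`,
`|B| ≥ 2`, has length at most `|B|`.
-/

namespace Cfsg.Agent.Lib.Helper48.HallSym

/-- **K-G6b.** In a transitive group with a block `B`, `|B| ≥ 2`, a cycle of prime length `p` lies inside one
translate of `B`; in particular `p ≤ |B|`. -/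
theorem cycle_le_block {α : Type} [Finite α] (H : Subgroup (Equiv.Perm α))
    (htr : MulAction.IsPretransitive ↥H α) (B : Set α) (hB : MulAction.IsBlock ↥H B)
    (h1 : 1 < B.ncard) (g : Equiv.Perm α) (hg : g ∈ H) (hc : g.IsCycle) (p : ℕ) (hp : p.Prime)
    (hgp : {x | g x ≠ x}.ncard = p) : p ≤ B.ncard := by
  classical
  have := Fintype.ofFinite α
  set S : Set α := {x | g x ≠ x} with hS
  have hSne : S.Nonempty := by
    rw [← Set.ncard_pos, hgp]
    exact hp.pos
  obtain ⟨x, hx⟩ := hSne
  have hBne : B.Nonempty := by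
    rw [← Set.ncard_pos]
    omega
  obtain ⟨b, hb⟩ := hBne
  obtain ⟨h, hh⟩ := htr.exists_smul_eq b x
  set B' : Set α := h • B with hB'
  have hB'blk : MulAction.IsBlock ↥H B' := hB.translate h
  have hxB' : x ∈ B' := ⟨b, hb, hh⟩
  have hcard : B'.ncard = B.ncard := by
    rw [hB', ← Set.image_smul]
    exact Set.ncard_image_of_injective B (MulAction.injective h)
  set g' : ↥H := ⟨g, hg⟩ with hg'
  have hsmul : ∀ (i : ℤ) (y : α), (g' ^ i) • y = (g ^ i) y := by
    intro i y
    rw [Subgroup.smul_def, Equiv.Perm.smul_def]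
    simp [hg']
  -- the order of `g` is `p`
  have hord : orderOf g = p := by
    rw [hc.orderOf, ← hgp, hS, ← Set.ncard_coe_finset]
    congr 1
    ext y
    simp
  have hgp1 : g ^ p = 1 := by rw [← hord]; exact pow_orderOf_eq_one g
  by_cases hfix : g' • B' = B'
  · have hzpow : ∀ i : ℤ, (g' ^ i) • B' = B' := by
      intro i
      have h2 : g' ^ i ∈ MulAction.stabilizer ↥H B' := zpow_mem (MulAction.mem_stabilizer_iff.2 hfix) i
      exact MulAction.mem_stabilizer_iff.1 h2
    have hsub : S ⊆ B' := by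
      intro y hy
      obtain ⟨i, hi⟩ := hc.exists_zpow_eq hx hy
      rw [← hzpow i, ← hi, ← hsmul]
      exact Set.smul_mem_smul_set hxB'
    calc p = S.ncard := hgp.symm
      _ ≤ B'.ncard := Set.ncard_le_ncard hsub
      _ = B.ncard := hcard
  · exfalso
    have hdisj : Disjoint (g' • B') B' := hB'blk.disjoint_smul_of_ne hfix
    -- `B' ⊆ S`
    have hB'S : B' ⊆ S := by
      intro y hy hgy
      have h3 : g y ∈ g' • B' := by
        have h4 : g' • y ∈ g' • B' := Set.smul_mem_smul_set hy
        exact h4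
      rw [hgy] at h3
      exact Set.disjoint_left.1 hdisj h3 hy
    -- a second point of `B'`
    obtain ⟨y, hyB', hyx⟩ : ∃ y ∈ B', y ≠ x := by
      have h5 : 1 < B'.ncard := by rw [hcard]; exact h1
      obtain ⟨u, v, hu, hv, huv⟩ := (Set.one_lt_ncard_iff).1 h5
      by_cases hux : u = x
      · exact ⟨v, hv, fun hvx => huv (hux.trans hvx.symm)⟩
      · exact ⟨u, hu, hux⟩
    obtain ⟨i, hi⟩ := hc.exists_zpow_eq hx (hB'S hyB')
    -- `g' ^ i` fixes the block
    have hi_fix : (g' ^ i) • B' = B' := by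
      apply hB'blk.smul_eq_of_mem hxB'
      rw [hsmul, hi]
      exact hyB'
    -- `p ∤ i`
    have hpi : ¬ (p : ℤ) ∣ i := by
      rintro ⟨k, rfl⟩
      apply hyx
      rw [← hi, zpow_mul, zpow_natCast, hgp1, one_zpow]
      rfl
    have hcop : IsCoprime i (p : ℤ) := by
      rw [isCoprime_comm]
      exact (Nat.prime_iff_prime_int.1 hp).coprime_iff_not_dvd.2 hpi
    obtain ⟨a, c, hac⟩ := hcop
    have hg'p : g' ^ (p : ℤ) = 1 := by
      apply Subtype.ext
      simp [hg', hgp1]
    have hgen : g' = (g' ^ i) ^ a := by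
      have h6 : g' ^ (a * i + c * (p : ℤ)) = g' := by rw [hac, zpow_one]
      rw [zpow_add, mul_comm a i, zpow_mul, mul_comm c (p : ℤ), zpow_mul, hg'p, one_zpow, mul_one] at h6
      exact h6.symm
    apply hfix
    have h7 : (g' ^ i) ^ a ∈ MulAction.stabilizer ↥H B' := zpow_mem (MulAction.mem_stabilizer_iff.2 hi_fix) a
    rw [← hgen] at h7
    exact MulAction.mem_stabilizer_iff.1 h7

end Cfsg.Agent.Lib.Helper48.HallSym
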