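import Mathlib
import Cfsg.Prelude.Def_ClassicalGeometry

set_option autoImplicit false

/-!
# Definitions and basic API for the pack K-RSp (S2281: `Sp_{2n}(F)`, `n ≥ 2`, `(n, |F|) ≠ (2, 2)`, is generated
by three conjugate regular unipotent elements)

`n = m + 2`.  Index set `Fin (m+2) ⊕ Fin (m+2)`: `inl i = e_i`, `inr i = f_i`; Mathlib's
`J = fromBlocks 0 (-1) 1 0`, `A ∈ Sp ↔ A * J * Aᵀ = J` (`SymplecticGroup.fromBlocks_mem_iff`).
`xMat S = [[1,S],[0,1]]` (in `Sp` iff `S` symmetric), `yMat Y = [[1,0],[Y,1]]`.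
`Uup = 1 + N` (upper Jordan block, `N e_{j+1} = e_j`), `Aalt = Uup⁻¹` (entries `(-1)^(j-i)`, `i ≤ j`),
`Lbi δ` = lower bidiagonal (`e_j ↦ e_j + δ_j e_{j+1}`), `Llow t = d Uupᵀ d⁻¹ = Lbi (t,1,1,…)` with
`d = diag(1,t,…,t)`, `Dlow t = d⁻¹ Aalt d` (`= (Llow t)⁻ᵀ`).
`uMat s = [[Aalt, Aalt (s E_last)],[0, Uupᵀ]]` (regular unipotent), `hMat t = [[0,-d],[d⁻¹,0]]`,
`cMat t σ = [[Llow t, 0],[Dlow t (σ E_last), Dlow t]]` (`= hMat t * uMat s * (hMat t)⁻¹` for `σ = -s/t²`).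
`InG G M`: the matrix `M` is (the matrix of) an element of the subgroup `G`.
`XG G`: the additive group of the symmetric `S` with `xMat S ∈ G`.
-/

namespace Cfsg.Agent.Lib.Helper48.RSp

open Matrix

/-- `n × n` matrices, `n = m + 2` -/
abbrev SM (m : ℕ) (F : Type*) := Matrix (Fin (m + 2)) (Fin (m + 2)) F

/-- `2n × 2n` block matrices, `n = m + 2` -/
abbrev BM (m : ℕ) (F : Type*) := Matrix (Fin (m + 2) ⊕ Fin (m + 2)) (Fin (m + 2) ⊕ Fin (m + 2)) F

/-- the group `Sp_{2n}(F)`, `n = m + 2` -/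
abbrev SpG (m : ℕ) (F : Type*) [Field F] := ↥(Matrix.symplecticGroup (Fin (m + 2)) F)

section defs

variable (m : ℕ) (F : Type*) [Field F]

/-- `N`: `N e_{j+1} = e_j` -/
def Nup : SM m F := fun i j => if i.val + 1 = j.val then 1 else 0

/-- the upper Jordan block `1 + N` -/
def Uup : SM m F := 1 + Nup m F

/-- the inverse of `Uup`: entries `(-1)^(j-i)` for `i ≤ j` -/
def Aalt : SM m F := fun i j => if i.val ≤ j.val then (-1) ^ (j.val - i.val) else 0

/-- `E_{last,last}` -/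
def Elast : SM m F := Matrix.single (Fin.last (m + 1)) (Fin.last (m + 1)) 1

/-- `E_{00}` -/
def E00 : SM m F := Matrix.single 0 0 1

variable {F}

/-- the lower bidiagonal matrix `e_j ↦ e_j + δ_j e_{j+1}` -/
def Lbi (δ : Fin (m + 2) → F) : SM m F :=
  fun i j => if i = j then 1 else if j.val + 1 = i.val then δ j else 0

/-- the diagonal `(1, t, t, …, t)` -/
def dvec (t : F) : Fin (m + 2) → F := fun j => if j = 0 then 1 else t

/-- `d Uupᵀ d⁻¹` -/
def Llow (t : F) : SM m F :=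
  Matrix.diagonal (dvec m t) * (Uup m F)ᵀ * Matrix.diagonal (fun j => (dvec m t j)⁻¹)

/-- `d⁻¹ Aalt d` -/
def Dlow (t : F) : SM m F :=
  Matrix.diagonal (fun j => (dvec m t j)⁻¹) * Aalt m F * Matrix.diagonal (dvec m t)

/-- `[[1,S],[0,1]]` -/
def xMat (S : SM m F) : BM m F := Matrix.fromBlocks 1 S 0 1

/-- `[[1,0],[Y,1]]` -/
def yMat (Y : SM m F) : BM m F := Matrix.fromBlocks 1 0 Y 1

/-- the regular unipotent element `l(Aalt) x(s E_last)` -/
def uMat (s : F) : BM m F :=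
  Matrix.fromBlocks (Aalt m F) (Aalt m F * (s • Elast m F)) 0 (Uup m F)ᵀ

/-- the opposite regular unipotent element `l(Llow t) y(σ E_last)` -/
def cMat (t σ : F) : BM m F :=
  Matrix.fromBlocks (Llow m t) 0 (Dlow m t * (σ • Elast m F)) (Dlow m t)

/-- the conjugator `l(d) J` -/
def hMat (t : F) : BM m F :=
  Matrix.fromBlocks 0 (-(Matrix.diagonal (dvec m t))) (Matrix.diagonal (fun j => (dvec m t j)⁻¹)) 0

/-- symmetric matrices supported on the indices `≤ k` -/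
def SymLE (k : ℕ) : Set (SM m F) :=
  {S | Sᵀ = S ∧ ∀ i j : Fin (m + 2), (k < i.val ∨ k < j.val) → S i j = 0}

end defs

section general

variable {m : ℕ} {F : Type*} [Field F]

/-- `M` is (the matrix of) an element of the subgroup `G` of `Sp_{2n}(F)` -/
def InG (G : Subgroup (SpG m F)) (M : BM m F) : Prop := ∃ g ∈ G, (g : BM m F) = M

variable {G : Subgroup (SpG m F)}

theorem inG_one : InG G (1 : BM m F) := ⟨1, G.one_mem, rfl⟩

theorem inG_mul {A B : BM m F} (hA : InG G A) (hB : InG G B) : InG G (A * B) := by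
  obtain ⟨a, ha, rfl⟩ := hA
  obtain ⟨b, hb, rfl⟩ := hB
  exact ⟨a * b, G.mul_mem ha hb, rfl⟩

theorem coe_inv_mul (a : SpG m F) : ((a⁻¹ : SpG m F) : BM m F) * (a : BM m F) = 1 :=
  congrArg Subtype.val (inv_mul_cancel a)

theorem coe_mul_inv (a : SpG m F) : (a : BM m F) * ((a⁻¹ : SpG m F) : BM m F) = 1 :=
  congrArg Subtype.val (mul_inv_cancel a)

/-- left cancellation -/
theorem inG_of_mul_left {A B : BM m F} (hA : InG G A) (hAB : InG G (A * B)) : InG G B := by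
  obtain ⟨a, ha, rfl⟩ := hA
  obtain ⟨c, hc, hcAB⟩ := hAB
  refine ⟨a⁻¹ * c, G.mul_mem (G.inv_mem ha) hc, ?_⟩
  show ((a⁻¹ : SpG m F) : BM m F) * (c : BM m F) = B
  rw [hcAB, ← Matrix.mul_assoc, coe_inv_mul, Matrix.one_mul]

/-- right cancellation -/
theorem inG_of_mul_right {A B : BM m F} (hB : InG G B) (hAB : InG G (A * B)) : InG G A := by
  obtain ⟨b, hb, rfl⟩ := hB
  obtain ⟨c, hc, hcAB⟩ := hAB
  refine ⟨c * b⁻¹, G.mul_mem hc (G.inv_mem hb), ?_⟩
  show (c : BM m F) * ((b⁻¹ : SpG m F) : BM m F) = A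
  rw [hcAB, Matrix.mul_assoc, coe_mul_inv, Matrix.mul_one]

/-- inverse, given explicitly -/
theorem inG_of_mul_eq_one {A B : BM m F} (hA : InG G A) (h : A * B = 1) : InG G B :=
  inG_of_mul_left hA (h ▸ inG_one)

/-- conjugation without inverses: `P A = B P`, `P, A ∈ G` give `B ∈ G` -/
theorem inG_of_conj {P A B : BM m F} (hP : InG G P) (hA : InG G A) (h : P * A = B * P) : InG G B :=
  inG_of_mul_right hP (h ▸ inG_mul hP hA)

/-- conjugation the other way: `A P = P B`, `P, A ∈ G` give `B ∈ G` -/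
theorem inG_of_conj' {P A B : BM m F} (hP : InG G P) (hA : InG G A) (h : A * P = P * B) : InG G B :=
  inG_of_mul_left hP (h ▸ inG_mul hA hP)

theorem xMat_zero : xMat m (0 : SM m F) = 1 := by
  unfold xMat
  exact Matrix.fromBlocks_one

theorem xMat_mul (S S' : SM m F) : xMat m S * xMat m S' = xMat m (S + S') := by
  unfold xMat
  rw [Matrix.fromBlocks_multiply]
  simp [add_comm]

theorem xMat_mem {S : SM m F} (hS : Sᵀ = S) : xMat m S ∈ Matrix.symplecticGroup (Fin (m + 2)) F := by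
  unfold xMat
  rw [SymplecticGroup.fromBlocks_mem_iff]
  refine ⟨by simp, by simp [hS], by simp⟩

/-- the symmetric `S` with `x(S) ∈ G` -/
def XG (G : Subgroup (SpG m F)) : AddSubgroup (SM m F) where
  carrier := {S | Sᵀ = S ∧ InG G (xMat m S)}
  add_mem' := by
    rintro S S' ⟨h1, h2⟩ ⟨h1', h2'⟩
    exact ⟨by rw [Matrix.transpose_add, h1, h1'], xMat_mul S S' ▸ inG_mul h2 h2'⟩
  zero_mem' := ⟨Matrix.transpose_zero, xMat_zero (m := m) (F := F) ▸ inG_one⟩
  neg_mem' := by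
    rintro S ⟨h1, h2⟩
    refine ⟨by rw [Matrix.transpose_neg, h1], inG_of_mul_eq_one h2 ?_⟩
    rw [xMat_mul, add_neg_cancel, xMat_zero]

theorem mem_XG {S : SM m F} : S ∈ XG G ↔ Sᵀ = S ∧ InG G (xMat m S) := Iff.rfl

end general

end Cfsg.Agent.Lib.Helper48.RSp
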