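import Mathlib
import Cfsg.Prelude.Def_ClassicalGeometry
import Cfsg.Agent.Lib.Helper18.SympTrans
import Cfsg.Agent.Lib.Helper11.SpPerfect
import Cfsg.Agent.Lib.Helper48.RSpDefs

set_option autoImplicit false

/-!
# More definitions for the pack K-RSp (S2281)

`tauMat t σ β`: the Levi part of `c x(S) c⁻¹` for `n = 2`, `S = [[α,β],[β,0]]`, `c = cMat 0 t σ`.
`TG G`: the centres `v` all of whose symplectic transvections `tv v a` lie in `G`.
`eI i`, `fI i`: the standard basis vectors `e_i` (`inl`), `f_i` (`inr`).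
-/

namespace Cfsg.Agent.Lib.Helper48.RSp

open Matrix Cfsg.Agent.Lib.Helper18

variable {F : Type*} [Field F]

/-- the `2 × 2` matrix `L (1 - σ β E_01) L⁻¹`, `L = [[1,0],[t,1]]` -/
def tauMat (t σ β : F) : Matrix (Fin 2) (Fin 2) F :=
  !![1 + σ * β * t, -(σ * β); σ * β * t ^ 2, 1 - σ * β * t]

/-- the centres all of whose symplectic transvections lie in `G` -/
def TG {m : ℕ} (G : Subgroup (SpG m F)) : Set (Fin (m + 2) ⊕ Fin (m + 2) → F) :=
  {v | ∀ a : F, tv (m + 2) v a ∈ G}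

/-- the basis vector `e_i` -/
def eI {m : ℕ} (i : Fin (m + 2)) : Fin (m + 2) ⊕ Fin (m + 2) → F := Pi.single (Sum.inl i) 1

/-- the basis vector `f_i` -/
def fI {m : ℕ} (i : Fin (m + 2)) : Fin (m + 2) ⊕ Fin (m + 2) → F := Pi.single (Sum.inr i) 1

end Cfsg.Agent.Lib.Helper48.RSp
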