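import Mathlib
import Cfsg.Prelude.Def_ClassicalGeometry
import Cfsg.Agent.Lib.Helper48.RSpDefs2

set_option autoImplicit false

/-!
# Definitions for the pack K-Sp2G (S2411: `PSp_{2n}(F)`, `n ≥ 2`, `(n, |F|) ≠ (2, 2)`, is generated by two elements)

`n = m + 2`, index set `Fin (m+2) ⊕ Fin (m+2)` (`inl i = e_i`, `inr i = f_i`), as in `RSpDefs`.
`hT k = l(diag(k,1,…,1))` (torus), `zL = x(E_11) = t_{e_1,1}` (long root element commuting with `hT k`),
`sx c = l(1 + c E_01)` (short root elements), `wC` = the Coxeter element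
`e_0 → e_1 → … → e_{n-1} → f_0 → f_1 → … → f_{n-1} → -e_0`.
`z0 = x(E_00) = t_{e_0,1}`, `sO = l(M3)` with `M3 = [[0,1],[1,1]]` on the indices `1, 2` (order 3 in characteristic 2).

* `|F| ≥ 3`: `Sp = ⟨hT k * zL, sx 1 * wC⟩`, `k` a generator of `Fˣ`.
* `|F| = 2`, `n ≥ 3`: `Sp = ⟨z0 * sO, wC⟩`.
-/

namespace Cfsg.Agent.Lib.Helper48.Sp2G

open Matrix Cfsg.Agent.Lib.Helper48.RSp

section defs

variable (m : ℕ) (F : Type*) [Field F]

/-- the Coxeter element `e_0 → e_1 → … → e_{n-1} → f_0 → … → f_{n-1} → -e_0` -/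
def wC : BM m F :=
  Matrix.fromBlocks (Nup m F)ᵀ (-(Matrix.single 0 (Fin.last (m + 1)) 1))
    (Matrix.single 0 (Fin.last (m + 1)) 1) (Nup m F)ᵀ

/-- the long root element `t_{e_1,1} = x(E_11)` -/
def zL : BM m F := xMat m (Matrix.single (1 : Fin (m + 2)) 1 (1 : F))

/-- the long root element `t_{e_0,1} = x(E_00)` -/
def z0 : BM m F := xMat m (E00 m F)

/-- `[[0,1],[1,1]]` on the indices `1, 2` -/
def M3 : SM m F :=
  1 - Matrix.single 1 1 1 + Matrix.single 1 2 1 + Matrix.single 2 1 1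

/-- `[[1,1],[1,0]]` on the indices `1, 2` (the inverse transpose of `M3` in characteristic 2) -/
def M3' : SM m F :=
  1 - Matrix.single 2 2 1 + Matrix.single 1 2 1 + Matrix.single 2 1 1

/-- the element `l(M3)` of order 3 (characteristic 2, `m ≥ 1`) -/
def sO : BM m F := Matrix.fromBlocks (M3 m F) 0 0 (M3' m F)

variable {F}

/-- the diagonal `(k, 1, …, 1)` -/
def kvec (k : F) : Fin (m + 2) → F := fun j => if j = 0 then k else 1

/-- the torus element `l(diag(k,1,…,1))` -/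
def hT (k : F) : BM m F :=
  Matrix.fromBlocks (Matrix.diagonal (kvec m k)) 0 0 (Matrix.diagonal (kvec m k⁻¹))

/-- the short root element `l(1 + c E_01)` -/
def sx (c : F) : BM m F :=
  Matrix.fromBlocks (1 + Matrix.single (0 : Fin (m + 2)) 1 c) 0 0
    (1 - Matrix.single (1 : Fin (m + 2)) 0 c)

end defs

end Cfsg.Agent.Lib.Helper48.Sp2G
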