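import Mathlib
import Cfsg.Prelude.Def_LieExceptional
import Cfsg.Prelude.Def_Classical

/-!
# K-StO pack (S2547): shared definitions

A (B,N)-pair on the FULL isometry group `O_{2m+1}(F) = Cfsg.isometryGroup F (Cfsg.quadFormOdd m F)`
of `Q(v) = v_z^2 + ∑ x_i y_i`, for every `m`.
Index set `OI m = Unit ⊕ (Fin m ⊕ Fin m)`: `zI = inl ()` (the anisotropic vector `z`),
`eI i = inr (inl i) = e_i`, `fI i = inr (inr i) = f_i`; the order is
`e_0 < e_1 < … < e_{m-1} < z < f_{m-1} < … < f_1 < f_0` (function `pos`).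
`B` = upper triangular isometries for this order, `Bm` = lower triangular ones,
`T = B ⊓ Bm` (diagonal), `S` = `m` permutation matrices, `N = ⟨S⟩ T`.
Matrices act on column vectors (`M *ᵥ v`): `Matrix.single a b c` maps `e_b ↦ c e_a`.
-/

set_option autoImplicit false
set_option linter.unusedSectionVars false

namespace Cfsg.Agent.Lib.Helper48.StO

open Matrix

variable (m : ℕ) (F : Type*) [Field F]

/-- the index type `Unit ⊕ (Fin m ⊕ Fin m)` -/
abbrev OI : Type := Unit ⊕ (Fin m ⊕ Fin m)

/-- the full orthogonal group `O_{2m+1}(F)` as a type -/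
abbrev OG : Type _ := ↥(Cfsg.isometryGroup F (Cfsg.quadFormOdd m F))

variable {m}

/-- the index of `z` -/
abbrev zI : OI m := Sum.inl ()
/-- the index of `e_i` -/
abbrev eI (i : Fin m) : OI m := Sum.inr (Sum.inl i)
/-- the index of `f_i` -/
abbrev fI (i : Fin m) : OI m := Sum.inr (Sum.inr i)

variable {F}

/-- the matrix of an element of `O_{2m+1}(F)` -/
def mat (g : OG m F) : Matrix (OI m) (OI m) F :=
  ((g : Matrix.GeneralLinearGroup (OI m) F) : Matrix (OI m) (OI m) F)

@[simp] theorem mat_one : mat (1 : OG m F) = 1 := rfl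

@[simp] theorem mat_mul (g h : OG m F) : mat (g * h) = mat g * mat h := rfl

theorem mat_injective : Function.Injective (mat : OG m F → Matrix (OI m) (OI m) F) :=
  fun _ _ h => Subtype.ext (Units.ext h)

theorem mat_inv (g : OG m F) : mat g⁻¹ = (mat g)⁻¹ := by
  unfold mat
  rw [Subgroup.coe_inv, Matrix.coe_units_inv]

theorem mat_mul_mat_inv (g : OG m F) : mat g * mat g⁻¹ = 1 := by
  rw [← mat_mul, mul_inv_cancel, mat_one]

theorem mat_inv_mul_mat (g : OG m F) : mat g⁻¹ * mat g = 1 := by
  rw [← mat_mul, inv_mul_cancel, mat_one]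

theorem isUnit_det_mat (g : OG m F) : IsUnit (mat g).det := by
  have h : IsUnit (mat g) := ⟨(g : Matrix.GeneralLinearGroup (OI m) F), rfl⟩
  exact (Matrix.isUnit_iff_isUnit_det _).1 h

/-- elements of `O_{2m+1}(F)` preserve `Q` -/
theorem quad_mulVec (g : OG m F) (u : OI m → F) :
    Cfsg.quadFormOdd m F (mat g *ᵥ u) = Cfsg.quadFormOdd m F u := g.2 u u

/-- an invertible matrix preserving `Q` is the matrix of an element of `O_{2m+1}(F)` -/
theorem exists_of_isometry (M N : Matrix (OI m) (OI m) F) (hMN : M * N = 1) (hNM : N * M = 1)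
    (hQ : ∀ u, Cfsg.quadFormOdd m F (M *ᵥ u) = Cfsg.quadFormOdd m F u) :
    ∃ g : OG m F, mat g = M :=
  ⟨⟨⟨M, N, hMN, hNM⟩, fun u _ => hQ u⟩, rfl⟩

open Classical in
/-- the element of `O_{2m+1}(F)` with matrix `M` if there is one (`1` otherwise) -/
noncomputable def ofMat (M : Matrix (OI m) (OI m) F) : OG m F :=
  if h : ∃ g : OG m F, mat g = M then h.choose else 1

theorem mat_ofMat (M : Matrix (OI m) (OI m) F) (h : ∃ g : OG m F, mat g = M) :
    mat (ofMat M) = M := by
  unfold ofMat
  rw [dif_pos h]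
  exact h.choose_spec

variable (m)

/-- position of a basis vector in the order `e_0 < … < e_{m-1} < z < f_{m-1} < … < f_0` -/
def pos : OI m → ℕ
  | Sum.inl _ => m
  | Sum.inr (Sum.inl i) => i.val
  | Sum.inr (Sum.inr i) => 2 * m - i.val

theorem pos_injective : Function.Injective (pos m) := by
  rintro (_ | a | a) (_ | b | b) h <;> simp only [pos] at h
  · rfl
  · have := b.2; omega
  · have := b.2; omega
  · have := a.2; omega
  · exact congrArg _ (congrArg _ (Fin.ext h))
  · have := a.2; have := b.2; omega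
  · have := a.2; omega
  · have := a.2; have := b.2; omega
  · have := a.2; have := b.2
    exact congrArg _ (congrArg _ (Fin.ext (by omega)))

/-- the duality `z ↦ z`, `e_i ↔ f_i` of the index set -/
def dualE : Equiv.Perm (OI m) := Equiv.sumCongr (Equiv.refl Unit) (Equiv.sumComm (Fin m) (Fin m))

@[simp] theorem dualE_zI : dualE m zI = zI := rfl
@[simp] theorem dualE_eI (i : Fin m) : dualE m (eI i) = fI i := rfl
@[simp] theorem dualE_fI (i : Fin m) : dualE m (fI i) = eI i := rfl

theorem dualE_dualE (a : OI m) : dualE m (dualE m a) = a := by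
  rcases a with a | a | a <;> rfl

theorem pos_dualE (a : OI m) : pos m (dualE m a) = 2 * m - pos m a := by
  rcases a with a | a | a
  · simp only [pos]; change m = 2 * m - m; omega
  · change 2 * m - a.val = 2 * m - a.val; rfl
  · change a.val = 2 * m - (2 * m - a.val); have := a.2; omega

variable {m}

theorem blockTriangular_inv {α : Type*} [LinearOrder α] (b : OI m → α) (g : OG m F)
    (h : (mat g).BlockTriangular b) : (mat g⁻¹).BlockTriangular b := by
  rw [mat_inv]
  have : Invertible (mat g) := Matrix.invertibleOfIsUnitDet _ (isUnit_det_mat g)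
  exact Matrix.blockTriangular_inv_of_blockTriangular h

variable (m F)

/-- the subgroup of elements whose matrix is block triangular for `b` -/
def triSub {α : Type*} [LinearOrder α] (b : OI m → α) : Subgroup (OG m F) where
  carrier := {g | (mat g).BlockTriangular b}
  mul_mem' := fun {g h} hg hh => by
    change (mat (g * h)).BlockTriangular b
    rw [mat_mul]
    exact Matrix.BlockTriangular.mul hg hh
  one_mem' := Matrix.blockTriangular_one
  inv_mem' := fun {g} hg => blockTriangular_inv b g hg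

/-- `B`: the upper triangular isometries -/
def Bsub : Subgroup (OG m F) := triSub m F (pos m)

/-- `B⁻`: the lower triangular isometries -/
def Bminus : Subgroup (OG m F) := triSub m F (fun a => OrderDual.toDual (pos m a))

/-- `T = B ⊓ B⁻`: the diagonal isometries -/
def Tsub : Subgroup (OG m F) := Bsub m F ⊓ Bminus m F

variable {m F}

theorem mem_Bsub_iff (g : OG m F) :
    g ∈ Bsub m F ↔ ∀ a b, pos m b < pos m a → mat g a b = 0 :=
  ⟨fun h a b hab => h hab, fun h a b hab => h a b hab⟩

theorem mem_Bminus_iff (g : OG m F) :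
    g ∈ Bminus m F ↔ ∀ a b, pos m a < pos m b → mat g a b = 0 :=
  ⟨fun h a b hab => h (show OrderDual.toDual (pos m b) < OrderDual.toDual (pos m a) from hab),
    fun h a b hab => h a b hab⟩

theorem mem_Tsub_iff (g : OG m F) :
    g ∈ Tsub m F ↔ ∀ a b, a ≠ b → mat g a b = 0 := by
  constructor
  · rintro ⟨h1, h2⟩ a b hab
    rcases lt_or_gt_of_ne (fun h => hab (pos_injective m h)) with h | h
    · exact (mem_Bminus_iff g).1 h2 a b h
    · exact (mem_Bsub_iff g).1 h1 a b h
  · intro h
    exact ⟨(mem_Bsub_iff g).2 fun a b hab => h a b (fun e => by rw [e] at hab; exact lt_irrefl _ hab),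
      (mem_Bminus_iff g).2 fun a b hab => h a b (fun e => by rw [e] at hab; exact lt_irrefl _ hab)⟩

variable (m F)

/-! ### the elements (matrices first; the group elements are `ofMat` of them, see leaf R0) -/

/-- the permutation `e_i ↔ e_j`, `f_i ↔ f_j` of the index set -/
def swapE (i j : Fin m) : Equiv.Perm (OI m) :=
  Equiv.sumCongr (Equiv.refl Unit) (Equiv.sumCongr (Equiv.swap i j) (Equiv.swap i j))

/-- the permutation `e_k ↔ f_k` of the index set -/
def flipE (k : Fin m) : Equiv.Perm (OI m) := Equiv.swap (eI k) (fI k)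

/-- permutation matrix of `e_i ↔ e_j`, `f_i ↔ f_j` -/
def sPermMat (i j : Fin m) : Matrix (OI m) (OI m) F := (swapE m i j).permMatrix F

/-- permutation matrix of `e_k ↔ f_k` (fixes `z`; determinant `-1`) -/
def sFlipMat (k : Fin m) : Matrix (OI m) (OI m) F := (flipE m k).permMatrix F

/-- permutation matrix of `e_i ↔ f_i` for all `i` (fixes `z`): the longest element -/
def w0Mat : Matrix (OI m) (OI m) F := (dualE m).permMatrix F

/-- root element for `ε_i - ε_j`: `e_j ↦ e_j + t e_i`, `f_i ↦ f_i - t f_j` -/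
def xPermMat (i j : Fin m) (t : F) : Matrix (OI m) (OI m) F :=
  1 + Matrix.single (eI i) (eI j) t - Matrix.single (fI j) (fI i) t

/-- root element for `ε_k`: `z ↦ z - 2t e_k`, `f_k ↦ f_k + t z - t² e_k` -/
def xZMat (k : Fin m) (t : F) : Matrix (OI m) (OI m) F :=
  1 + Matrix.single zI (fI k) t - Matrix.single (eI k) zI (2 * t) - Matrix.single (eI k) (fI k) (t ^ 2)

/-- root element for `-ε_k`: `z ↦ z - 2t f_k`, `e_k ↦ e_k + t z - t² f_k` -/
def yZMat (k : Fin m) (t : F) : Matrix (OI m) (OI m) F :=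
  1 + Matrix.single zI (eI k) t - Matrix.single (fI k) zI (2 * t) - Matrix.single (fI k) (eI k) (t ^ 2)

/-- the reflection `e_i ↔ e_j`, `f_i ↔ f_j` -/
noncomputable def sPerm (i j : Fin m) : OG m F := ofMat (sPermMat m F i j)

/-- the reflection `e_k ↔ f_k` -/
noncomputable def sFlip (k : Fin m) : OG m F := ofMat (sFlipMat m F k)

/-- the longest element `e_i ↔ f_i` (all `i`) -/
noncomputable def w0 : OG m F := ofMat (w0Mat m F)

/-- the root element `x_{ε_i - ε_j}(t)` (`i ≠ j`) -/
noncomputable def xPerm (i j : Fin m) (t : F) : OG m F := ofMat (xPermMat m F i j t)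

/-- the root element `x_{ε_k}(t)` -/
noncomputable def xZ (k : Fin m) (t : F) : OG m F := ofMat (xZMat m F k t)

/-- the root element `x_{-ε_k}(t)` -/
noncomputable def yZ (k : Fin m) (t : F) : OG m F := ofMat (yZMat m F k t)

variable {m}

/-- the next index -/
def nxt (i : Fin m) (hi : i.val + 1 < m) : Fin m := ⟨i.val + 1, hi⟩

theorem ne_nxt (i : Fin m) (hi : i.val + 1 < m) : i ≠ nxt i hi := by
  intro h
  have := congrArg Fin.val h
  simp [nxt] at this

theorem nxt_ne (i : Fin m) (hi : i.val + 1 < m) : nxt i hi ≠ i := (ne_nxt i hi).symm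

/-- the last index -/
def lastF (hm : 0 < m) : Fin m := ⟨m - 1, Nat.sub_lt hm Nat.one_pos⟩

variable (m)

/-- the simple reflections: `sPerm i (i+1)` for `i + 1 < m`, and `sFlip (m-1)` -/
def Sset : Set (OG m F) :=
  {s | (∃ (i : Fin m) (hi : i.val + 1 < m), s = sPerm m F i (nxt i hi)) ∨
    ∃ hm : 0 < m, s = sFlip m F (lastF hm)}

/-- `N = ⟨S⟩ T` -/
def Nsub : Subgroup (OG m F) := Subgroup.closure (Sset m F) ⊔ Tsub m F

/-- `n` is monomial with permutation `σ` (`n e_b ∈ F^× e_{σ b}`), and `σ` commutes with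
the duality `e_i ↔ f_i` -/
def MonWith (n : OG m F) (σ : Equiv.Perm (OI m)) : Prop :=
  (∀ a b, mat n a b ≠ 0 ↔ a = σ b) ∧ ∀ a, σ (dualE m a) = dualE m (σ a)

end Cfsg.Agent.Lib.Helper48.StO
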