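import Cfsg.Agent.Lib.Helper06.Hall4.Defs

/-!
# K-H4-RG (keystone 422117, S4221 pack, architect helper6): `|Preg x y| + f + 4 = n`
-/

set_option autoImplicit false
open Equiv

namespace Cfsg.Agent.Lib.Helper48.Hall4
open Cfsg.Agent.Lib.Helper06.Hall4

variable {α : Type*} [Fintype α] [DecidableEq α]

theorem nfix_eq_card (t : Perm α) :
    nfix t = (Finset.univ.filter (fun j => t j = j)).card := by
  unfold nfix
  rw [← Set.ncard_coe_finset]
  congr 1
  ext j
  simp [Function.mem_fixedPoints, Function.IsFixedPt]

theorem ncard_Preg_eq_card (x y : Perm α) :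
    (Preg x y).ncard =
      (Finset.univ.filter (fun j => x j ≠ j ∧ y j ≠ j ∧ x (y j) ≠ j)).card := by
  rw [← Set.ncard_coe_finset]
  congr 1
  ext j
  simp [mem_Preg]

/-- LEAF RG (422117). -/
theorem ncard_Preg (G : Subgroup (Perm α)) {a b c d : α} {x y : Perm α}
    (hV : VData G a b c d x y) {f : ℕ} (hf : f ≤ 3) (hfx : nfix x = f) (hfy : nfix y = f)
    (hfz : nfix (x * y) = f) : (Preg x y).ncard + f + 4 = Fintype.card α := by
  classical
  rw [nfix_eq_card] at hfx hfy hfz
  rw [ncard_Preg_eq_card]
  have hxy : ∀ j, x (y j) = y (x j) := by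
    intro j
    have := congrArg (fun p : Perm α => p j) hV.comm
    simpa [Perm.mul_apply] using this
  have hyy : ∀ j, y (y j) = j := by
    intro j
    have := congrArg (fun p : Perm α => p j) hV.y2
    simpa [Perm.mul_apply] using this
  have hxx : ∀ j, x (x j) = j := by
    intro j
    have := congrArg (fun p : Perm α => p j) hV.x2
    simpa [Perm.mul_apply] using this
  obtain ⟨A, hA⟩ : ∃ A : Finset α, A = Finset.univ.filter (fun j => x j = j) := ⟨_, rfl⟩
  obtain ⟨B, hB⟩ : ∃ B : Finset α, B = Finset.univ.filter (fun j => y j = j) := ⟨_, rfl⟩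
  obtain ⟨C, hC⟩ : ∃ C : Finset α, C = Finset.univ.filter (fun j => (x * y) j = j) := ⟨_, rfl⟩
  rw [← hA] at hfx
  rw [← hB] at hfy
  rw [← hC] at hfz
  have memA : ∀ j, j ∈ A ↔ x j = j := by intro j; rw [hA]; simp
  have memB : ∀ j, j ∈ B ↔ y j = j := by intro j; rw [hB]; simp
  have memC : ∀ j, j ∈ C ↔ x (y j) = j := by
    intro j
    rw [hC, Finset.mem_filter]
    simp only [Finset.mem_univ, true_and, Perm.mul_apply]
  -- the Preg finset is the complement of the union
  have hP : Finset.univ.filter (fun j => x j ≠ j ∧ y j ≠ j ∧ x (y j) ≠ j) = (A ∪ B ∪ C)ᶜ := by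
    ext j
    simp only [Finset.mem_filter, Finset.mem_univ, true_and, Finset.mem_compl, Finset.mem_union,
      memA, memB, memC, not_or]
    tauto
  rw [hP, Finset.card_compl]
  -- pairwise intersections
  have hAC : (A ∪ B) ∩ C = A ∩ B := by
    ext j
    simp only [Finset.mem_inter, Finset.mem_union, memA, memB, memC]
    constructor
    · rintro ⟨h | h, h3⟩
      · refine ⟨h, ?_⟩
        rw [hxy, h] at h3
        exact h3
      · refine ⟨?_, h⟩
        rw [h] at h3
        exact h3
    · rintro ⟨h1, h2⟩
      refine ⟨Or.inl h1, ?_⟩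
      rw [h2, h1]
  -- `A ∩ B = A \ {a, b}`
  have haA : a ∈ A := (memA a).mpr hV.xa
  have hbA : b ∈ A := (memA b).mpr hV.xb
  have hAB : A ∩ B = A \ {a, b} := by
    ext j
    simp only [Finset.mem_inter, Finset.mem_sdiff, Finset.mem_insert, Finset.mem_singleton,
      memA, memB, not_or]
    constructor
    · rintro ⟨h1, h2⟩
      refine ⟨h1, ?_, ?_⟩
      · rintro rfl
        rw [hV.ya] at h2
        exact hV.hab h2.symm
      · rintro rfl
        rw [hV.yb] at h2
        exact hV.hab h2
    · rintro ⟨h1, hja, hjb⟩
      refine ⟨h1, ?_⟩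
      by_contra hyj
      -- four distinct fixed points of `x`
      have hyjA : y j ∈ A := by
        rw [memA, hxy, h1]
      have hyja : y j ≠ a := by
        intro h
        apply hjb
        have := congrArg y h
        rw [hyy, hV.ya] at this
        exact this
      have hyjb : y j ≠ b := by
        intro h
        apply hja
        have := congrArg y h
        rw [hyy, hV.yb] at this
        exact this
      have hsub : ({a, b, j, y j} : Finset α) ⊆ A := by
        intro k hk
        simp only [Finset.mem_insert, Finset.mem_singleton] at hk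
        rcases hk with rfl | rfl | rfl | rfl
        · exact haA
        · exact hbA
        · exact (memA _).mpr h1
        · exact hyjA
      have hcard4 : ({a, b, j, y j} : Finset α).card = 4 := by
        rw [Finset.card_insert_of_notMem, Finset.card_insert_of_notMem,
          Finset.card_insert_of_notMem, Finset.card_singleton]
        · simp only [Finset.mem_singleton]
          exact fun h => hyj h.symm
        · simp only [Finset.mem_insert, Finset.mem_singleton, not_or]
          exact ⟨fun h => hjb h.symm, fun h => hyjb h.symm⟩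
        · simp only [Finset.mem_insert, Finset.mem_singleton, not_or]
          exact ⟨hV.hab, fun h => hja h.symm, fun h => hyja h.symm⟩
      have := Finset.card_le_card hsub
      omega
  have hsubab : ({a, b} : Finset α) ⊆ A := by
    intro k hk
    simp only [Finset.mem_insert, Finset.mem_singleton] at hk
    rcases hk with rfl | rfl
    · exact haA
    · exact hbA
  have hcardab : ({a, b} : Finset α).card = 2 := Finset.card_pair hV.hab
  have hk : (A ∩ B).card + 2 = f := by
    rw [hAB, Finset.card_sdiff_of_subset hsubab, hcardab, hfx]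
    have := Finset.card_le_card hsubab
    omega
  have h1 := Finset.card_union_add_card_inter A B
  have h2 := Finset.card_union_add_card_inter (A ∪ B) C
  rw [hAC] at h2
  have h3 : (A ∪ B ∪ C).card ≤ Fintype.card α := Finset.card_le_univ _
  omega

end Cfsg.Agent.Lib.Helper48.Hall4
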