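import Mathlib

/-!
K-S3360-COP (keystone 227626) and K-S3360-POW (keystone 227625), architect helper6.
-/

set_option autoImplicit false

universe u

namespace Cfsg.Agent.Lib.Helper48.NF2

variable {H : Type u} [Group H]

/-- If `a = x b x⁻¹ b⁻¹` commutes with `x` (and hence `x b x⁻¹ = a b`), then `x^k b x^-k = a^k b`. -/
theorem conj_pow_of_commute (x b : H) (hax : Commute (x * b * x⁻¹ * b⁻¹) x) (k : ℕ) :
    x ^ k * b * (x ^ k)⁻¹ = (x * b * x⁻¹ * b⁻¹) ^ k * b := by
  set a := x * b * x⁻¹ * b⁻¹ with ha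
  have hconj : x * b * x⁻¹ = a * b := by simp [ha]
  induction k with
  | zero => simp
  | succ k ih =>
    have hc : Commute (a ^ k) x := hax.pow_left k
    calc x ^ (k + 1) * b * (x ^ (k + 1))⁻¹ = x * (x ^ k * b * (x ^ k)⁻¹) * x⁻¹ := by
          rw [pow_succ']; group
      _ = x * (a ^ k * b) * x⁻¹ := by rw [ih]
      _ = (x * a ^ k) * b * x⁻¹ := by group
      _ = (a ^ k * x) * b * x⁻¹ := by rw [hc.eq]
      _ = a ^ k * (x * b * x⁻¹) := by group
      _ = a ^ (k + 1) * b := by rw [hconj, ← mul_assoc, ← pow_succ]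

/-- If moreover `x^n` commutes with `b`, then `a^n = 1`. -/
theorem comm_pow_eq_one (x b : H) (hax : Commute (x * b * x⁻¹ * b⁻¹) x) (n : ℕ)
    (hn : Commute (x ^ n) b) : (x * b * x⁻¹ * b⁻¹) ^ n = 1 := by
  have h := conj_pow_of_commute x b hax n
  rw [hn.eq, mul_inv_cancel_right] at h
  exact (mul_eq_right.mp h.symm)

/-- If `a = x b x⁻¹ b⁻¹` commutes with `b` and `x` commutes with `b^n`, then `a^n = 1`. -/
theorem comm_pow_eq_one' (x b : H) (hab : Commute (x * b * x⁻¹ * b⁻¹) b) (n : ℕ)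
    (hn : Commute x (b ^ n)) : (x * b * x⁻¹ * b⁻¹) ^ n = 1 := by
  set a := x * b * x⁻¹ * b⁻¹ with ha
  have hconj : x * b * x⁻¹ = a * b := by simp [ha]
  have h1 : x * b ^ n * x⁻¹ = a ^ n * b ^ n := by
    rw [← conj_pow, hconj, hab.mul_pow]
  rw [hn.eq, mul_inv_cancel_right] at h1
  exact (mul_eq_right.mp h1.symm)

variable [Finite H]

/-- K-S3360-COP (coprime action). -/
theorem commute_of_coprime (A B : Subgroup H) (r l : ℕ) (hr : r.Prime) (hl : l.Prime) (hlr : l ≠ r)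
    (hBC : B ≤ Subgroup.centralizer (A : Set H)) (hexp : ∀ x ∈ B, x ^ r ∈ A)
    (x : H) (hxA : x ∈ Subgroup.centralizer (A : Set H)) (hxl : x ^ l = 1)
    (hx : ∀ b ∈ B, x * b * x⁻¹ * b⁻¹ ∈ A) : ∀ b ∈ B, x * b = b * x := by
  intro b hb
  have haA : x * b * x⁻¹ * b⁻¹ ∈ A := hx b hb
  have hax : Commute (x * b * x⁻¹ * b⁻¹) x := Subgroup.mem_centralizer_iff.mp hxA _ haA
  have hab : Commute (x * b * x⁻¹ * b⁻¹) b := Subgroup.mem_centralizer_iff.mp (hBC hb) _ haA
  have hal : (x * b * x⁻¹ * b⁻¹) ^ l = 1 :=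
    comm_pow_eq_one x b hax l (by rw [hxl]; exact Commute.one_left b)
  have har : (x * b * x⁻¹ * b⁻¹) ^ r = 1 :=
    comm_pow_eq_one' x b hab r (Subgroup.mem_centralizer_iff.mp hxA _ (hexp b hb)).symm
  have hg : (x * b * x⁻¹ * b⁻¹) ^ (Nat.gcd l r) = 1 := pow_gcd_eq_one.mpr ⟨hal, har⟩
  rw [(Nat.coprime_primes hl hr).mpr hlr, pow_one] at hg
  have : x * b * x⁻¹ = b := by
    have := congrArg (· * b) hg
    simpa using this
  calc x * b = (x * b * x⁻¹) * x := by group
    _ = b * x := by rw [this]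

/-- K-S3360-POW. -/
theorem relIndex_eq_pow (A B : Subgroup H) (r : ℕ) (hr : r.Prime) (hAB : A ≤ B)
    (hBC : B ≤ Subgroup.centralizer (A : Set H))
    (hcomm : ∀ x ∈ B, ∀ y ∈ B, x * y * x⁻¹ * y⁻¹ ∈ A) (hexp : ∀ x ∈ B, x ^ r ∈ A)
    (hna : ∃ x ∈ B, ∃ y ∈ B, x * y ≠ y * x) :
    r ∣ Nat.card A ∧ ∃ w : ℕ, 2 ≤ w ∧ A.relIndex B = r ^ w := by
  have : Fact r.Prime := ⟨hr⟩
  obtain ⟨x, hxB, y, hyB, hxy⟩ := hna
  constructor
  · have hcA : x * y * x⁻¹ * y⁻¹ ∈ A := hcomm x hxB y hyB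
    have hcx : Commute (x * y * x⁻¹ * y⁻¹) x := Subgroup.mem_centralizer_iff.mp (hBC hxB) _ hcA
    have hcr : (x * y * x⁻¹ * y⁻¹) ^ r = 1 :=
      comm_pow_eq_one x y hcx r (Subgroup.mem_centralizer_iff.mp (hBC hyB) _ (hexp x hxB))
    have hc1 : x * y * x⁻¹ * y⁻¹ ≠ 1 := by
      intro h
      apply hxy
      have := congrArg (· * y * x) h
      simpa using this
    have hord : orderOf (x * y * x⁻¹ * y⁻¹) = r := orderOf_eq_prime hcr hc1
    rw [← hord]
    exact Subgroup.orderOf_dvd_natCard A hcA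
  · -- the quotient
    have hcen : A.subgroupOf B ≤ Subgroup.center B := by
      intro n hn
      rw [Subgroup.mem_center_iff]
      intro g
      have := Subgroup.mem_centralizer_iff.mp (hBC g.2) _ (Subgroup.mem_subgroupOf.mp hn)
      apply Subtype.ext
      simpa using this.symm
    have hN : (A.subgroupOf B).Normal := by
      constructor
      intro n hn g
      have := Subgroup.mem_center_iff.mp (hcen hn) g
      have h2 : g * n * g⁻¹ = n := by rw [this]; group
      rw [h2]; exact hn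
    have hp : IsPGroup r (B ⧸ A.subgroupOf B) := by
      intro q
      induction q using QuotientGroup.induction_on with
      | H b =>
        refine ⟨1, ?_⟩
        rw [pow_one, ← QuotientGroup.mk_pow, QuotientGroup.eq_one_iff, Subgroup.mem_subgroupOf]
        simpa using hexp b b.2
    obtain ⟨w, hw⟩ := IsPGroup.iff_card.mp hp
    have hidx : A.relIndex B = r ^ w := by
      rw [← hw]; rfl
    refine ⟨w, ?_, hidx⟩
    by_contra hlt
    have hw01 : w = 0 ∨ w = 1 := by omega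
    rcases hw01 with h0 | h1
    · rw [h0, pow_zero, Subgroup.relIndex_eq_one] at hidx
      exact hxy (Subgroup.mem_centralizer_iff.mp (hBC hyB) _ (hidx hxB))
    · rw [h1, pow_one] at hw
      have : IsCyclic (B ⧸ A.subgroupOf B) := isCyclic_of_prime_card hw
      have hcm : IsMulCommutative B :=
        MonoidHom.isMulCommutative_of_isCyclic_of_ker_le_center (QuotientGroup.mk' (A.subgroupOf B))
          (by rw [QuotientGroup.ker_mk']; exact hcen)
      have := hcm.is_comm.comm (⟨x, hxB⟩ : B) ⟨y, hyB⟩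
      apply hxy
      simpa using congrArg Subtype.val this

end Cfsg.Agent.Lib.Helper48.NF2
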