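import Mathlib
import Cfsg.Agent.Lib.Helper06.SylAlt.Defs
import Cfsg.Agent.Lib.Helper06.SylTwo.Defs
import Cfsg.Agent.Lib.Helper64.MarggrafC

/-!
# K-SylTwo-E3 (keystone 292812, S2928 pack, architect helper6)

A group `G` generated by Klein four-groups, transitive and primitive on `Δ` (`|Δ| ≥ 9`) and fixing
`Δᶜ` pointwise, contains `altOn Δ` (Marggraf, primitive case, for the induced group on `↥Δ`).
-/

set_option autoImplicit false

namespace Cfsg.Agent.Lib.Helper48.SylTwo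

open Equiv Equiv.Perm
open Cfsg.Agent.Lib.Helper06.SylAlt Cfsg.Agent.Lib.Helper06.SylTwo

section Perm
variable {α : Type*} [DecidableEq α]

/-- elements of the Klein group fix the points outside `{a,b,c,d}` -/
theorem klein_fix {a b c d : α} {w : Perm α} (hw : w ∈ klein a b c d) {z : α}
    (hza : z ≠ a) (hzb : z ≠ b) (hzc : z ≠ c) (hzd : z ≠ d) : w z = z := by
  have hle : klein a b c d ≤ MulAction.stabilizer (Perm α) z := by
    unfold klein
    rw [Subgroup.closure_le]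
    rintro v (rfl | rfl)
    · rw [SetLike.mem_coe, MulAction.mem_stabilizer_iff, Perm.smul_def, Perm.mul_apply,
        swap_apply_of_ne_of_ne hzc hzd, swap_apply_of_ne_of_ne hza hzb]
    · rw [SetLike.mem_coe, MulAction.mem_stabilizer_iff, Perm.smul_def, Perm.mul_apply,
        swap_apply_of_ne_of_ne hzb hzd, swap_apply_of_ne_of_ne hza hzc]
  exact hle hw

/-- the Klein group is transitive on `{a,b,c,d}` -/
theorem klein_trans {a b c d : α} (hab : a ≠ b) (hac : a ≠ c) (had : a ≠ d) (hbd : b ≠ d)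
    (hcd : c ≠ d) {x : α} (hx : x = a ∨ x = b ∨ x = c ∨ x = d) :
    ∃ w ∈ klein a b c d, w a = x := by
  have h1 : swap a b * swap c d ∈ klein a b c d :=
    Subgroup.subset_closure (Set.mem_insert _ _)
  have h2 : swap a c * swap b d ∈ klein a b c d :=
    Subgroup.subset_closure (Set.mem_insert_of_mem _ rfl)
  rcases hx with rfl | rfl | rfl | rfl
  · exact ⟨1, Subgroup.one_mem _, rfl⟩
  · refine ⟨_, h1, ?_⟩
    rw [Perm.mul_apply, swap_apply_of_ne_of_ne hac had, swap_apply_left]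
  · refine ⟨_, h2, ?_⟩
    rw [Perm.mul_apply, swap_apply_of_ne_of_ne hab had, swap_apply_left]
  · refine ⟨_, Subgroup.mul_mem _ h1 h2, ?_⟩
    rw [Perm.mul_apply, Perm.mul_apply, Perm.mul_apply, swap_apply_of_ne_of_ne hab had,
      swap_apply_left, swap_apply_left, swap_apply_of_ne_of_ne had.symm hbd.symm]

end Perm

section Main
variable {α : Type*} [Fintype α] [DecidableEq α]

open MulAction SubMulAction in
open scoped Pointwise in
/-- **K-SylTwo-E3.** -/
theorem altOn_le_of_primitive (𝒲 : Set (Subgroup (Perm α))) (G : Subgroup (Perm α)) (Δ : Set α)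
    (hJK : JK 𝒲 G Δ) (hne : 𝒲.Nonempty) (h9 : 9 ≤ Δ.ncard)
    (hprim : ∀ β : Set α, β ⊆ Δ → IsBlk G β → β.ncard ≤ 1 ∨ β = Δ) : altOn Δ ≤ G := by
  classical
  obtain ⟨W, hW⟩ := hne
  obtain ⟨a, b, c, d, hab, hac, had, hbc, hbd, hcd, rfl⟩ := hJK.klein W hW
  have hWG : klein a b c d ≤ G := by rw [hJK.gen]; exact le_sSup hW
  -- `G` preserves `Δ`
  have hsupp : ∀ g ∈ G, ∀ x, g x ≠ x → x ∈ Δ := by
    intro g hg x hx
    by_contra h
    exact hx (hJK.fix g hg x h)
  have hmem : ∀ g ∈ G, ∀ x, g x ∈ Δ ↔ x ∈ Δ := by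
    intro g hg x
    constructor
    · intro h
      by_contra hx
      rw [hJK.fix g hg x hx] at h
      exact hx h
    · intro h
      by_contra hgx
      have h3 : g (g x) = g x := hJK.fix g hg _ hgx
      have h4 : g x = x := g.injective h3
      rw [h4] at hgx
      exact hgx h
  have hof : ∀ g (hg : g ∈ G), ofSubtype (subtypePerm g (hmem g hg)) = g := fun g hg =>
    ofSubtype_subtypePerm (hmem g hg) (hsupp g hg)
  -- the induced group on `↥Δ`
  obtain ⟨Ĝ, hĜ⟩ : ∃ Ĝ : Subgroup (Perm ↥Δ), Ĝ = G.comap (ofSubtype : Perm ↥Δ →* Perm α) :=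
    ⟨_, rfl⟩
  have hmemĜ : ∀ g (hg : g ∈ G), subtypePerm g (hmem g hg) ∈ Ĝ := by
    intro g hg
    rw [hĜ, Subgroup.mem_comap, hof g hg]
    exact hg
  have hsmul : ∀ (s : ↥Ĝ) (x : ↥Δ), s • x = (s : Perm ↥Δ) x := fun _ _ => rfl
  -- the four points lie in `Δ`
  have hmove : ∀ x, (x = a ∨ x = b ∨ x = c ∨ x = d) → x ∈ Δ := by
    have ha : a ∈ Δ := by
      obtain ⟨w, hw, hwa⟩ := klein_trans hab hac had hbd hcd (x := b) (Or.inr (Or.inl rfl))
      exact hsupp w (hWG hw) a (by rw [hwa]; exact hab.symm)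
    intro x hx
    obtain ⟨w, hw, hwa⟩ := klein_trans hab hac had hbd hcd hx
    rw [← hwa]
    exact (hmem w (hWG hw) a).mpr ha
  -- transitivity
  have htr : IsPretransitive ↥Ĝ ↥Δ := by
    refine ⟨fun x y => ?_⟩
    obtain ⟨g, hg, hgx⟩ := hJK.trans x x.2 y y.2
    refine ⟨⟨_, hmemĜ g hg⟩, ?_⟩
    apply Subtype.ext
    rw [hsmul]
    exact hgx
  -- primitivity
  have hprim' : IsPreprimitive ↥Ĝ ↥Δ := by
    refine @IsPreprimitive.mk _ _ _ htr ?_
    intro B hB
    have hβΔ : Subtype.val '' B ⊆ Δ := by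
      rintro _ ⟨x, _, rfl⟩
      exact x.2
    have himg : ∀ g (hg : g ∈ G), g '' (Subtype.val '' B) =
        Subtype.val '' ((⟨_, hmemĜ g hg⟩ : ↥Ĝ) • B) := by
      intro g hg
      ext y
      constructor
      · rintro ⟨_, ⟨x, hx, rfl⟩, rfl⟩
        exact ⟨(⟨_, hmemĜ g hg⟩ : ↥Ĝ) • x, Set.smul_mem_smul_set hx, rfl⟩
      · rintro ⟨_, ⟨x, hx, rfl⟩, rfl⟩
        exact ⟨x, ⟨x, hx, rfl⟩, rfl⟩
    have hblk : IsBlk G (Subtype.val '' B) := by
      intro g hg
      rw [himg g hg]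
      rcases hB.smul_eq_or_disjoint (⟨_, hmemĜ g hg⟩ : ↥Ĝ) with h | h
      · left
        rw [h]
      · right
        exact (Set.disjoint_image_iff Subtype.val_injective).mpr h
    rcases hprim _ hβΔ hblk with h | h
    · left
      have h1 : (Subtype.val '' B).Subsingleton := Set.ncard_le_one_iff_subsingleton.mp h
      intro x hx y hy
      exact Subtype.ext (h1 ⟨x, hx, rfl⟩ ⟨y, hy, rfl⟩)
    · right
      rw [Set.eq_univ_iff_forall]
      intro x
      have hx : (x : α) ∈ Subtype.val '' B := by rw [h]; exact x.2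
      obtain ⟨y, hy, hyx⟩ := hx
      rw [← Subtype.ext hyx]
      exact hy
  -- the Jordan set
  obtain ⟨Γ, hΓ⟩ : ∃ Γ : Set ↥Δ,
      Γ = {x : ↥Δ | (x : α) = a ∨ (x : α) = b ∨ (x : α) = c ∨ (x : α) = d} :=
    ⟨_, rfl⟩
  have hΓcard : Γ.ncard = 4 := by
    have e : Γ = {⟨a, hmove a (Or.inl rfl)⟩, ⟨b, hmove b (Or.inr (Or.inl rfl))⟩,
        ⟨c, hmove c (Or.inr (Or.inr (Or.inl rfl)))⟩,
        ⟨d, hmove d (Or.inr (Or.inr (Or.inr rfl)))⟩} := by
      rw [hΓ]
      ext x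
      simp only [Set.mem_ofPred_eq, Set.mem_insert_iff, Set.mem_singleton_iff, Subtype.ext_iff]
    rw [e, Set.ncard_insert_of_notMem, Set.ncard_insert_of_notMem, Set.ncard_insert_of_notMem,
      Set.ncard_singleton]
    · simp only [Set.mem_singleton_iff, Subtype.mk.injEq]; exact hcd
    · simp only [Set.mem_insert_iff, Set.mem_singleton_iff, Subtype.mk.injEq, not_or]
      exact ⟨hbc, hbd⟩
    · simp only [Set.mem_insert_iff, Set.mem_singleton_iff, Subtype.mk.injEq, not_or]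
      exact ⟨hab, hac, had⟩
  have : Fintype ↥Δ := Fintype.ofFinite ↥Δ
  have hcardΔ : Fintype.card ↥Δ = Δ.ncard := by
    rw [← Nat.card_eq_fintype_card, Nat.card_coe_set_eq]
  have hJ : IsPretransitive ↥(fixingSubgroup ↥Ĝ Γᶜ) ↥(ofFixingSubgroup ↥Ĝ Γᶜ) := by
    -- for each point of `Γ` an element of the Klein group moving `a` to it
    have hpt : ∀ x : ↥Δ, x ∈ Γ → ∃ s : ↥(fixingSubgroup ↥Ĝ Γᶜ),
        ((s : ↥Ĝ) : Perm ↥Δ) ⟨a, hmove a (Or.inl rfl)⟩ = x := by
      intro x hx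
      rw [hΓ] at hx
      obtain ⟨w, hw, hwa⟩ := klein_trans hab hac had hbd hcd hx
      refine ⟨⟨⟨_, hmemĜ w (hWG hw)⟩, ?_⟩, ?_⟩
      · rw [mem_fixingSubgroup_iff]
        intro z hz
        rw [hsmul]
        apply Subtype.ext
        rw [subtypePerm_apply]
        have hz' : ¬ ((z : α) = a ∨ (z : α) = b ∨ (z : α) = c ∨ (z : α) = d) := by
          intro h
          apply hz
          rw [hΓ]
          exact h
        simp only [not_or] at hz'
        exact klein_fix hw hz'.1 hz'.2.1 hz'.2.2.1 hz'.2.2.2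
      · apply Subtype.ext
        rw [subtypePerm_apply]
        exact hwa
    refine ⟨fun x y => ?_⟩
    have hxΓ : (x : ↥Δ) ∈ Γ := by
      have := x.2
      rw [mem_ofFixingSubgroup_iff] at this
      exact not_not.mp this
    have hyΓ : (y : ↥Δ) ∈ Γ := by
      have := y.2
      rw [mem_ofFixingSubgroup_iff] at this
      exact not_not.mp this
    obtain ⟨s, hs⟩ := hpt x hxΓ
    obtain ⟨t, ht⟩ := hpt y hyΓ
    refine ⟨t * s⁻¹, ?_⟩
    apply Subtype.ext
    show ((t * s⁻¹ : ↥(fixingSubgroup ↥Ĝ Γᶜ)) : ↥Ĝ) • (x : ↥Δ) = (y : ↥Δ)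
    rw [hsmul]
    show (((t : ↥Ĝ) : Perm ↥Δ) * ((s : ↥Ĝ) : Perm ↥Δ)⁻¹) (x : ↥Δ) = (y : ↥Δ)
    rw [Perm.mul_apply, ← hs, Perm.inv_eq_iff_eq.mpr rfl, ht]
  have key := Cfsg.Agent.Lib.Helper64.Marggraf.primitive_case ↥Ĝ ↥Δ hprim' Γ
    (by rw [hΓcard]; norm_num) (by rw [hΓcard, hcardΔ]; omega) hJ
  -- conclusion
  intro σ hσ
  obtain ⟨hσA, hσfix⟩ := hσ
  have h₂ : ∀ x, σ x ≠ x → x ∈ Δ := by
    intro x hx
    by_contra hxΔ
    exact hx (hσfix x hxΔ)
  have h₁ : ∀ x, σ x ∈ Δ ↔ x ∈ Δ := by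
    intro x
    constructor
    · intro h
      by_contra hxΔ
      rw [hσfix x hxΔ] at h
      exact hxΔ h
    · intro h
      by_contra hσx
      have h3 : σ (σ x) = σ x := hσfix _ hσx
      have h4 : σ x = x := σ.injective h3
      rw [h4] at hσx
      exact hσx h
  have hofσ : ofSubtype (subtypePerm σ h₁) = σ := ofSubtype_subtypePerm h₁ h₂
  have hsign : Perm.sign (subtypePerm σ h₁) = 1 := by
    rw [← Perm.sign_ofSubtype, hofσ]
    exact Perm.mem_alternatingGroup.mp hσA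
  obtain ⟨x, hx⟩ := key (subtypePerm σ h₁) hsign
  have hx' : (x : Perm ↥Δ) = subtypePerm σ h₁ := by
    rw [← hx]
    ext y
    rfl
  have hxG : ofSubtype (x : Perm ↥Δ) ∈ G := by
    have h5 : (x : Perm ↥Δ) ∈ G.comap (ofSubtype : Perm ↥Δ →* Perm α) := hĜ ▸ x.2
    exact Subgroup.mem_comap.mp h5
  rw [hx', hofσ] at hxG
  exact hxG

end Main

end Cfsg.Agent.Lib.Helper48.SylTwo
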