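import Cfsg.Agent.Lib.Helper07.OrthTd
import Cfsg.Agent.Lib.Helper50.PlusKer
import Cfsg.Agent.Lib.Helper50.ClsPlus
import Cfsg.Agent.Lib.Helper19.MinusInnTwo

set_option autoImplicit false

/-!
# K-S2717-U6 (keystone 271706, architect helper7): in characteristic two `Inndiag(PΩ⁺_{2m}) = Inn(PΩ⁺_{2m})`.

Plus-type analogue of `Cfsg.Agent.Lib.Helper19.MinusInnTwo.inndiagPOmegaMinus_eq_inn`: the class-preserving
isometries form a proper subgroup containing `Ω`, which has index two.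
-/

namespace Cfsg.Agent.Lib.Helper48.S2717K

open Matrix Cfsg.Agent.Lib.Helper08 Cfsg.Agent.Lib.Helper07.OG Cfsg.Agent.Lib.Helper50
open Cfsg.Agent.Lib.Helper51.POAut

universe u v

section U_6

variable {F : Type u} [Field F] (m : ℕ)

/-- the class-preserving isometries of the hyperbolic form -/
def clsIso : Subgroup ↥(Cfsg.isometryGroup F (Cfsg.quadFormPlus m F)) :=
  (clsPlus (F := F) m).comap (Subgroup.inclusion (isometryGroup_le_similarity (Cfsg.quadFormPlus m F)))

theorem mem_clsIso (g : ↥(Cfsg.isometryGroup F (Cfsg.quadFormPlus m F))) :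
    g ∈ clsIso (F := F) m ↔ Cfsg.PreservesSingularClasses (Cfsg.quadFormPlus m F)
      ((g : GL (Fin m ⊕ Fin m) F) : Matrix (Fin m ⊕ Fin m) (Fin m ⊕ Fin m) F) := Iff.rfl

/-- a subgroup of index at most two in the sense "product of two outsiders is inside" contains the
commutator subgroup -/
theorem commutator_le_of_mul_mem {G : Type*} [Group G] (K : Subgroup G)
    (h : ∀ a b : G, a ∉ K → b ∉ K → a * b ∈ K) : ⁅(⊤ : Subgroup G), ⊤⁆ ≤ K := by
  have hinv : ∀ a : G, a⁻¹ ∈ K ↔ a ∈ K := fun a => K.inv_mem_iff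
  rw [Subgroup.commutator_le]
  intro a _ b _
  rw [commutatorElement_def]
  by_cases ha : a ∈ K
  · by_cases hb : b ∈ K
    · exact K.mul_mem (K.mul_mem (K.mul_mem ha hb) (K.inv_mem ha)) (K.inv_mem hb)
    · -- `a ∈ K`, `b ∉ K`: `b a⁻¹ ∉ K`, `b⁻¹ ∉ K`
      have h1 : b * a⁻¹ ∉ K := fun hc => hb (by
        have := K.mul_mem hc ha
        simpa using this)
      have h2 : b⁻¹ ∉ K := fun hc => hb ((hinv b).1 hc)
      have h3 := h (b * a⁻¹) b⁻¹ h1 h2
      have h4 := K.mul_mem ha h3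
      simpa [mul_assoc] using h4
  · by_cases hb : b ∈ K
    · have h1 : a * b ∉ K := fun hc => ha (by
        have := K.mul_mem hc (K.inv_mem hb)
        simpa using this)
      have h2 : a⁻¹ ∉ K := fun hc => ha ((hinv a).1 hc)
      have h3 := h (a * b) a⁻¹ h1 h2
      exact K.mul_mem h3 (K.inv_mem hb)
    · have h1 : a * b ∈ K := h a b ha hb
      have h2 : a⁻¹ ∉ K := fun hc => ha ((hinv a).1 hc)
      have h3 : b⁻¹ ∉ K := fun hc => hb ((hinv b).1 hc)
      have h4 := h a⁻¹ b⁻¹ h2 h3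
      have h5 := K.mul_mem h1 h4
      simpa [mul_assoc] using h5

theorem mul_mem_clsIso_of_not (a b : ↥(Cfsg.isometryGroup F (Cfsg.quadFormPlus m F)))
    (ha : a ∉ clsIso (F := F) m) (hb : b ∉ clsIso (F := F) m) : a * b ∈ clsIso (F := F) m :=
  mul_mem_clsPlus_of_not m
    (Subgroup.inclusion (isometryGroup_le_similarity (Cfsg.quadFormPlus m F)) a)
    (Subgroup.inclusion (isometryGroup_le_similarity (Cfsg.quadFormPlus m F)) b) ha hb

theorem Omega_le_clsIso : Cfsg.Omega F (Cfsg.quadFormPlus m F) ≤ clsIso (F := F) m := by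
  have h := commutator_le_of_mul_mem (clsIso (F := F) m) (mul_mem_clsIso_of_not m)
  rwa [← commutator_def] at h

end U_6

section final

open Cfsg.Agent.Lib.Helper43 Cfsg.Agent.Lib.Helper19 Cfsg.Agent.Lib.Helper19.MinusInnTwo

variable {F : Type u} [Field F] [Fintype F]

theorem clsIso_eq_Omega (h2 : (2 : F) = 0) {m : ℕ} (hm : 4 ≤ m) :
    clsIso (F := F) m = Cfsg.Omega F (Cfsg.quadFormPlus m F) := by
  have hc2 : CharP F 2 := CharTwo.of_one_ne_zero_of_two_eq_zero one_ne_zero h2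
  have hQF : (QuadraticMap.polarBilin (QPlus m F)).Nondegenerate := QPlus_nondegenerate
  have hle := Omega_le_clsIso (F := F) m
  have hne : Nonempty (Fin m ⊕ Fin m) := ⟨Sum.inl ⟨0, by omega⟩⟩
  have hidx : (Cfsg.Omega F (Cfsg.quadFormPlus m F)).index = 2 :=
    index_Omega_char_two (QPlus m F) hQF (Or.inr (by rw [card_plus_index]; omega))
  obtain ⟨u, hu⟩ := exists_nonsingular (QPlus m F) hQF
  obtain ⟨r, hr⟩ : ∃ r : ↥(Cfsg.isometryGroup F (Cfsg.quadFormPlus m F)),
      ((r : GL (Fin m ⊕ Fin m) F) : Matrix (Fin m ⊕ Fin m) (Fin m ⊕ Fin m) F) =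
        Cfsg.reflectionMatrix (Cfsg.quadFormPlus m F) u :=
    ⟨Cfsg.Agent.Lib.Helper43.reflO (QPlus m F) u, Cfsg.Agent.Lib.Helper43.reflO_val _ u hu⟩
  have hnt : clsIso (F := F) m ≠ ⊤ := by
    intro htop
    have hmem : r ∈ clsIso (F := F) m := by
      rw [htop]; trivial
    exact reflection_not_mem_clsPlus m (by omega)
      (Subgroup.inclusion (isometryGroup_le_similarity (Cfsg.quadFormPlus m F)) r) u hu hr hmem
  have h1 := Subgroup.relIndex_mul_index hle
  rw [hidx] at h1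
  have h3 : (clsIso (F := F) m).index ≠ 1 := fun h => hnt (Subgroup.index_eq_one.1 h)
  have h4 : (clsIso (F := F) m).index ∣ 2 := Dvd.intro_left _ h1
  have h5 : (clsIso (F := F) m).index = 2 := by
    rcases (Nat.dvd_prime Nat.prime_two).1 h4 with h | h
    · exact absurd h h3
    · exact h
  rw [h5] at h1
  have h6 : (Cfsg.Omega F (Cfsg.quadFormPlus m F)).relIndex (clsIso (F := F) m) = 1 := by omega
  exact le_antisymm (Subgroup.relIndex_eq_one.1 h6) hle

/-- in characteristic two a similarity of the hyperbolic form is a scalar multiple of an isometry inducing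
the same automorphism (bridge of `Helper19.MinusInnTwo.exists_isometry_of_similarity`) -/
theorem exists_isometry_plus (h2 : (2 : F) = 0) (m : ℕ)
    (g : ↥(Cfsg.Geo.quadSimilarityGroup (F := F) (Cfsg.quadFormPlus m F))) :
    ∃ (d : F) (_ : d ≠ 0) (g₀ : ↥(Cfsg.isometryGroup F (Cfsg.quadFormPlus m F))),
      ((g₀ : GL (Fin m ⊕ Fin m) F) : Matrix (Fin m ⊕ Fin m) (Fin m ⊕ Fin m) F) =
        d • ((g : GL (Fin m ⊕ Fin m) F) : Matrix (Fin m ⊕ Fin m) (Fin m ⊕ Fin m) F) ∧
      autPO (Cfsg.quadFormPlus m F) g = autO (Cfsg.quadFormPlus m F) g₀ :=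
  exists_isometry_of_similarity (QPlus m F) h2 g

/-- K-S2717-U6: in characteristic two the class-preserving similarities of the hyperbolic form
induce exactly the inner automorphisms. -/
theorem inndiagPOmegaPlus_eq_inn (h2 : (2 : F) = 0) {m : ℕ}
    (hm : 4 ≤ m) :
    Cfsg.inndiagPOmegaPlus m F = Cfsg.Inn (Cfsg.POmega F (Cfsg.quadFormPlus m F)) := by
  rw [inndiagPOmegaPlus_eq, inn_eq (Cfsg.quadFormPlus m F)]
  have hcls := clsIso_eq_Omega h2 hm
  ext β
  constructor
  · rintro ⟨g, hg, rfl⟩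
    obtain ⟨d, hd0, g₀, hval, haut⟩ := exists_isometry_plus h2 m g
    refine ⟨g₀, ?_, ?_⟩
    · rw [SetLike.mem_coe, ← hcls, mem_clsIso, hval]
      exact (psc_smul _ d hd0 _).2 hg
    · exact haut.symm
  · rintro ⟨g, hg, rfl⟩
    rw [SetLike.mem_coe, ← hcls] at hg
    exact ⟨Subgroup.inclusion (isometryGroup_le_similarity (Cfsg.quadFormPlus m F)) g, hg, rfl⟩

end final

end Cfsg.Agent.Lib.Helper48.S2717K
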