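import Mathlib
import Cfsg.Prelude.Def_GeometricClasses
import Cfsg.Agent.Lib.Helper61.AschDefs
import Cfsg.Agent.Lib.Helper61.AschBasic
import Cfsg.Agent.Lib.Helper04.AschE3
import Cfsg.Agent.Lib.Helper46.AschODefs
import Cfsg.Agent.Lib.Helper46.AschOBasic
import Cfsg.Agent.Lib.Helper63.AschB6

/-!
# K-S5673-B6c (keystone 567316, architect helper46): equal tensor factors `a = b` reduce to the tensor-power case `t = 2`.

`ogeom_of_tensor_forms_eq_of` is the reduction with the statement of K-S5673-E5b (`ogeom_of_tensorPower`) as an explicit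
hypothesis (for `t = 2`); the exact-signature theorem `ogeom_of_tensor_forms_eq` is in `AschOB6cFinal.lean` (imports E5b).
-/

set_option autoImplicit false

namespace Cfsg.Agent.Lib.Helper48.AschO

open Cfsg Cfsg.Geo Cfsg.Agent.Lib.Helper61.Asch Cfsg.Agent.Lib.Helper46.AschO
open Cfsg.Agent.Lib.Helper04.Asch (pureAt PT ptGL permMat)
open scoped Matrix Kronecker MatrixGroups

variable {F : Type*} [Field F] [Fintype F] {n : ℕ}

local notation "V" => (Fin n → F)
local notation "Mat" => Matrix (Fin n) (Fin n) F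
local notation "Z" => scalars (Fin n) F

omit [Fintype F] in
/-- The pure tensor of two matrices, read through `finTwoArrowEquiv`, is the Kronecker product. -/
theorem PT_two_apply {a : ℕ} (A B : Matrix (Fin a) (Fin a) F) (p q : Fin a × Fin a) :
    PT ![A, B] ((finTwoArrowEquiv (Fin a)).symm p) ((finTwoArrowEquiv (Fin a)).symm q) = (A ⊗ₖ B) p q := by
  rw [Cfsg.Agent.Lib.Helper04.Asch.PT_apply, Fin.prod_univ_two]
  simp [Matrix.kroneckerMap_apply]

/-- K-S5673-B6c with the statement of E5b (for `t = 2`) as a hypothesis. -/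
theorem ogeom_of_tensor_forms_eq_of (hodd : Odd n) (Q : V → F)
    (K : Subgroup (GL (Fin n) F)) (a : ℕ) (ha : 2 ≤ a)
    (e : Fin n ≃ Fin a × Fin a) (P : GL (Fin n) F) (hKT : K ≤ tensorProductSubgroup a a e P)
    (g₁ g₂ : Matrix (Fin a) (Fin a) F) (h₁ : g₁ᵀ = g₁) (h₂ : g₂ᵀ = g₂) (hu₁ : IsUnit g₁) (hu₂ : IsUnit g₂)
    (hform : ∀ x y : Fin a × Fin a → F,
      QuadraticMap.polar Q ((P : Mat) *ᵥ (x ∘ e)) ((P : Mat) *ᵥ (y ∘ e)) = formOfGram id (g₁ ⊗ₖ g₂) x y)
    (hE5b : 3 ≤ a → ∀ (e' : Fin n ≃ (Fin 2 → Fin a)) (g : Fin 2 → Matrix (Fin a) (Fin a) F),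
      (∀ i, (g i)ᵀ = g i) → (∀ i, IsUnit (g i)) →
      (∀ x y : (Fin 2 → Fin a) → F,
        QuadraticMap.polar Q ((P : Mat) *ᵥ (x ∘ e')) ((P : Mat) *ᵥ (y ∘ e')) = ∑ u, ∑ v, x u * PT g u v * y v) →
      (∀ k ∈ K, ∃ (σ : Equiv.Perm (Fin 2)) (u : Fin 2 → GL (Fin a) F) (d : F), d ≠ 0 ∧
        (k : Mat) = d • ((P : Mat) * Matrix.reindex e'.symm e'.symm
          ((permMat a σ : Matrix (Fin 2 → Fin a) (Fin 2 → Fin a) F) *
            PT (fun i => (u i : Matrix (Fin a) (Fin a) F))) *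
          ((P⁻¹ : GL (Fin n) F) : Mat))) →
      OGeom Q K) :
    OGeom Q K := by
  classical
  -- `n = a * a` is odd, so `a ≥ 3`
  have hn : n = a * a := by
    have h := Fintype.card_congr e
    rwa [Fintype.card_fin, Fintype.card_prod, Fintype.card_fin] at h
  have ha3 : 3 ≤ a := by
    by_contra hlt
    have ha2 : a = 2 := by omega
    subst ha2
    subst hn
    exact absurd hodd (by decide)
  set E := (finTwoArrowEquiv (Fin a)) with hE
  refine hE5b ha3 (e.trans E.symm) ![g₁, g₂] ?_ ?_ ?_ ?_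
  · intro i
    fin_cases i
    · exact h₁
    · exact h₂
  · intro i
    fin_cases i
    · exact hu₁
    · exact hu₂
  · intro x y
    have hx : ∀ z : (Fin 2 → Fin a) → F, z ∘ (e.trans E.symm) = (z ∘ E.symm) ∘ e := fun z => rfl
    rw [hx x, hx y, hform]
    unfold formOfGram
    rw [← Equiv.sum_comp E.symm]
    refine Finset.sum_congr rfl fun p _ => ?_
    rw [← Equiv.sum_comp E.symm]
    refine Finset.sum_congr rfl fun q _ => ?_
    rw [PT_two_apply]
    rfl
  · intro k hk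
    obtain ⟨kr, ⟨A, B, hAB⟩, hkr⟩ :=
      (Cfsg.Agent.Lib.Helper63.Asch.mem_tensorProductSubgroup e P k).1 (hKT hk)
    refine ⟨1, ![A, B], 1, one_ne_zero, ?_⟩
    rw [one_smul, Cfsg.Agent.Lib.Helper04.Asch.permMat_one, one_mul, hkr, Units.val_mul, Units.val_mul,
      Cfsg.Agent.Lib.Helper63.Asch.coe_glReindex, hAB]
    congr 2
    ext i j
    simp only [Matrix.submatrix_apply, Matrix.reindex_apply, Equiv.symm_symm, Equiv.trans_apply]
    have h := PT_two_apply (A : Matrix (Fin a) (Fin a) F) (B : Matrix (Fin a) (Fin a) F) (e i) (e j)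
    rw [← h]
    congr 1
    funext i
    fin_cases i <;> rfl

end Cfsg.Agent.Lib.Helper48.AschO
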