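import Mathlib
import Cfsg.Prelude.Def_GeometricClasses
import Cfsg.Agent.Lib.Helper61.AschDefs
import Cfsg.Agent.Lib.Helper61.AschBasic
import Cfsg.Agent.Lib.Helper04.AschE3
import Cfsg.Agent.Lib.Helper46.AschODefs
import Cfsg.Agent.Lib.Helper46.AschOBasic
import Cfsg.Agent.Lib.Helper63.AschB6

/-!
# K-S5673-E5b core (keystone 567315, architect helper46): class 7 from a tensor-power Gram matrix and the normal form.

`ogeom_of_tensorPower_of` is E5b outside the excluded case `q = 3 = m`, with the statement of K-S5673-SS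
(`exists_similar`, for the dimension `m`) as an explicit hypothesis.  The exact-signature theorem is in
`AschOE5bFinal.lean` (imports SS and F33).
-/

set_option autoImplicit false

namespace Cfsg.Agent.Lib.Helper48.AschO

open Cfsg Cfsg.Geo Cfsg.Agent.Lib.Helper61.Asch Cfsg.Agent.Lib.Helper46.AschO
open Cfsg.Agent.Lib.Helper04.Asch (pureAt PT ptGL permMat permGL)
open scoped Matrix Kronecker MatrixGroups

section Forms

variable {F : Type*} [Field F] {m t : ℕ}

/-- the bilinear form with Gram matrix `g` -/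
def gramForm (g : Matrix (Fin m) (Fin m) F) (x y : Fin m → F) : F := x ⬝ᵥ (g *ᵥ y)

theorem gramMatrix_gramForm (g : Matrix (Fin m) (Fin m) F) : gramMatrix (gramForm g) = g := by
  ext a b
  simp [gramMatrix, gramForm]

theorem isBilinearForm_gramForm (g : Matrix (Fin m) (Fin m) F) : IsBilinearForm (gramForm g) where
  add_left x y v := by simp [gramForm, add_dotProduct]
  smul_left c x v := by simp [gramForm, smul_dotProduct]
  add_right v x y := by simp [gramForm, Matrix.mulVec_add, dotProduct_add]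
  smul_right c v x := by simp [gramForm, Matrix.mulVec_smul, dotProduct_smul]

theorem gramForm_symm (g : Matrix (Fin m) (Fin m) F) (hg : gᵀ = g) (u v : Fin m → F) :
    gramForm g u v = gramForm g v u := by
  unfold gramForm
  rw [Matrix.dotProduct_mulVec, ← Matrix.mulVec_transpose, hg, dotProduct_comm]

theorem isSymmetricForm_gramForm (g : Matrix (Fin m) (Fin m) F) (hg : gᵀ = g) (hu : IsUnit g) :
    IsSymmetricForm (gramForm g) where
  bilinear := isBilinearForm_gramForm g
  symm := gramForm_symm g hg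
  nondegenerate := by
    have key : ∀ v : Fin m → F, v ≠ 0 → ∃ x, gramForm g x v ≠ 0 := by
      intro v hv
      have h1 : g *ᵥ v ≠ 0 := by
        intro h0
        apply hv
        obtain ⟨u, rfl⟩ := hu
        have h2 : ((u⁻¹ : (Matrix (Fin m) (Fin m) F)ˣ) : Matrix (Fin m) (Fin m) F) *ᵥ
            ((u : Matrix (Fin m) (Fin m) F) *ᵥ v) = v := by
          rw [Matrix.mulVec_mulVec, ← Units.val_mul, inv_mul_cancel, Units.val_one, Matrix.one_mulVec]
        rw [← h2, h0, Matrix.mulVec_zero]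
      obtain ⟨i, hi⟩ : ∃ i, (g *ᵥ v) i ≠ 0 := by
        by_contra hcon
        exact h1 (funext fun i => by
          by_contra h
          exact hcon ⟨i, h⟩)
      refine ⟨Pi.single i 1, ?_⟩
      unfold gramForm
      rw [single_one_dotProduct]
      exact hi
    intro v hv
    obtain ⟨x, hx⟩ := key v hv
    exact ⟨⟨x, hx⟩, ⟨x, by rwa [gramForm_symm g hg]⟩⟩

theorem PT_transpose (a : Fin t → Matrix (Fin m) (Fin m) F) : (PT a)ᵀ = PT (fun i => (a i)ᵀ) := rfl

theorem PT_smul (c : Fin t → F) (a : Fin t → Matrix (Fin m) (Fin m) F) :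
    PT (fun i => c i • a i) = (∏ i, c i) • PT a := by
  ext u v
  simp [Cfsg.Agent.Lib.Helper04.Asch.PT_apply, Finset.prod_mul_distrib]

theorem sum_sum_eq_dotProduct {κ : Type} [Fintype κ] (M : Matrix κ κ F) (u v : κ → F) :
    ∑ a, ∑ b, u a * M a b * v b = u ⬝ᵥ (M *ᵥ v) := by
  simp only [dotProduct, Matrix.mulVec, Finset.mul_sum, mul_assoc]

theorem mulVec_dot_mulVec {κ : Type} [Fintype κ] (A G : Matrix κ κ F) (x y : κ → F) :
    (A *ᵥ x) ⬝ᵥ (G *ᵥ (A *ᵥ y)) = x ⬝ᵥ ((Aᵀ * G * A) *ᵥ y) := by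
  rw [← Matrix.mulVec_mulVec, ← Matrix.mulVec_mulVec, Matrix.dotProduct_mulVec x, Matrix.vecMul_transpose]

end Forms

variable {F : Type*} [Field F] [Fintype F] {n : ℕ}

local notation "V" => (Fin n → F)
local notation "Mat" => Matrix (Fin n) (Fin n) F
local notation "Z" => scalars (Fin n) F

/-- the non-zero scalar `d` as an invertible matrix -/
def scalarGL {κ : Type} [Fintype κ] [DecidableEq κ] (d : F) (hd : d ≠ 0) : GL κ F where
  val := d • 1
  inv := d⁻¹ • 1
  val_inv := by simp [smul_smul, hd]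
  inv_val := by simp [smul_smul, hd]

/-- K-S5673-E5b outside the excluded case, with the statement of SS as a hypothesis. -/
theorem ogeom_of_tensorPower_of (hodd : Odd n) (Q : V → F)
    (K : Subgroup (GL (Fin n) F)) (m t : ℕ) (hm : 3 ≤ m) (ht : 2 ≤ t)
    (hnot : ¬ (Fintype.card F = 3 ∧ m = 3))
    (e : Fin n ≃ (Fin t → Fin m)) (P : GL (Fin n) F) (g : Fin t → Matrix (Fin m) (Fin m) F)
    (hsymm : ∀ i, (g i)ᵀ = g i) (hunit : ∀ i, IsUnit (g i))
    (hform : ∀ x y : (Fin t → Fin m) → F,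
      QuadraticMap.polar Q ((P : Mat) *ᵥ (x ∘ e)) ((P : Mat) *ᵥ (y ∘ e)) = ∑ a, ∑ b, x a * PT g a b * y b)
    (hnf : ∀ k ∈ K, ∃ (σ : Equiv.Perm (Fin t)) (u : Fin t → GL (Fin m) F) (d : F), d ≠ 0 ∧
      (k : Mat) = d • ((P : Mat) * Matrix.reindex e.symm e.symm
        ((permMat m σ : Matrix (Fin t → Fin m) (Fin t → Fin m) F) * PT (fun i => (u i : Matrix (Fin m) (Fin m) F))) *
        ((P⁻¹ : GL (Fin n) F) : Mat)))
    (hSS : Odd m → ∀ g₁ g₂ : Matrix (Fin m) (Fin m) F, g₁ᵀ = g₁ → g₂ᵀ = g₂ → IsUnit g₁ → IsUnit g₂ →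
      ∃ (h : GL (Fin m) F) (c : F), c ≠ 0 ∧
        (h : Matrix (Fin m) (Fin m) F)ᵀ * g₁ * (h : Matrix (Fin m) (Fin m) F) = c • g₂) :
    OGeom Q K := by
  classical
  have hn : n = m ^ t := by
    have h := Fintype.card_congr e
    simpa using h
  have hmodd : Odd m := by
    rw [hn] at hodd
    exact (Nat.odd_pow_iff (by omega)).1 hodd
  let i0 : Fin t := ⟨0, by omega⟩
  have hss := fun i => hSS hmodd (g i) (g i0) (hsymm i) (hsymm i0) (hunit i) (hunit i0)
  choose h c hc hh using hss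
  set T : GL (Fin t → Fin m) F := ptGL h with hT
  obtain ⟨R, hR, hRval⟩ : ∃ R : GL (Fin t → Fin m) F ≃* GL (Fin n) F, R = glReindex (F := F) e.symm ∧
      ∀ X : GL (Fin t → Fin m) F, ((R X : GL (Fin n) F) : Mat) =
        (X : Matrix (Fin t → Fin m) (Fin t → Fin m) F).submatrix e e := ⟨_, rfl, fun X => rfl⟩
  set P' : GL (Fin n) F := P * R T with hP'
  -- the form in the new basis
  have hvec : ∀ x : (Fin t → Fin m) → F, (P' : Mat) *ᵥ (x ∘ e) =
      (P : Mat) *ᵥ (((T : Matrix (Fin t → Fin m) (Fin t → Fin m) F) *ᵥ x) ∘ e) := by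
    intro x
    have hx : (x ∘ e) ∘ e.symm = x := by
      funext a
      simp
    rw [hP', Units.val_mul, ← Matrix.mulVec_mulVec, hRval, Matrix.submatrix_mulVec_equiv, hx]
  have hG : (T : Matrix (Fin t → Fin m) (Fin t → Fin m) F)ᵀ * PT g *
      (T : Matrix (Fin t → Fin m) (Fin t → Fin m) F) = (∏ i, c i) • PT (fun _ => g i0) := by
    rw [hT, Cfsg.Agent.Lib.Helper04.Asch.ptGL_val, PT_transpose, Cfsg.Agent.Lib.Helper04.Asch.PT_mul,
      Cfsg.Agent.Lib.Helper04.Asch.PT_mul, ← PT_smul]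
    congr 1
    funext i
    exact hh i
  have hstruct : IsTensorPowerFormStructure id (QuadraticMap.polar Q) (gramForm (g i0)) e P' := by
    refine ⟨∏ i, c i, Finset.prod_ne_zero_iff.2 fun i _ => hc i, fun x y => ?_⟩
    rw [hvec x, hvec y, hform, sum_sum_eq_dotProduct, mulVec_dot_mulVec, hG,
      Matrix.smul_mulVec, dotProduct_smul, smul_eq_mul, gramMatrix_gramForm]
    congr 1
    rw [← sum_sum_eq_dotProduct]
    rfl
  -- `K` lies in the tensor wreath subgroup of the new basis
  have hKle : K ≤ tensorWreathSubgroup m t e P' := by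
    intro k hk
    obtain ⟨σ, u, d, hd, hkd⟩ := hnf k hk
    rw [Cfsg.Agent.Lib.Helper63.Asch.mem_tensorWreathSubgroup]
    set S : GL (Fin t → Fin m) F := scalarGL d hd with hS
    have hk' : k = P * R (S * permGL m σ * ptGL u) * P⁻¹ := by
      apply Units.ext
      rw [hkd, Units.val_mul, Units.val_mul, hRval, Units.val_mul, Units.val_mul,
        Cfsg.Agent.Lib.Helper04.Asch.permGL_val, Cfsg.Agent.Lib.Helper04.Asch.ptGL_val]
      have h1 : (S : Matrix (Fin t → Fin m) (Fin t → Fin m) F) = d • 1 := rfl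
      rw [h1, Matrix.reindex_apply, smul_mul_assoc, one_mul, smul_mul_assoc, Matrix.submatrix_smul]
      simp only [Equiv.symm_symm, Pi.smul_apply, Matrix.mul_smul, Matrix.smul_mul]
    refine ⟨T⁻¹ * (S * permGL m σ * ptGL u) * T, ?_, ?_⟩
    · unfold tensorWreathStandard
      have hTmem : T ∈ Subgroup.closure
          {g : GL (Fin t → Fin m) F | IsPureTensor m t g ∨ IsFactorPermutation m t g} :=
        Subgroup.subset_closure (Or.inl (Cfsg.Agent.Lib.Helper04.Asch.ptGL_isPureTensor h))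
      refine mul_mem (mul_mem (inv_mem hTmem) (mul_mem (mul_mem ?_ ?_) ?_)) hTmem
      · exact Subgroup.subset_closure (Or.inl
          (Cfsg.Agent.Lib.Helper04.Asch.isPureTensor_of_scalar (by omega) S d hd rfl))
      · exact Subgroup.subset_closure (Or.inr (Cfsg.Agent.Lib.Helper04.Asch.permGL_isFactorPermutation σ))
      · exact Subgroup.subset_closure (Or.inl (Cfsg.Agent.Lib.Helper04.Asch.ptGL_isPureTensor u))
    · rw [hk', hP', ← hR]
      simp only [map_mul, map_inv]
      group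
  exact ⟨tensorWreathSubgroup m t e P',
    Or.inr (Or.inr (Or.inr (Or.inr (Or.inr (Or.inr (Or.inr
      ⟨m, t, e, P', gramForm (g i0), hm, ht, hnot,
        isSymmetricForm_gramForm (g i0) (hsymm i0) (hunit i0), hstruct, rfl⟩)))))), hKle⟩

end Cfsg.Agent.Lib.Helper48.AschO
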