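import Mathlib
import Cfsg.Prelude.Def_GeometricClasses
import Cfsg.Agent.Lib.Helper61.AschDefs
import Cfsg.Agent.Lib.Helper61.AschBasic
import Cfsg.Agent.Lib.Helper04.AschE3
import Cfsg.Agent.Lib.Helper46.AschODefs
import Cfsg.Agent.Lib.Helper46.AschOBasic
import Cfsg.Agent.Lib.Helper19.AschOSS
import Cfsg.Agent.Lib.Helper48.AschOE5b
import Cfsg.Agent.Lib.Helper48.AschOB6c

/-!
# K-S5673-E5b and K-S5673-B6c with SS (helper19) plugged in and the statement of F33 as a hypothesis.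

`ogeom_of_tensorPower_of_F33` and `ogeom_of_tensor_forms_eq_of_F33` have exactly the spec signatures of E5b and B6c plus one
extra hypothesis `hF33` (the statement of K-S5673-F33 for this `Q`, `K`, `P`).
-/

set_option autoImplicit false

namespace Cfsg.Agent.Lib.Helper48.AschO

open Cfsg Cfsg.Geo Cfsg.Agent.Lib.Helper61.Asch Cfsg.Agent.Lib.Helper46.AschO
open Cfsg.Agent.Lib.Helper04.Asch (pureAt PT ptGL permMat)
open scoped Matrix Kronecker MatrixGroups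

variable {F : Type*} [Field F] [Fintype F] {n : ℕ}

local notation "V" => (Fin n → F)
local notation "Mat" => Matrix (Fin n) (Fin n) F
local notation "Z" => scalars (Fin n) F

/-- The statement of K-S5673-F33 for fixed `Q`, `K`, `P`. -/
def HypF33 (Q : V → F) (K : Subgroup (GL (Fin n) F)) (P : GL (Fin n) F) : Prop :=
  Fintype.card F = 3 → ∀ (t : ℕ), 2 ≤ t → ∀ (e : Fin n ≃ (Fin t → Fin 3)) (g : Fin t → Matrix (Fin 3) (Fin 3) F),
    (∀ i, (g i)ᵀ = g i) → (∀ i, IsUnit (g i)) →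
    (∀ x y : (Fin t → Fin 3) → F,
      QuadraticMap.polar Q ((P : Mat) *ᵥ (x ∘ e)) ((P : Mat) *ᵥ (y ∘ e)) = ∑ a, ∑ b, x a * PT g a b * y b) →
    (∀ k ∈ K, ∃ (σ : Equiv.Perm (Fin t)) (u : Fin t → GL (Fin 3) F) (d : F), d ≠ 0 ∧
      (k : Mat) = d • ((P : Mat) * Matrix.reindex e.symm e.symm
        ((permMat 3 σ : Matrix (Fin t → Fin 3) (Fin t → Fin 3) F) * PT (fun i => (u i : Matrix (Fin 3) (Fin 3) F))) *
        ((P⁻¹ : GL (Fin n) F) : Mat))) →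
    OGeom Q K

/-- K-S5673-E5b, with the statement of F33 as a hypothesis. -/
theorem ogeom_of_tensorPower_of_F33 (hodd : Odd n) (h2 : (2 : F) ≠ 0) (Q : V → F)
    (K : Subgroup (GL (Fin n) F)) (m t : ℕ) (hm : 3 ≤ m) (ht : 2 ≤ t)
    (e : Fin n ≃ (Fin t → Fin m)) (P : GL (Fin n) F) (g : Fin t → Matrix (Fin m) (Fin m) F)
    (hsymm : ∀ i, (g i)ᵀ = g i) (hunit : ∀ i, IsUnit (g i))
    (hform : ∀ x y : (Fin t → Fin m) → F,
      QuadraticMap.polar Q ((P : Mat) *ᵥ (x ∘ e)) ((P : Mat) *ᵥ (y ∘ e)) = ∑ a, ∑ b, x a * PT g a b * y b)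
    (hnf : ∀ k ∈ K, ∃ (σ : Equiv.Perm (Fin t)) (u : Fin t → GL (Fin m) F) (d : F), d ≠ 0 ∧
      (k : Mat) = d • ((P : Mat) * Matrix.reindex e.symm e.symm
        ((permMat m σ : Matrix (Fin t → Fin m) (Fin t → Fin m) F) * PT (fun i => (u i : Matrix (Fin m) (Fin m) F))) *
        ((P⁻¹ : GL (Fin n) F) : Mat)))
    (hF33 : HypF33 Q K P) :
    OGeom Q K := by
  by_cases h33 : Fintype.card F = 3 ∧ m = 3
  · obtain ⟨hq, rfl⟩ := h33
    exact hF33 hq t ht e g hsymm hunit hform hnf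
  · exact ogeom_of_tensorPower_of hodd Q K m t hm ht h33 e P g hsymm hunit hform hnf
      (fun hmodd g₁ g₂ hg₁ hg₂ hu₁ hu₂ =>
        Cfsg.Agent.Lib.Helper19.AschO.exists_similar h2 m hmodd g₁ g₂ hg₁ hg₂ hu₁ hu₂)

/-- K-S5673-B6c, with the statement of F33 as a hypothesis. -/
theorem ogeom_of_tensor_forms_eq_of_F33 (hodd : Odd n) (h2 : (2 : F) ≠ 0) (Q : V → F)
    (K : Subgroup (GL (Fin n) F)) (a : ℕ) (ha : 2 ≤ a)
    (e : Fin n ≃ Fin a × Fin a) (P : GL (Fin n) F) (hKT : K ≤ tensorProductSubgroup a a e P)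
    (g₁ g₂ : Matrix (Fin a) (Fin a) F) (h₁ : g₁ᵀ = g₁) (h₂ : g₂ᵀ = g₂) (hu₁ : IsUnit g₁) (hu₂ : IsUnit g₂)
    (hform : ∀ x y : Fin a × Fin a → F,
      QuadraticMap.polar Q ((P : Mat) *ᵥ (x ∘ e)) ((P : Mat) *ᵥ (y ∘ e)) = formOfGram id (g₁ ⊗ₖ g₂) x y)
    (hF33 : HypF33 Q K P) :
    OGeom Q K :=
  ogeom_of_tensor_forms_eq_of hodd Q K a ha e P hKT g₁ g₂ h₁ h₂ hu₁ hu₂ hform
    (fun ha3 e' g hsymm hunit hform' hnf =>
      ogeom_of_tensorPower_of_F33 hodd h2 Q K a 2 ha3 (le_refl 2) e' P g hsymm hunit hform' hnf hF33)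

end Cfsg.Agent.Lib.Helper48.AschO
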