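import Mathlib
import Cfsg.Prelude.Def_OddOrderLocal
import Cfsg.Prelude.Def_Solvable

set_option autoImplicit false

/-!
# K-S4118-1 (keystone 411801, architect helper11): a TI subgroup that is Hall in its normalizer is Hall in `G`.
-/

namespace Cfsg.Agent.Lib.Helper48.TIHall

/-- K1. A TI-subgroup which is a Hall subgroup of its normalizer is a Hall subgroup of `G`. -/
theorem hall_of_ti {G : Type*} [Group G] [Finite G] (H : Subgroup G)
    (hTI : Cfsg.IsTISubset (H : Set G))
    (hHall : (Nat.card H).Coprime (H.subgroupOf (Subgroup.normalizer (H : Set G))).index) :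
    (Nat.card H).Coprime H.index := by
  classical
  by_contra hnc
  obtain ⟨p, hp, hpH, hpI⟩ := Nat.Prime.not_coprime_iff_dvd.1 hnc
  have : Fact p.Prime := ⟨hp⟩
  set N : Subgroup G := Subgroup.normalizer (H : Set G) with hN
  have hHN : H ≤ N := Subgroup.le_normalizer
  -- a Sylow `p`-subgroup of `H`, pushed to `G`
  obtain ⟨P⟩ : Nonempty (Sylow p H) := inferInstance
  set P' : Subgroup G := (P : Subgroup H).map H.subtype with hP'
  have hP'H : P' ≤ H := by
    rintro _ ⟨x, _, rfl⟩
    exact x.2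
  have hP'p : IsPGroup p P' := P.2.map H.subtype
  have hcardP' : Nat.card P' = Nat.card (P : Subgroup H) :=
    Nat.card_congr ((P : Subgroup H).equivMapOfInjective H.subtype H.subtype_injective).symm.toEquiv
  have hcardP : Nat.card (P : Subgroup H) = p ^ (Nat.card H).factorization p := P.card_eq_multiplicity
  set a := (Nat.card H).factorization p with ha
  have hcardP'a : Nat.card P' = p ^ a := by rw [hcardP', hcardP]
  have hH0 : Nat.card H ≠ 0 := Nat.card_pos.ne'
  have ha1 : 1 ≤ a := (hp.dvd_iff_one_le_factorization hH0).1 hpH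
  -- `P'` is non-trivial
  obtain ⟨x0, hx0P, hx01⟩ : ∃ x ∈ P', x ≠ 1 := by
    by_contra hcon
    have hbot : P' = ⊥ := by
      rw [eq_bot_iff]
      intro x hx
      by_contra hx1
      exact hcon ⟨x, hx, hx1⟩
    rw [hbot, Subgroup.card_bot] at hcardP'a
    have : 1 < p ^ a := Nat.one_lt_pow (by omega) hp.one_lt
    omega
  -- a Sylow `p`-subgroup `S` of `G` above `P'`, strictly bigger
  obtain ⟨S, hP'S⟩ := hP'p.exists_le_sylow
  have hSne : ¬ (S : Subgroup G) ≤ P' := by
    intro hle
    have heq : (S : Subgroup G) = P' := le_antisymm hle hP'S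
    have h1 : Nat.card (S : Subgroup G) = p ^ (Nat.card G).factorization p := S.card_eq_multiplicity
    rw [heq, hcardP'a] at h1
    have h2 : a = (Nat.card G).factorization p := Nat.pow_right_injective hp.two_le h1
    have h3 : Nat.card G = Nat.card H * H.index := (H.card_mul_index).symm
    have hI0 : H.index ≠ 0 := Subgroup.index_ne_zero_of_finite
    rw [h3, Nat.factorization_mul hH0 hI0] at h2
    have h4 : 1 ≤ H.index.factorization p := (hp.dvd_iff_one_le_factorization hI0).1 hpI
    simp only [Finsupp.coe_add, Pi.add_apply] at h2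
    omega
  -- normalizers grow in `S`
  have : Group.IsNilpotent (S : Subgroup G) := S.2.isNilpotent
  have hlt : P'.subgroupOf (S : Subgroup G) < ⊤ := by
    rw [lt_top_iff_ne_top, Ne, Subgroup.subgroupOf_eq_top]
    exact hSne
  obtain ⟨z, hzn, hzP⟩ := SetLike.exists_of_lt (Group.normalizerCondition_of_isNilpotent _ hlt)
  have hyS : (z : G) ∈ (S : Subgroup G) := z.2
  have hyP : (z : G) ∉ P' := fun h => hzP (Subgroup.mem_subgroupOf.2 h)
  have hynorm : ∀ x ∈ P', (z : G) * x * (z : G)⁻¹ ∈ P' := by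
    intro x hx
    have h1 := (Subgroup.mem_normalizer_iff.1 hzn ⟨x, hP'S hx⟩).1 (Subgroup.mem_subgroupOf.2 hx)
    exact Subgroup.mem_subgroupOf.1 h1
  -- `y` normalizes `H` by the TI property
  have hyN : (z : G) ∈ N := by
    by_contra hnot
    exact hx01 (hTI z hnot x0 (hP'H hx0P) (hP'H (hynorm x0 hx0P)))
  -- the `p`-subgroup `S ⊓ N` of `N` is strictly bigger than `P'`
  set S₁ : Subgroup G := (S : Subgroup G) ⊓ N with hS₁
  have hS₁p : IsPGroup p S₁ := S.2.to_le inf_le_left
  have hP'S₁ : P' ≤ S₁ := le_inf hP'S (hP'H.trans hHN)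
  have hyS₁ : (z : G) ∈ S₁ := ⟨hyS, hyN⟩
  obtain ⟨b, hb⟩ := hS₁p.exists_card_eq
  have hab : a < b := by
    have h1 : p ^ a ∣ p ^ b := by
      rw [← hcardP'a, ← hb]
      exact Subgroup.card_dvd_of_le hP'S₁
    have h2 : a ≤ b := (Nat.pow_dvd_pow_iff_le_right hp.one_lt).1 h1
    rcases Nat.lt_or_ge a b with h | h
    · exact h
    · exfalso
      have hab' : a = b := le_antisymm h2 h
      have h3 : Nat.card S₁ ≤ Nat.card P' := by rw [hb, hcardP'a, hab']
      have h4 : P' = S₁ := Subgroup.eq_of_le_of_card_ge hP'S₁ h3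
      exact hyP (h4 ▸ hyS₁)
  -- arithmetic
  have hdvdN : p ^ (a + 1) ∣ Nat.card N := by
    have h1 : p ^ (a + 1) ∣ p ^ b := Nat.pow_dvd_pow p hab
    rw [← hb] at h1
    exact h1.trans (Subgroup.card_dvd_of_le inf_le_right)
  have hcardN : Nat.card N = Nat.card H * (H.subgroupOf N).index := by
    rw [← (H.subgroupOf N).card_mul_index]
    congr 1
    exact Nat.card_congr (Subgroup.subgroupOfEquivOfLe hHN).toEquiv
  have hsplit : Nat.card H = p ^ a * (Nat.card H / p ^ a) := (Nat.ordProj_mul_ordCompl_eq_self _ p).symm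
  have hndvd : ¬ p ∣ Nat.card H / p ^ a := Nat.not_dvd_ordCompl hp hH0
  rw [hcardN, hsplit, pow_succ, mul_assoc] at hdvdN
  have h5 : p ∣ Nat.card H / p ^ a * (H.subgroupOf N).index :=
    (Nat.mul_dvd_mul_iff_left (pow_pos hp.pos a)).1 hdvdN
  rcases hp.dvd_mul.1 h5 with h6 | h6
  · exact hndvd h6
  · exact hp.one_lt.ne' (Nat.dvd_one.1 (hHall ▸ Nat.dvd_gcd hpH h6))

end Cfsg.Agent.Lib.Helper48.TIHall
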