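import Mathlib
import Cfsg.Prelude.Def_Solvable

/-!
K-S1301-GL-2a (keystone 1301002, architect helper12): cocycle averaging.
If `O(X) = 1` and `r ∈ Aut X` fixes a Sylow 2-subgroup `S` and `C_X(O_2(X))` pointwise, then `r` is
conjugation by an element of `S`.
-/

set_option autoImplicit false
universe u

namespace Cfsg.Agent.Lib.Helper48.GL

/-- cocycle averaging: a 1-cocycle with values in a commutative normal subgroup `A` of exponent prime to
`|X : S|`, trivial on `S`, is a coboundary. -/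
theorem cocycle_avg {X : Type u} [Group X] [Finite X] (S A : Subgroup X) [hAn : A.Normal]
    (hcomm : ∀ a ∈ A, ∀ b ∈ A, a * b = b * a) (N : ℕ) (hN : ∀ a ∈ A, a ^ N = 1)
    (hcop : Nat.Coprime S.index N) (ζ : X → X) (hζA : ∀ x, ζ x ∈ A)
    (hcoc : ∀ x y, ζ (x * y) = y⁻¹ * ζ x * y * ζ y) (hζS : ∀ s ∈ S, ζ s = 1) :
    ∃ c ∈ A, ∀ y, ζ y = y⁻¹ * c * y * c⁻¹ := by
  classical
  have : Fintype (X ⧸ S) := Fintype.ofFinite _
  let _ : CommGroup ↥A :=
    { (inferInstance : Group ↥A) with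
      mul_comm := fun a b => Subtype.ext (hcomm a a.2 b b.2) }
  -- ξ x = ζ x⁻¹, constant on left cosets
  let ξ : X → ↥A := fun x => ⟨ζ x⁻¹, hζA _⟩
  have hξ : ∀ a b : X, (QuotientGroup.leftRel S) a b → ξ a = ξ b := by
    intro a b hab
    rw [QuotientGroup.leftRel_apply] at hab
    apply Subtype.ext
    show ζ a⁻¹ = ζ b⁻¹
    have h1 : b⁻¹ = (a⁻¹ * b)⁻¹ * a⁻¹ := by group
    rw [h1, hcoc, hζS _ (S.inv_mem hab)]
    group
  let ξb : X ⧸ S → ↥A := Quotient.lift ξ hξ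
  let mm : ↥A := ∏ q : X ⧸ S, ξb q
  -- conjugation by y⁻¹ on A
  let κ : X → (↥A →* ↥A) := fun y => (MulAut.conjNormal (H := A) y⁻¹).toMonoidHom
  have hκ : ∀ (y : X) (a : ↥A), ((κ y a : ↥A) : X) = y⁻¹ * a * y := by
    intro y a
    show ((MulAut.conjNormal (H := A) y⁻¹ a : ↥A) : X) = _
    rw [MulAut.conjNormal_apply, inv_inv]
  have hstep : ∀ (y : X) (q : X ⧸ S), ξb (y⁻¹ • q) = κ y (ξb q) * ⟨ζ y, hζA y⟩ := by
    intro y q
    induction q using QuotientGroup.induction_on with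
    | H x =>
      apply Subtype.ext
      show ζ (y⁻¹ * x)⁻¹ = ((κ y (ξ x) : ↥A) : X) * ζ y
      rw [hκ]
      show ζ (y⁻¹ * x)⁻¹ = y⁻¹ * ζ x⁻¹ * y * ζ y
      rw [← hcoc]
      congr 1
      group
  have hkey : ∀ y : X, mm = κ y mm * (⟨ζ y, hζA y⟩ : ↥A) ^ S.index := by
    intro y
    have h1 : ∏ q : X ⧸ S, ξb (y⁻¹ • q) = mm :=
      Equiv.prod_comp (MulAction.toPerm (y⁻¹ : X) : Equiv.Perm (X ⧸ S)) ξb
    have hidx : S.index = Fintype.card (X ⧸ S) := by
      rw [Subgroup.index_eq_card, Nat.card_eq_fintype_card]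
    calc mm = ∏ q : X ⧸ S, ξb (y⁻¹ • q) := h1.symm
      _ = ∏ q : X ⧸ S, (κ y (ξb q) * ⟨ζ y, hζA y⟩) :=
          Finset.prod_congr rfl (fun q _ => hstep y q)
      _ = (∏ q : X ⧸ S, κ y (ξb q)) * (⟨ζ y, hζA y⟩ : ↥A) ^ Fintype.card (X ⧸ S) := by
          rw [Finset.prod_mul_distrib, Finset.prod_const, Finset.card_univ]
      _ = κ y mm * (⟨ζ y, hζA y⟩ : ↥A) ^ S.index := by
          rw [← map_prod, hidx]
  -- Bezout
  have hbez := Nat.gcd_eq_gcd_ab S.index N
  rw [hcop.gcd_eq_one] at hbez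
  set a := Nat.gcdA S.index N with ha
  set b := Nat.gcdB S.index N with hb
  have hpowN : ∀ x : ↥A, x ^ (N : ℤ) = 1 := by
    intro x
    rw [zpow_natCast]
    exact Subtype.ext (by simpa using hN x x.2)
  have hroot : ∀ x : ↥A, (x ^ S.index) ^ a = x := by
    intro x
    have h1 : x ^ ((S.index : ℤ) * a + (N : ℤ) * b) = x := by
      rw [← hbez]; simp
    rw [zpow_add, zpow_mul, zpow_mul, hpowN, one_zpow, mul_one, zpow_natCast] at h1
    exact h1
  refine ⟨((mm ^ a)⁻¹ : ↥A), (mm ^ a)⁻¹.2, ?_⟩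
  intro y
  have h1 : (⟨ζ y, hζA y⟩ : ↥A) ^ S.index = (κ y mm)⁻¹ * mm := by
    have := hkey y
    rw [eq_inv_mul_iff_mul_eq]
    exact this.symm
  have h2 : (⟨ζ y, hζA y⟩ : ↥A) = (κ y (mm ^ a))⁻¹ * mm ^ a := by
    rw [← hroot ⟨ζ y, hζA y⟩, h1, mul_zpow, inv_zpow, map_zpow]
  have h3 := congrArg (Subtype.val : ↥A → X) h2
  simp only [Subgroup.coe_mul, Subgroup.coe_inv] at h3
  rw [hκ] at h3
  show ζ y = y⁻¹ * ((mm ^ a)⁻¹ : ↥A) * y * (((mm ^ a)⁻¹ : ↥A) : X)⁻¹
  rw [h3]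
  simp only [Subgroup.coe_inv]
  group


/-- a commutative normal subgroup of a group with `O(X) = 1` is a 2-group -/
theorem isPGroup_two_of_comm_normal {X : Type u} [Group X] [Finite X]
    (hO : Cfsg.pPrimeCore 2 X = ⊥) (A : Subgroup X) [hAn : A.Normal]
    (hcomm : ∀ a ∈ A, ∀ b ∈ A, a * b = b * a) : IsPGroup 2 A := by
  classical
  have : Fact (Nat.Prime 2) := ⟨Nat.prime_two⟩
  -- the odd-order elements of A
  let B : Subgroup X :=
    { carrier := {a | a ∈ A ∧ Odd (orderOf a)}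
      one_mem' := ⟨A.one_mem, by rw [orderOf_one]; exact odd_one⟩
      mul_mem' := by
        rintro a b ⟨ha, hoa⟩ ⟨hb, hob⟩
        refine ⟨A.mul_mem ha hb, ?_⟩
        have hdvd : orderOf (a * b) ∣ Nat.lcm (orderOf a) (orderOf b) :=
          Commute.orderOf_mul_dvd_lcm (hcomm a ha b hb)
        have hodd : Odd (Nat.lcm (orderOf a) (orderOf b)) := by
          rw [Nat.odd_iff, ← Nat.not_even_iff, even_iff_two_dvd]
          intro h2
          rcases (Nat.Prime.dvd_mul Nat.prime_two).mp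
            (dvd_trans h2 (Nat.lcm_dvd_mul (orderOf a) (orderOf b))) with h | h
          · exact (Nat.not_even_iff_odd.mpr hoa) (even_iff_two_dvd.mpr h)
          · exact (Nat.not_even_iff_odd.mpr hob) (even_iff_two_dvd.mpr h)
        exact Odd.of_dvd_nat hodd hdvd
      inv_mem' := by
        rintro a ⟨ha, hoa⟩
        exact ⟨A.inv_mem ha, by rw [orderOf_inv]; exact hoa⟩ }
  have hBn : B.Normal := by
    constructor
    rintro a ⟨ha, hoa⟩ g
    refine ⟨hAn.conj_mem a ha g, ?_⟩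
    have : orderOf (g * a * g⁻¹) = orderOf a := by
      have := (MulAut.conj g).orderOf_eq a
      simpa [MulAut.conj_apply] using this
    rw [this]; exact hoa
  have hBodd : (Nat.card B).Coprime 2 := by
    rw [Nat.coprime_comm, Nat.Prime.coprime_iff_not_dvd Nat.prime_two]
    intro h2
    obtain ⟨b, hb⟩ := exists_prime_orderOf_dvd_card' 2 h2
    have hb' : orderOf (b : X) = 2 := by rw [Subgroup.orderOf_coe]; exact hb
    have := b.2.2
    rw [hb'] at this
    exact absurd this (by decide)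
  have hB : B = ⊥ := by
    rw [eq_bot_iff, ← hO]
    exact le_sSup ⟨hBn, hBodd⟩
  intro a
  obtain ⟨k, w, hw, hkw⟩ := Nat.exists_eq_two_pow_mul_odd (orderOf_pos (a : X)).ne'
  refine ⟨k, ?_⟩
  have hmem : ((a : X) ^ 2 ^ k) ∈ B := by
    refine ⟨A.pow_mem a.2 _, ?_⟩
    have hdvd : orderOf ((a : X) ^ 2 ^ k) ∣ w := by
      apply orderOf_dvd_of_pow_eq_one
      rw [← pow_mul, ← hkw]
      exact pow_orderOf_eq_one _
    exact Odd.of_dvd_nat hw hdvd
  rw [hB, Subgroup.mem_bot] at hmem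
  exact Subtype.ext (by simpa using hmem)

/-- K-S1301-GL-2a. -/
theorem exists_conj_of_fix (X : Type u) [Group X] [Finite X]
    (hO : Cfsg.pPrimeCore 2 X = ⊥) (S : Sylow 2 X) (r : MulAut X)
    (hrS : ∀ s ∈ S, r s = s)
    (hrC : ∀ c ∈ Subgroup.centralizer ((Cfsg.pCore 2 X : Subgroup X) : Set X), r c = c) :
    ∃ z ∈ (S : Subgroup X), ∀ y : X, r y = z * y * z⁻¹ := by
  classical
  have : Fact (Nat.Prime 2) := ⟨Nat.prime_two⟩
  have hPn : (Cfsg.pCore 2 X).Normal := Subgroup.sSup_normal _ (fun _ h => h.1)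
  have hPp : IsPGroup 2 (Cfsg.pCore 2 X) :=
    Sylow.sSup_of_normal _ (fun _ h => h.2) (fun _ h => h.1)
  have hPS : Cfsg.pCore 2 X ≤ (S : Subgroup X) := hPp.le_sylow_of_normal S
  set C := Subgroup.centralizer ((Cfsg.pCore 2 X : Subgroup X) : Set X) with hC
  have hCn : C.Normal := Subgroup.normal_centralizer
  set A := C ⊓ Subgroup.centralizer (C : Set X) with hA
  have hAn : A.Normal := inferInstance
  have hAcomm : ∀ a ∈ A, ∀ b ∈ A, a * b = b * a := by
    intro a ha b hb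
    exact Subgroup.mem_centralizer_iff.mp hb.2 a ha.1
  have hrP : ∀ q ∈ Cfsg.pCore 2 X, r q = q := fun q hq => hrS q (hPS hq)
  -- general computation
  have hgen : ∀ (x q : X), r q = q → r (x * q * x⁻¹) = x * q * x⁻¹ →
      q * (x⁻¹ * r x) = x⁻¹ * r x * q := by
    intro x q hq h1
    rw [map_mul, map_mul, map_inv, hq] at h1
    have h2 : r x * q = x * q * x⁻¹ * r x := by rw [← h1]; group
    calc q * (x⁻¹ * r x) = x⁻¹ * (x * q * x⁻¹ * r x) := by group
      _ = x⁻¹ * (r x * q) := by rw [h2]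
      _ = x⁻¹ * r x * q := by group
  have hζC : ∀ x, x⁻¹ * r x ∈ C := by
    intro x
    rw [hC, Subgroup.mem_centralizer_iff]
    intro q hq
    exact hgen x q (hrP q hq) (hrP _ (hPn.conj_mem q hq x))
  have hζA : ∀ x, x⁻¹ * r x ∈ A := by
    intro x
    refine Subgroup.mem_inf.mpr ⟨hζC x, ?_⟩
    rw [Subgroup.mem_centralizer_iff]
    intro c hc
    exact hgen x c (hrC c hc) (hrC _ (hCn.conj_mem c hc x))
  have hA2 : IsPGroup 2 A := isPGroup_two_of_comm_normal hO A hAcomm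
  obtain ⟨e, he⟩ := IsPGroup.iff_card.mp hA2
  have hN : ∀ a ∈ A, a ^ (2 ^ e) = 1 := by
    intro a ha
    have h := pow_card_eq_one' (G := ↥A) (x := ⟨a, ha⟩)
    rw [he] at h
    have := congrArg (Subtype.val : ↥A → X) h
    simpa using this
  have hcop : Nat.Coprime (S : Subgroup X).index (2 ^ e) := by
    apply Nat.Coprime.pow_right
    rw [Nat.coprime_comm, Nat.Prime.coprime_iff_not_dvd Nat.prime_two]
    exact S.not_dvd_index
  obtain ⟨c, hcA, hc⟩ := cocycle_avg (S : Subgroup X) A hAcomm (2 ^ e) hN hcop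
    (fun x => x⁻¹ * r x) hζA
    (by intro x y; rw [map_mul]; group)
    (by intro s hs; rw [hrS s hs]; group)
  have hAP : A ≤ Cfsg.pCore 2 X := le_sSup (show A ∈ {N : Subgroup X | N.Normal ∧ IsPGroup 2 N} from ⟨hAn, hA2⟩)
  have hAS : A ≤ (S : Subgroup X) := le_trans hAP hPS
  refine ⟨c, hAS hcA, fun y => ?_⟩
  have := hc y
  calc r y = y * (y⁻¹ * r y) := by group
    _ = y * (y⁻¹ * c * y * c⁻¹) := by rw [this]
    _ = c * y * c⁻¹ := by group

end Cfsg.Agent.Lib.Helper48.GL
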