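import Mathlib

set_option autoImplicit false

/-! Spectral calculus for 2x2 matrices with two distinct eigenvalues in the base field. -/

namespace Cfsg.Agent.Lib.Helper48

open Matrix

section spectral

variable {K : Type*} [Field K]

theorem cayley_hamilton_fin_two (M : Matrix (Fin 2) (Fin 2) K) :
    M ^ 2 = M.trace • M - M.det • (1 : Matrix (Fin 2) (Fin 2) K) := by
  ext i j
  fin_cases i <;> fin_cases j <;>
    simp [pow_two, Matrix.mul_apply, Fin.sum_univ_two, Matrix.trace_fin_two, Matrix.det_fin_two] <;> ring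

/-- spectral projection onto the `l`-eigenspace -/
noncomputable def specProj (M : Matrix (Fin 2) (Fin 2) K) (l m : K) : Matrix (Fin 2) (Fin 2) K :=
  (l - m)⁻¹ • (M - m • (1 : Matrix (Fin 2) (Fin 2) K))

theorem specProj_add {M : Matrix (Fin 2) (Fin 2) K} {l m : K} (hlm : l ≠ m) :
    specProj M l m + specProj M m l = 1 := by
  have h1 : l - m ≠ 0 := sub_ne_zero.mpr hlm
  have h2 : m - l ≠ 0 := sub_ne_zero.mpr (Ne.symm hlm)
  have e : (m - l)⁻¹ = -(l - m)⁻¹ := by
    rw [← neg_sub l m, neg_inv]
  unfold specProj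
  rw [e, neg_smul, ← sub_eq_add_neg, ← smul_sub]
  have : M - m • (1 : Matrix (Fin 2) (Fin 2) K) - (M - l • (1 : Matrix (Fin 2) (Fin 2) K)) =
      (l - m) • (1 : Matrix (Fin 2) (Fin 2) K) := by
    rw [sub_smul]; abel
  rw [this, smul_smul, inv_mul_cancel₀ h1, one_smul]

theorem mul_specProj {M : Matrix (Fin 2) (Fin 2) K} {l m : K}
    (htr : M.trace = l + m) (hdet : M.det = l * m) :
    M * specProj M l m = l • specProj M l m := by
  have hCH := cayley_hamilton_fin_two M
  rw [htr, hdet] at hCH
  unfold specProj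
  rw [Matrix.mul_smul, smul_comm l, Matrix.mul_sub, Matrix.mul_smul, Matrix.mul_one, ← pow_two, hCH]
  congr 1
  rw [add_smul, smul_sub, smul_smul, mul_comm l m]
  abel

theorem pow_mul_specProj {M : Matrix (Fin 2) (Fin 2) K} {l m : K}
    (htr : M.trace = l + m) (hdet : M.det = l * m) (k : ℕ) :
    M ^ k * specProj M l m = l ^ k • specProj M l m := by
  induction k with
  | zero => simp
  | succ k ih =>
    rw [pow_succ, Matrix.mul_assoc, mul_specProj htr hdet, Matrix.mul_smul, ih, smul_smul, pow_succ,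
      mul_comm]

/-- spectral decomposition of powers -/
theorem pow_eq_specProj {M : Matrix (Fin 2) (Fin 2) K} {l m : K} (hlm : l ≠ m)
    (htr : M.trace = l + m) (hdet : M.det = l * m) (k : ℕ) :
    M ^ k = l ^ k • specProj M l m + m ^ k • specProj M m l := by
  have htr' : M.trace = m + l := by rw [htr, add_comm]
  have hdet' : M.det = m * l := by rw [hdet, mul_comm]
  rw [← pow_mul_specProj htr hdet k, ← pow_mul_specProj htr' hdet' k, ← Matrix.mul_add,
    specProj_add hlm, Matrix.mul_one]

theorem pow_eq_smul_one_of_pow_eq {M : Matrix (Fin 2) (Fin 2) K} {l m : K} (hlm : l ≠ m)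
    (htr : M.trace = l + m) (hdet : M.det = l * m) (k : ℕ) (h : l ^ k = m ^ k) :
    M ^ k = l ^ k • (1 : Matrix (Fin 2) (Fin 2) K) := by
  rw [pow_eq_specProj hlm htr hdet k, ← h, ← smul_add, specProj_add hlm]

theorem specProj_ne_zero {M : Matrix (Fin 2) (Fin 2) K} {l m : K} (hlm : l ≠ m)
    (hM : ∀ c : K, M ≠ c • (1 : Matrix (Fin 2) (Fin 2) K)) : specProj M l m ≠ 0 := by
  intro h
  unfold specProj at h
  have h1 : (l - m)⁻¹ ≠ 0 := inv_ne_zero (sub_ne_zero.mpr hlm)
  rw [smul_eq_zero] at h
  rcases h with h | h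
  · exact h1 h
  · exact hM m (sub_eq_zero.mp h)

/-- for a non-scalar matrix with distinct eigenvalues, a power is scalar iff the powers of the
eigenvalues agree -/
theorem pow_eq_smul_one_iff {M : Matrix (Fin 2) (Fin 2) K} {l m : K} (hlm : l ≠ m)
    (htr : M.trace = l + m) (hdet : M.det = l * m)
    (hM : ∀ c : K, M ≠ c • (1 : Matrix (Fin 2) (Fin 2) K)) (k : ℕ) (c : K) :
    M ^ k = c • (1 : Matrix (Fin 2) (Fin 2) K) ↔ l ^ k = c ∧ m ^ k = c := by
  constructor
  · intro h
    have htr' : M.trace = m + l := by rw [htr, add_comm]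
    have hdet' : M.det = m * l := by rw [hdet, mul_comm]
    have h1 := pow_mul_specProj htr hdet k
    have h2 := pow_mul_specProj htr' hdet' k
    rw [h, Matrix.smul_mul, Matrix.one_mul] at h1 h2
    have e1 : (c - l ^ k) • specProj M l m = 0 := by rw [sub_smul, h1, sub_self]
    have e2 : (c - m ^ k) • specProj M m l = 0 := by rw [sub_smul, h2, sub_self]
    rw [smul_eq_zero] at e1 e2
    constructor
    · rcases e1 with e | e
      · exact (sub_eq_zero.mp e).symm
      · exact absurd e (specProj_ne_zero hlm hM)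
    · rcases e2 with e | e
      · exact (sub_eq_zero.mp e).symm
      · exact absurd e (specProj_ne_zero (Ne.symm hlm) hM)
  · rintro ⟨h1, h2⟩
    rw [pow_eq_smul_one_of_pow_eq hlm htr hdet k (h1.trans h2.symm), h1]

end spectral

end Cfsg.Agent.Lib.Helper48
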