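import Mathlib
import Cfsg.Agent.Lib.Helper48.Mat2Spec

set_option autoImplicit false

/-! Basic criteria for powers in `PSL(2,F)`. -/

namespace Cfsg.Agent.Lib.Helper48

open Matrix

section

variable {F : Type*} [Field F]

theorem scalar_fin_two_eq_smul_one (r : F) :
    Matrix.scalar (Fin 2) r = r • (1 : Matrix (Fin 2) (Fin 2) F) := by
  rw [Matrix.scalar_apply, Matrix.smul_one_eq_diagonal]

/-- membership in the centre of `SL(2,F)` -/
theorem sl2_mem_center_iff (A : Matrix.SpecialLinearGroup (Fin 2) F) :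
    A ∈ Subgroup.center (Matrix.SpecialLinearGroup (Fin 2) F) ↔
      ∃ r : F, (A : Matrix (Fin 2) (Fin 2) F) = r • (1 : Matrix (Fin 2) (Fin 2) F) := by
  rw [Matrix.SpecialLinearGroup.mem_center_iff]
  constructor
  · rintro ⟨r, -, hr⟩
    exact ⟨r, by rw [← hr, scalar_fin_two_eq_smul_one]⟩
  · rintro ⟨r, hr⟩
    refine ⟨r, ?_, by rw [hr, scalar_fin_two_eq_smul_one]⟩
    have hdet : (A : Matrix (Fin 2) (Fin 2) F).det = 1 := A.2
    rw [hr] at hdet
    simpa [Matrix.det_smul, Fintype.card_fin] using hdet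

/-- a power of `mk A` is trivial in `PSL(2,F)` iff the matrix power is scalar -/
theorem psl2_mk_pow_eq_one_iff (A : Matrix.SpecialLinearGroup (Fin 2) F) (k : ℕ) :
    ((QuotientGroup.mk A : Matrix.ProjectiveSpecialLinearGroup (Fin 2) F)) ^ k = 1 ↔
      ∃ r : F, (A : Matrix (Fin 2) (Fin 2) F) ^ k = r • (1 : Matrix (Fin 2) (Fin 2) F) := by
  rw [← QuotientGroup.mk_pow, QuotientGroup.eq_one_iff, sl2_mem_center_iff,
    Matrix.SpecialLinearGroup.coe_pow]

theorem psl2_mk_eq_one_iff (A : Matrix.SpecialLinearGroup (Fin 2) F) :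
    ((QuotientGroup.mk A : Matrix.ProjectiveSpecialLinearGroup (Fin 2) F)) = 1 ↔
      ∃ r : F, (A : Matrix (Fin 2) (Fin 2) F) = r • (1 : Matrix (Fin 2) (Fin 2) F) := by
  rw [QuotientGroup.eq_one_iff, sl2_mem_center_iff]

/-- characterisation of the order via divisibility -/
theorem orderOf_eq_of_forall_pow_eq_one_iff {G : Type*} [Monoid G] (g : G) (N : ℕ)
    (h : ∀ k : ℕ, g ^ k = 1 ↔ N ∣ k) : orderOf g = N :=
  Nat.dvd_antisymm (orderOf_dvd_of_pow_eq_one ((h N).mpr dvd_rfl)) ((h _).mp (pow_orderOf_eq_one g))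

variable {K : Type*} [Field K]

/-- descent of scalar matrices along a field embedding -/
theorem exists_eq_smul_one_of_map_eq (φ : F →+* K) (B : Matrix (Fin 2) (Fin 2) F) (c : K)
    (h : φ.mapMatrix B = c • (1 : Matrix (Fin 2) (Fin 2) K)) :
    ∃ r : F, B = r • (1 : Matrix (Fin 2) (Fin 2) F) ∧ φ r = c := by
  have hinj : Function.Injective φ := φ.injective
  have h00 : φ (B 0 0) = c := by
    have := congrFun (congrFun h 0) 0
    simpa using this
  have h11 : φ (B 1 1) = c := by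
    have := congrFun (congrFun h 1) 1
    simpa using this
  have h01 : φ (B 0 1) = 0 := by
    have := congrFun (congrFun h 0) 1
    simpa using this
  have h10 : φ (B 1 0) = 0 := by
    have := congrFun (congrFun h 1) 0
    simpa using this
  refine ⟨B 0 0, ?_, h00⟩
  ext i j
  fin_cases i <;> fin_cases j
  · simp
  · simpa using hinj (h01.trans (map_zero φ).symm)
  · simpa using hinj (h10.trans (map_zero φ).symm)
  · simpa using hinj (h11.trans h00.symm)

theorem map_smul_one (φ : F →+* K) (r : F) :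
    φ.mapMatrix (r • (1 : Matrix (Fin 2) (Fin 2) F)) = φ r • (1 : Matrix (Fin 2) (Fin 2) K) := by
  ext i j
  fin_cases i <;> fin_cases j <;> simp

/-- a power of `B` is scalar iff the same power of its base change is scalar -/
theorem pow_scalar_iff_map (φ : F →+* K) (B : Matrix (Fin 2) (Fin 2) F) (k : ℕ) :
    (∃ r : F, B ^ k = r • (1 : Matrix (Fin 2) (Fin 2) F)) ↔
      ∃ c : K, (φ.mapMatrix B) ^ k = c • (1 : Matrix (Fin 2) (Fin 2) K) := by
  constructor
  · rintro ⟨r, hr⟩
    exact ⟨φ r, by rw [← map_pow, hr, map_smul_one]⟩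
  · rintro ⟨c, hc⟩
    rw [← map_pow] at hc
    obtain ⟨r, hr, -⟩ := exists_eq_smul_one_of_map_eq φ (B ^ k) c hc
    exact ⟨r, hr⟩

theorem trace_mapMatrix (φ : F →+* K) (B : Matrix (Fin 2) (Fin 2) F) :
    (φ.mapMatrix B).trace = φ B.trace := by
  simp [Matrix.trace_fin_two]

theorem det_mapMatrix (φ : F →+* K) (B : Matrix (Fin 2) (Fin 2) F) :
    (φ.mapMatrix B).det = φ B.det := by
  simp [Matrix.det_fin_two]

theorem mapMatrix_ne_smul_one (φ : F →+* K) (B : Matrix (Fin 2) (Fin 2) F)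
    (hB : ∀ r : F, B ≠ r • (1 : Matrix (Fin 2) (Fin 2) F)) (c : K) :
    φ.mapMatrix B ≠ c • (1 : Matrix (Fin 2) (Fin 2) K) := by
  intro h
  obtain ⟨r, hr, -⟩ := exists_eq_smul_one_of_map_eq φ B c h
  exact hB r hr

end

end Cfsg.Agent.Lib.Helper48
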