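import Mathlib

set_option autoImplicit false

/-! The quadratic extension of a finite field. -/

namespace Cfsg.Agent.Lib.Helper48

open Polynomial

section

variable {F : Type*} [Field F] [Fintype F]

/-- elements fixed by the `q`-power map come from the base field -/
theorem exists_algebraMap_eq_of_pow_card_eq {K : Type*} [Field K] [Algebra F K] (x : K)
    (hx : x ^ Fintype.card F = x) : ∃ y : F, algebraMap F K y = x := by
  classical
  by_contra hcon
  have hcon' : ∀ y : F, algebraMap F K y ≠ x := fun y hy => hcon ⟨y, hy⟩
  have hq : 1 < Fintype.card F := Fintype.one_lt_card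
  let Z : Finset K := insert x (Finset.univ.image (algebraMap F K))
  have hZcard : Z.card = Fintype.card F + 1 := by
    rw [Finset.card_insert_of_notMem, Finset.card_image_of_injective _ (algebraMap F K).injective,
      Finset.card_univ]
    simp only [Finset.mem_image, Finset.mem_univ, true_and, not_exists]
    exact hcon'
  have hP : (X ^ Fintype.card F - X : K[X]) ≠ 0 := FiniteField.X_pow_card_sub_X_ne_zero K hq
  have hsub : Z.val ⊆ (X ^ Fintype.card F - X : K[X]).roots := by
    intro z hz
    rw [Finset.mem_val] at hz
    rw [mem_roots hP, IsRoot.def, eval_sub, eval_pow, eval_X, sub_eq_zero]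
    rcases Finset.mem_insert.mp hz with rfl | hz
    · exact hx
    · obtain ⟨y, -, rfl⟩ := Finset.mem_image.mp hz
      rw [← map_pow, FiniteField.pow_card]
  have := card_le_degree_of_subset_roots hsub
  rw [FiniteField.X_pow_card_sub_X_natDegree_eq K hq, hZcard] at this
  omega

variable (p : ℕ) [Fact p.Prime] [CharP F p]

/-- every monic quadratic over `F` has a root in the quadratic extension -/
theorem exists_root_quadratic (t n : F) :
    ∃ l : FiniteField.Extension F p 2,
      l ^ 2 - algebraMap F _ t * l + algebraMap F _ n = 0 := by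
  classical
  set f : F[X] := X ^ 2 - C t * X + C n with hf
  have hfdeg : f.natDegree = 2 := by
    rw [hf]; compute_degree!
  have hfdeg' : f.degree = 2 := by
    rw [degree_eq_natDegree (ne_zero_of_natDegree_gt (n := 0) (by omega)), hfdeg]; rfl
  have hfne : f ≠ 0 := ne_zero_of_natDegree_gt (n := 0) (by omega)
  have hkey : ∀ l : FiniteField.Extension F p 2, eval l (f.map (algebraMap F _)) =
      l ^ 2 - algebraMap F _ t * l + algebraMap F _ n := by
    intro l
    simp [hf]
  by_cases hroot : ∃ a : F, f.IsRoot a
  · obtain ⟨a, ha⟩ := hroot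
    refine ⟨algebraMap F _ a, ?_⟩
    rw [← hkey, eval_map_algebraMap, aeval_algebraMap_apply, coe_aeval_eq_eval, ha.eq_zero, map_zero]
  · have hirr : Irreducible f := by
      apply Polynomial.irreducible_of_degree_le_three_of_not_isRoot
      · rw [hfdeg]; simp
      · intro a ha; exact hroot ⟨a, ha⟩
    have hdvd : f ∣ X ^ (Nat.card F) ^ 2 - X :=
      (hirr.natDegree_dvd_iff_dvd_X_pow_card_pow_sub_X (n := 2)).mp (by rw [hfdeg])
    have hsplit : (f.map (algebraMap F (FiniteField.Extension F p 2))).Splits := by
      refine Splits.of_dvd (IsSplittingField.splits (FiniteField.Extension F p 2)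
        (X ^ (Nat.card F) ^ 2 - X : F[X])) ?_ (Polynomial.map_dvd _ hdvd)
      exact (Polynomial.map_ne_zero_iff (algebraMap F _).injective).mpr
        (FiniteField.X_pow_card_pow_sub_X_ne_zero _ (by norm_num) Finite.one_lt_card)
    obtain ⟨l, hl⟩ := hsplit.exists_eval_eq_zero (by
      rw [degree_map, hfdeg']; norm_num)
    exact ⟨l, by rw [← hkey]; exact hl⟩

/-- the quadratic extension contains an element of multiplicative order `q + 1` -/
theorem exists_unit_orderOf_eq_card_add_one :
    ∃ l : (FiniteField.Extension F p 2)ˣ, orderOf l = Fintype.card F + 1 := by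
  classical
  obtain ⟨g, hg⟩ := IsCyclic.exists_ofOrder_eq_natCard (α := (FiniteField.Extension F p 2)ˣ)
  have hcard : Nat.card (FiniteField.Extension F p 2)ˣ = (Fintype.card F - 1) * (Fintype.card F + 1) := by
    rw [Nat.card_units, FiniteField.natCard_extension, Nat.card_eq_fintype_card]
    have h1 : 1 ≤ Fintype.card F := Fintype.card_pos
    have : Fintype.card F ^ 2 = (Fintype.card F - 1) * (Fintype.card F + 1) + 1 := by
      obtain ⟨c, hc⟩ : ∃ c, Fintype.card F = c + 1 := ⟨Fintype.card F - 1, by omega⟩
      rw [hc]; simp; ring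
    omega
  have hq : 1 < Fintype.card F := Fintype.one_lt_card
  refine ⟨g ^ (Fintype.card F - 1), ?_⟩
  rw [orderOf_pow_of_dvd (by omega) (by rw [hg, hcard]; exact dvd_mul_right _ _), hg, hcard,
    Nat.mul_div_cancel_left _ (by omega)]

end

end Cfsg.Agent.Lib.Helper48
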