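import Mathlib
import Cfsg.Agent.Lib.Helper48.FinFieldQuad

set_option autoImplicit false

/-! Counting matrices of given trace in `SL(2,F)`, conjugacy by trace, non-split traces. -/

namespace Cfsg.Agent.Lib.Helper48

open Matrix

-- The next section (companion matrices / rational canonical form for 2x2) is copied from
-- helper46's `Cfsg.Agent.Lib.Helper46.Mat2` to keep this file self-contained.
section mat2

variable {F : Type*} [Field F]

/-- The companion matrix with trace `t` and determinant `D`. -/
def companion (t D : F) : Matrix (Fin 2) (Fin 2) F := !![0, -D; 1, t]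

theorem companion_det (t D : F) : (companion t D).det = D := by
  simp [companion, Matrix.det_fin_two]

theorem companion_trace (t D : F) : (companion t D).trace = t := by
  simp [companion, Matrix.trace_fin_two]

/-- A `2 × 2` matrix is scalar. -/
def IsScalar (M : Matrix (Fin 2) (Fin 2) F) : Prop := M 0 1 = 0 ∧ M 1 0 = 0 ∧ M 0 0 = M 1 1

theorem isScalar_iff (M : Matrix (Fin 2) (Fin 2) F) : IsScalar M ↔ M = (M 0 0) • (1 : Matrix (Fin 2) (Fin 2) F) := by
  constructor
  · rintro ⟨h1, h2, h3⟩
    ext i j
    fin_cases i <;> fin_cases j <;> simp [h1, h2, ← h3]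
  · intro h
    refine ⟨?_, ?_, ?_⟩
    · rw [h]; simp
    · rw [h]; simp
    · conv_rhs => rw [h]
      simp

theorem companion_not_isScalar (t D : F) : ¬ IsScalar (companion t D) := by
  rintro ⟨_, h2, _⟩
  simp [companion] at h2

theorem isScalar_conj (M P Q : Matrix (Fin 2) (Fin 2) F) (hM : IsScalar M) (hPQ : P * Q = 1) :
    P * M * Q = M := by
  rw [isScalar_iff] at hM
  rw [hM]
  simp [hPQ]

/-- A non-scalar `2 × 2` matrix is conjugate to the companion matrix of its characteristic polynomial. -/
theorem exists_conj_companion (M : Matrix (Fin 2) (Fin 2) F) (hM : ¬ IsScalar M) :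
    ∃ P : Matrix (Fin 2) (Fin 2) F, P.det ≠ 0 ∧ M * P = P * companion M.trace M.det := by
  by_cases hc : M 1 0 = 0
  · by_cases hb : M 0 1 = 0
    · have had : M 0 0 ≠ M 1 1 := fun h => hM ⟨hb, hc, h⟩
      refine ⟨!![1, M 0 0; 1, M 1 1], ?_, ?_⟩
      · rw [Matrix.det_fin_two]
        simp
        intro h
        exact had (sub_eq_zero.1 h).symm
      · ext i j
        fin_cases i <;> fin_cases j <;>
          simp [companion, Matrix.mul_apply, Fin.sum_univ_two, Matrix.det_fin_two, Matrix.trace_fin_two, hb, hc] <;>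
          ring
    · refine ⟨!![0, M 0 1; 1, M 1 1], ?_, ?_⟩
      · rw [Matrix.det_fin_two]
        simpa using hb
      · ext i j
        fin_cases i <;> fin_cases j <;>
          simp [companion, Matrix.mul_apply, Fin.sum_univ_two, Matrix.det_fin_two, Matrix.trace_fin_two, hc] <;>
          ring
  · refine ⟨!![1, M 0 0; 0, M 1 0], ?_, ?_⟩
    · rw [Matrix.det_fin_two]
      simpa using hc
    · ext i j
      fin_cases i <;> fin_cases j <;>
        simp [companion, Matrix.mul_apply, Fin.sum_univ_two, Matrix.det_fin_two, Matrix.trace_fin_two] <;>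
        ring

end mat2

section count

variable {F : Type*} [Field F] [Fintype F] [DecidableEq F]

/-- number of `(b,c)` with `b * c = k` -/
theorem card_mul_eq (k : F) :
    (Finset.univ.filter (fun x : F × F => x.1 * x.2 = k)).card =
      if k = 0 then 2 * Fintype.card F - 1 else Fintype.card F - 1 := by
  have hq : 1 ≤ Fintype.card F := Fintype.card_pos
  rw [Finset.card_filter, ← Finset.univ_product_univ, Finset.sum_product]
  have hinner : ∀ b : F, (∑ c : F, if b * c = k then 1 else 0) =
      if b = 0 then (if k = 0 then Fintype.card F else 0) else 1 := by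
    intro b
    by_cases hb : b = 0
    · subst hb
      simp only [zero_mul, if_true]
      by_cases hk : k = 0
      · subst hk; simp
      · simp [hk, Ne.symm hk]
    · rw [if_neg hb]
      rw [Finset.sum_eq_single (b⁻¹ * k)]
      · simp [mul_inv_cancel_left₀ hb]
      · intro c _ hc
        rw [if_neg]
        intro h
        apply hc
        rw [← h, inv_mul_cancel_left₀ hb]
      · intro h; exact absurd (Finset.mem_univ _) h
  simp_rw [hinner]
  rw [Finset.sum_ite, Finset.sum_const, Finset.sum_const]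
  have h0 : (Finset.univ.filter (fun b : F => b = 0)).card = 1 := by
    rw [Finset.filter_eq' Finset.univ (0 : F)]; simp
  have h1 : (Finset.univ.filter (fun b : F => ¬ b = 0)).card = Fintype.card F - 1 := by
    have := Finset.card_filter_add_card_filter_not (s := (Finset.univ : Finset F)) (fun b : F => b = 0)
    rw [h0, Finset.card_univ] at this
    omega
  rw [h0, h1]
  by_cases hk : k = 0
  · simp [hk]; omega
  · simp [hk]

/-- the matrices of `SL(2,F)` of trace `t`, parametrised by three entries -/
def sl2TraceEquiv (t : F) :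
    {B : Matrix.SpecialLinearGroup (Fin 2) F // (B : Matrix (Fin 2) (Fin 2) F).trace = t} ≃
      {x : F × F × F // x.2.1 * x.2.2 = x.1 * (t - x.1) - 1} where
  toFun B := ⟨((B.1 : Matrix (Fin 2) (Fin 2) F) 0 0, (B.1 : Matrix (Fin 2) (Fin 2) F) 0 1,
      (B.1 : Matrix (Fin 2) (Fin 2) F) 1 0), by
    have hdet : (B.1 : Matrix (Fin 2) (Fin 2) F).det = 1 := B.1.2
    have htr := B.2
    rw [Matrix.det_fin_two] at hdet
    rw [Matrix.trace_fin_two] at htr
    simp only
    linear_combination -hdet + (B.1 : Matrix (Fin 2) (Fin 2) F) 0 0 * htr⟩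
  invFun x := ⟨⟨!![x.1.1, x.1.2.1; x.1.2.2, t - x.1.1], by
      rw [Matrix.det_fin_two_of]
      linear_combination -x.2⟩, by
    simp [Matrix.trace_fin_two]⟩
  left_inv B := by
    have htr := B.2
    rw [Matrix.trace_fin_two] at htr
    apply Subtype.ext
    apply Subtype.ext
    ext i j
    fin_cases i <;> fin_cases j <;> simp
    linear_combination -htr
  right_inv x := by
    apply Subtype.ext
    simp

theorem card_sl2_trace (t : F) :
    Nat.card {B : Matrix.SpecialLinearGroup (Fin 2) F // (B : Matrix (Fin 2) (Fin 2) F).trace = t} =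
      Fintype.card F * (Fintype.card F - 1) +
        Fintype.card F * (Finset.univ.filter (fun a : F => a * (t - a) = 1)).card := by
  have hq : 1 ≤ Fintype.card F := Fintype.card_pos
  rw [Nat.card_congr (sl2TraceEquiv t), Nat.card_eq_fintype_card, Fintype.card_subtype]
  rw [Finset.card_filter, ← Finset.univ_product_univ, Finset.sum_product]
  have hinner : ∀ a : F, (∑ y : F × F, if y.1 * y.2 = a * (t - a) - 1 then 1 else 0) =
      (Fintype.card F - 1) + if a * (t - a) = 1 then Fintype.card F else 0 := by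
    intro a
    rw [← Finset.card_filter, card_mul_eq]
    by_cases h : a * (t - a) = 1
    · rw [if_pos (by rw [h, sub_self]), if_pos h]; omega
    · rw [if_neg (by rw [sub_eq_zero]; exact h), if_neg h]; omega
  simp_rw [hinner]
  rw [Finset.sum_add_distrib, Finset.sum_const, Finset.card_univ, smul_eq_mul,
    ← Finset.sum_filter, Finset.sum_const, smul_eq_mul, mul_comm _ (Fintype.card F)]

end count

section conj

variable {F : Type*} [Field F]

/-- two non-scalar matrices of `SL(2,F)` with the same trace are conjugate under `GL`; if every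
element of `F` is a square they are conjugate in `SL(2,F)`. -/
theorem sl2_isConj_of_trace_eq (hsq : ∀ a : F, IsSquare a)
    (A B : Matrix.SpecialLinearGroup (Fin 2) F)
    (hA : ¬ IsScalar (A : Matrix (Fin 2) (Fin 2) F)) (hB : ¬ IsScalar (B : Matrix (Fin 2) (Fin 2) F))
    (htr : (A : Matrix (Fin 2) (Fin 2) F).trace = (B : Matrix (Fin 2) (Fin 2) F).trace) :
    IsConj A B := by
  obtain ⟨P, hP, hAP⟩ := exists_conj_companion (A : Matrix (Fin 2) (Fin 2) F) hA
  obtain ⟨Q, hQ, hBQ⟩ := exists_conj_companion (B : Matrix (Fin 2) (Fin 2) F) hB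
  have hdA : (A : Matrix (Fin 2) (Fin 2) F).det = 1 := A.2
  have hdB : (B : Matrix (Fin 2) (Fin 2) F).det = 1 := B.2
  rw [hdA] at hAP
  rw [hdB, ← htr] at hBQ
  set C := companion (A : Matrix (Fin 2) (Fin 2) F).trace 1 with hC
  have hPu : IsUnit P.det := isUnit_iff_ne_zero.mpr hP
  -- R = Q * P⁻¹ intertwines
  set R : Matrix (Fin 2) (Fin 2) F := Q * P⁻¹ with hR
  have h1 : P⁻¹ * (A : Matrix (Fin 2) (Fin 2) F) = C * P⁻¹ := by
    calc P⁻¹ * (A : Matrix (Fin 2) (Fin 2) F)
        = P⁻¹ * (A : Matrix (Fin 2) (Fin 2) F) * (P * P⁻¹) := by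
          rw [Matrix.mul_nonsing_inv P hPu, Matrix.mul_one]
      _ = P⁻¹ * ((A : Matrix (Fin 2) (Fin 2) F) * P) * P⁻¹ := by
          simp only [Matrix.mul_assoc]
      _ = P⁻¹ * (P * C) * P⁻¹ := by rw [hAP]
      _ = (P⁻¹ * P) * C * P⁻¹ := by simp only [Matrix.mul_assoc]
      _ = C * P⁻¹ := by rw [Matrix.nonsing_inv_mul P hPu, Matrix.one_mul]
  have hRA : R * (A : Matrix (Fin 2) (Fin 2) F) = (B : Matrix (Fin 2) (Fin 2) F) * R := by
    rw [hR, Matrix.mul_assoc, h1, ← Matrix.mul_assoc, ← hBQ, Matrix.mul_assoc]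
  have hdetR : R.det ≠ 0 := by
    rw [hR, Matrix.det_mul, Matrix.det_nonsing_inv]
    exact mul_ne_zero hQ (by simpa using hP)
  obtain ⟨s, hs⟩ := hsq (R.det)⁻¹
  have hdetX : (s • R).det = 1 := by
    rw [Matrix.det_smul, Fintype.card_fin, pow_two, ← hs, inv_mul_cancel₀ hdetR]
  let X : Matrix.SpecialLinearGroup (Fin 2) F := ⟨s • R, hdetX⟩
  refine isConj_iff.mpr ⟨X, ?_⟩
  apply mul_inv_eq_iff_eq_mul.mpr
  apply Subtype.ext
  simp only [Matrix.SpecialLinearGroup.coe_mul]
  show (s • R) * (A : Matrix (Fin 2) (Fin 2) F) = (B : Matrix (Fin 2) (Fin 2) F) * (s • R)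
  rw [Matrix.smul_mul, Matrix.mul_smul, hRA]

end conj

section nonsplit

variable {F : Type*} [Field F] [Fintype F]

/-- a "non-split trace": `t₀ ∈ F` such that `X² - t₀ X + 1` has no root in `F`; it is the trace
`z + z⁻¹` of an element `z` of order `q + 1` of the quadratic extension. -/
theorem exists_nonsplit_trace (p : ℕ) [Fact p.Prime] [CharP F p] :
    ∃ (z : (FiniteField.Extension F p 2)ˣ) (t₀ : F), orderOf z = Fintype.card F + 1 ∧
      algebraMap F (FiniteField.Extension F p 2) t₀ =
        (z : FiniteField.Extension F p 2) + (z : FiniteField.Extension F p 2)⁻¹ ∧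
      ∀ a : F, a * (t₀ - a) ≠ 1 := by
  classical
  let K := FiniteField.Extension F p 2
  have hq2 : 2 ≤ Fintype.card F := Fintype.one_lt_card
  obtain ⟨z, hz⟩ := exists_unit_orderOf_eq_card_add_one (F := F) p
  have hzne : (z : K) ≠ 0 := z.ne_zero
  have hprod : (z : K) * (z : K)⁻¹ = 1 := mul_inv_cancel₀ hzne
  have hpow_iff : ∀ k : ℕ, (z : K) ^ k = 1 ↔ (Fintype.card F + 1) ∣ k := by
    intro k
    rw [← hz, orderOf_dvd_iff_pow_eq_one, ← Units.val_pow_eq_pow_val, Units.val_eq_one]
  have hzq : (z : K) ^ Fintype.card F = (z : K)⁻¹ := by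
    apply eq_inv_of_mul_eq_one_left
    rw [← pow_succ]
    exact (hpow_iff _).mpr dvd_rfl
  have hx : ((z : K) + (z : K)⁻¹) ^ Fintype.card F = (z : K) + (z : K)⁻¹ := by
    have h1 : (FiniteField.Extension.frob F p 2) ((z : K) + (z : K)⁻¹) =
        ((z : K) + (z : K)⁻¹) ^ Fintype.card F := by
      rw [FiniteField.Extension.frob_apply, Nat.card_eq_fintype_card]
    rw [← h1, map_add, map_inv₀, FiniteField.Extension.frob_apply, Nat.card_eq_fintype_card, hzq,
      inv_inv, add_comm]
  obtain ⟨t₀, ht₀⟩ := exists_algebraMap_eq_of_pow_card_eq (F := F) ((z : K) + (z : K)⁻¹) hx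
  refine ⟨z, t₀, hz, ht₀, ?_⟩
  intro a ha
  -- then `algebraMap a` is `z` or `z⁻¹`, so `z ^ (q - 1) = 1`
  have ha0 : a ≠ 0 := by
    rintro rfl
    rw [zero_mul] at ha
    exact zero_ne_one ha
  have hfac : (algebraMap F K a - (z : K)) * (algebraMap F K a - (z : K)⁻¹) = 0 := by
    have h1 : algebraMap F K a * (algebraMap F K t₀ - algebraMap F K a) = 1 := by
      rw [← map_sub, ← map_mul, ha, map_one]
    rw [ht₀] at h1
    have : (algebraMap F K a - (z : K)) * (algebraMap F K a - (z : K)⁻¹) =
        -(algebraMap F K a * ((z : K) + (z : K)⁻¹ - algebraMap F K a)) + (z : K) * (z : K)⁻¹ := by ring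
    rw [this, h1, hprod]; ring
  have hzF : ∃ b : F, b ≠ 0 ∧ algebraMap F K b = (z : K) := by
    rcases mul_eq_zero.mp hfac with h | h
    · exact ⟨a, ha0, sub_eq_zero.mp h⟩
    · refine ⟨a⁻¹, inv_ne_zero ha0, ?_⟩
      rw [map_inv₀, sub_eq_zero.mp h, inv_inv]
  obtain ⟨b, hb0, hb⟩ := hzF
  have : (z : K) ^ (Fintype.card F - 1) = 1 := by
    rw [← hb, ← map_pow, FiniteField.pow_card_sub_one_eq_one b hb0, map_one]
  have := Nat.le_of_dvd (by omega) ((hpow_iff _).mp this)
  omega

end nonsplit

section classes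

/-- class size = number of conjugates -/
theorem index_centralizer_eq_card_conj {G : Type*} [Group G] [Finite G] (g : G) :
    (Subgroup.centralizer ({g} : Set G)).index = Nat.card {h : G // IsConj g h} := by
  classical
  have : Fintype G := Fintype.ofFinite G
  have h := MulAction.card_orbit_mul_card_stabilizer_eq_card_group (ConjAct G) g
  rw [← Nat.card_eq_fintype_card, ← Nat.card_eq_fintype_card, ← Nat.card_eq_fintype_card] at h
  have h2 : Nat.card (MulAction.stabilizer (ConjAct G) g) =
      Nat.card (Subgroup.centralizer ({g} : Set G)) := by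
    rw [ConjAct.stabilizer_eq_centralizer]
    rfl
  have h3 : Nat.card (MulAction.orbit (ConjAct G) g) = Nat.card {h : G // IsConj g h} := by
    apply Nat.card_congr
    apply Equiv.subtypeEquivRight
    intro x
    rw [ConjAct.mem_orbit_conjAct]
    exact isConj_comm
  rw [h2, h3] at h
  have h4 := Subgroup.index_mul_card (Subgroup.centralizer ({g} : Set G))
  have hpos : 0 < Nat.card (Subgroup.centralizer ({g} : Set G)) := Nat.card_pos
  have hG : Nat.card (ConjAct G) = Nat.card G := rfl
  rw [hG] at h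
  exact Nat.eq_of_mul_eq_mul_right hpos (h4.trans h.symm)

end classes

end Cfsg.Agent.Lib.Helper48
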