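import Mathlib
import Cfsg.Agent.Lib.Helper48.PSL2Basic
import Cfsg.Agent.Lib.Helper48.FinFieldQuad

set_option autoImplicit false

/-! Element orders of `PSL(2,F)` for a finite field `F`. -/

namespace Cfsg.Agent.Lib.Helper48

open Matrix

theorem pow_eq_pow_of_mul_eq_one {K : Type*} [Field K] {l m : K} (hlm : l * m = 1) {N : ℕ}
    (h : l ^ (2 * N) = 1) : l ^ N = m ^ N := by
  have hl : l ≠ 0 := left_ne_zero_of_mul_eq_one hlm
  have hm : m = l⁻¹ := eq_inv_of_mul_eq_one_right hlm
  rw [hm, inv_pow]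
  apply eq_inv_of_mul_eq_one_left
  rw [← pow_add, ← two_mul, h]

theorem pow_eq_pow_iff_of_mul_eq_one {K : Type*} [Field K] {l m : K} (hlm : l * m = 1) (N : ℕ) :
    l ^ N = m ^ N ↔ l ^ (2 * N) = 1 := by
  constructor
  · intro h
    rw [two_mul, pow_add]
    nth_rewrite 2 [h]
    rw [← mul_pow, hlm, one_pow]
  · exact pow_eq_pow_of_mul_eq_one hlm

theorem gcd_two_cases (n : ℕ) : (Nat.gcd 2 n = 1 ∧ Odd n) ∨ (Nat.gcd 2 n = 2 ∧ Even n) := by
  rcases Nat.even_or_odd n with h | h
  · right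
    refine ⟨?_, h⟩
    obtain ⟨c, rfl⟩ := h
    rw [← two_mul]
    exact Nat.gcd_mul_right_right c 2 |> fun _ => by simp
  · left
    refine ⟨?_, h⟩
    exact Nat.coprime_two_left.mpr h

theorem dvd_two_mul_iff (n k : ℕ) : n ∣ 2 * k ↔ n / Nat.gcd 2 n ∣ k := by
  rcases gcd_two_cases n with ⟨hd, hodd⟩ | ⟨hd, hev⟩
  · rw [hd, Nat.div_one]
    constructor
    · intro h
      exact (Nat.Coprime.dvd_of_dvd_mul_left (Nat.coprime_comm.mp (Nat.coprime_two_left.mpr hodd)) h)
    · intro h
      exact dvd_mul_of_dvd_right h 2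
  · rw [hd]
    obtain ⟨c, rfl⟩ := hev
    rw [← two_mul, Nat.mul_div_cancel_left c (by norm_num : 0 < 2)]
    exact Nat.mul_dvd_mul_iff_left (by norm_num : 0 < 2)

section

variable {F : Type*} [Field F]

theorem unip_pow (k : ℕ) :
    (!![1, 1; 0, 1] : Matrix (Fin 2) (Fin 2) F) ^ k = !![1, (k : F); 0, 1] := by
  induction k with
  | zero => simp [Matrix.one_fin_two]
  | succ k ih =>
    rw [pow_succ, ih, Matrix.mul_fin_two]
    simp [add_comm]

/-- an element of order `p` -/
theorem psl2_exists_orderOf_eq_char (p : ℕ) [Fact p.Prime] [CharP F p] :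
    ∃ g : Matrix.ProjectiveSpecialLinearGroup (Fin 2) F, orderOf g = p := by
  have hpp : p.Prime := Fact.out
  let U : Matrix.SpecialLinearGroup (Fin 2) F := ⟨!![1, 1; 0, 1], by simp [Matrix.det_fin_two]⟩
  refine ⟨QuotientGroup.mk U, orderOf_eq_prime ?_ ?_⟩
  · rw [psl2_mk_pow_eq_one_iff]
    refine ⟨1, ?_⟩
    show (!![1, 1; 0, 1] : Matrix (Fin 2) (Fin 2) F) ^ p = _
    rw [unip_pow, CharP.cast_eq_zero, one_smul, Matrix.one_fin_two]
  · rw [Ne, psl2_mk_eq_one_iff]
    rintro ⟨r, hr⟩
    have := congrFun (congrFun hr 0) 1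
    simp [U] at this

/-- an element of order `(q-1)/d` -/
theorem psl2_exists_orderOf_eq_split [Fintype F] (h4 : 4 ≤ Fintype.card F) :
    ∃ g : Matrix.ProjectiveSpecialLinearGroup (Fin 2) F,
      orderOf g = (Fintype.card F - 1) / Nat.gcd 2 (Fintype.card F - 1) := by
  classical
  obtain ⟨z, hz⟩ := IsCyclic.exists_ofOrder_eq_natCard (α := Fˣ)
  rw [Nat.card_units, Nat.card_eq_fintype_card] at hz
  have hzne : (z : F) ≠ 0 := z.ne_zero
  have hprod : (z : F) * (z : F)⁻¹ = 1 := mul_inv_cancel₀ hzne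
  let D : Matrix.SpecialLinearGroup (Fin 2) F := ⟨!![(z : F), 0; 0, (z : F)⁻¹], by
    simp [Matrix.det_fin_two, hzne]⟩
  have hDtr : (D : Matrix (Fin 2) (Fin 2) F).trace = (z : F) + (z : F)⁻¹ := by
    simp [D, Matrix.trace_fin_two]
  have hDdet : (D : Matrix (Fin 2) (Fin 2) F).det = (z : F) * (z : F)⁻¹ := by
    rw [hprod]; exact D.2
  have hpow_iff : ∀ k : ℕ, (z : F) ^ k = 1 ↔ (Fintype.card F - 1) ∣ k := by
    intro k
    rw [← hz, orderOf_dvd_iff_pow_eq_one, ← Units.val_pow_eq_pow_val, Units.val_eq_one]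
  have hne : (z : F) ≠ (z : F)⁻¹ := by
    intro h
    have h2 : (z : F) ^ 2 = 1 := by
      rw [pow_two]; nth_rewrite 2 [h]; exact hprod
    have := (hpow_iff 2).mp h2
    have := Nat.le_of_dvd (by norm_num) this
    omega
  have hDns : ∀ c : F, (D : Matrix (Fin 2) (Fin 2) F) ≠ c • (1 : Matrix (Fin 2) (Fin 2) F) := by
    intro c hc
    have h00 := congrFun (congrFun hc 0) 0
    have h11 := congrFun (congrFun hc 1) 1
    simp [D] at h00 h11
    exact hne (h00.trans h11.symm)
  refine ⟨QuotientGroup.mk D, orderOf_eq_of_forall_pow_eq_one_iff _ _ ?_⟩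
  intro k
  rw [psl2_mk_pow_eq_one_iff, ← dvd_two_mul_iff, ← hpow_iff, ← pow_eq_pow_iff_of_mul_eq_one hprod]
  constructor
  · rintro ⟨c, hc⟩
    obtain ⟨h1, h2⟩ := (pow_eq_smul_one_iff hne hDtr hDdet hDns k c).mp hc
    exact h1.trans h2.symm
  · intro h
    exact ⟨(z : F) ^ k, (pow_eq_smul_one_iff hne hDtr hDdet hDns k _).mpr ⟨rfl, h.symm⟩⟩

/-- an element of order `(q+1)/d` -/
theorem psl2_exists_orderOf_eq_nonsplit [Fintype F] (p : ℕ) [Fact p.Prime] [CharP F p] :
    ∃ g : Matrix.ProjectiveSpecialLinearGroup (Fin 2) F,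
      orderOf g = (Fintype.card F + 1) / Nat.gcd 2 (Fintype.card F - 1) := by
  classical
  let K := FiniteField.Extension F p 2
  let φ : F →+* K := algebraMap F K
  have hq2 : 2 ≤ Fintype.card F := Fintype.one_lt_card
  obtain ⟨z, hz⟩ := exists_unit_orderOf_eq_card_add_one (F := F) p
  have hzne : (z : K) ≠ 0 := z.ne_zero
  have hprod : (z : K) * (z : K)⁻¹ = 1 := mul_inv_cancel₀ hzne
  have hpow_iff : ∀ k : ℕ, (z : K) ^ k = 1 ↔ (Fintype.card F + 1) ∣ k := by
    intro k
    rw [← hz, orderOf_dvd_iff_pow_eq_one, ← Units.val_pow_eq_pow_val, Units.val_eq_one]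
  have hzq : (z : K) ^ Fintype.card F = (z : K)⁻¹ := by
    apply eq_inv_of_mul_eq_one_left
    rw [← pow_succ]
    exact (hpow_iff _).mpr dvd_rfl
  -- the trace lies in F
  have hx : ((z : K) + (z : K)⁻¹) ^ Fintype.card F = (z : K) + (z : K)⁻¹ := by
    have h1 : (FiniteField.Extension.frob F p 2) ((z : K) + (z : K)⁻¹) =
        ((z : K) + (z : K)⁻¹) ^ Fintype.card F := by
      rw [FiniteField.Extension.frob_apply, Nat.card_eq_fintype_card]
    rw [← h1, map_add, map_inv₀, FiniteField.Extension.frob_apply, Nat.card_eq_fintype_card, hzq,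
      inv_inv, add_comm]
  obtain ⟨t₀, ht₀⟩ := exists_algebraMap_eq_of_pow_card_eq (F := F) ((z : K) + (z : K)⁻¹) hx
  let C : Matrix.SpecialLinearGroup (Fin 2) F := ⟨!![0, -1; 1, t₀], by simp [Matrix.det_fin_two]⟩
  have hCtr : (φ.mapMatrix (C : Matrix (Fin 2) (Fin 2) F)).trace = (z : K) + (z : K)⁻¹ := by
    rw [trace_mapMatrix, ← ht₀]
    have : (C : Matrix (Fin 2) (Fin 2) F).trace = t₀ := by simp [C, Matrix.trace_fin_two]
    rw [this]
  have hCdet : (φ.mapMatrix (C : Matrix (Fin 2) (Fin 2) F)).det = (z : K) * (z : K)⁻¹ := by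
    rw [det_mapMatrix, hprod, C.2, map_one]
  have hne : (z : K) ≠ (z : K)⁻¹ := by
    intro h
    have h2 : (z : K) ^ 2 = 1 := by
      rw [pow_two]; nth_rewrite 2 [h]; exact hprod
    have := (hpow_iff 2).mp h2
    have := Nat.le_of_dvd (by norm_num) this
    omega
  have hCns : ∀ c : K, φ.mapMatrix (C : Matrix (Fin 2) (Fin 2) F) ≠ c • (1 : Matrix (Fin 2) (Fin 2) K) := by
    apply mapMatrix_ne_smul_one
    intro r hr
    have := congrFun (congrFun hr 1) 0
    simp [C] at this
  have hgcd : Nat.gcd 2 (Fintype.card F - 1) = Nat.gcd 2 (Fintype.card F + 1) := by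
    have : Fintype.card F + 1 = (Fintype.card F - 1) + 2 := by omega
    rw [this, Nat.gcd_add_self_right]
  refine ⟨QuotientGroup.mk C, orderOf_eq_of_forall_pow_eq_one_iff _ _ ?_⟩
  intro k
  rw [psl2_mk_pow_eq_one_iff, pow_scalar_iff_map φ, hgcd, ← dvd_two_mul_iff, ← hpow_iff,
    ← pow_eq_pow_iff_of_mul_eq_one hprod]
  constructor
  · rintro ⟨c, hc⟩
    obtain ⟨h1, h2⟩ := (pow_eq_smul_one_iff hne hCtr hCdet hCns k c).mp hc
    exact h1.trans h2.symm
  · intro h
    exact ⟨(z : K) ^ k, (pow_eq_smul_one_iff hne hCtr hCdet hCns k _).mpr ⟨rfl, h.symm⟩⟩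


/-- the order of any element of `PSL(2,F)` divides `p`, `(q-1)/d` or `(q+1)/d` -/
theorem psl2_orderOf_dvd [Fintype F] (p : ℕ) [Fact p.Prime] [CharP F p] (g : Matrix.ProjectiveSpecialLinearGroup (Fin 2) F) :
    orderOf g ∣ p ∨ orderOf g ∣ (Fintype.card F - 1) / Nat.gcd 2 (Fintype.card F - 1) ∨
      orderOf g ∣ (Fintype.card F + 1) / Nat.gcd 2 (Fintype.card F - 1) := by
  classical
  have hpp : p.Prime := Fact.out
  obtain ⟨A, rfl⟩ := QuotientGroup.mk_surjective g
  set q := Fintype.card F with hq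
  have hq2 : 2 ≤ q := Fintype.one_lt_card
  set M : Matrix (Fin 2) (Fin 2) F := (A : Matrix (Fin 2) (Fin 2) F) with hM
  have hdetM : M.det = 1 := A.2
  let K := FiniteField.Extension F p 2
  let φ : F →+* K := algebraMap F K
  have : CharP K p := charP_of_injective_algebraMap φ.injective p
  by_cases hscal : ∃ r : F, M = r • (1 : Matrix (Fin 2) (Fin 2) F)
  · left
    have : (QuotientGroup.mk A : Matrix.ProjectiveSpecialLinearGroup (Fin 2) F) = 1 :=
      (psl2_mk_eq_one_iff A).mpr hscal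
    rw [this, orderOf_one]
    exact one_dvd _
  · have hscal' : ∀ r : F, M ≠ r • (1 : Matrix (Fin 2) (Fin 2) F) := fun r hr => hscal ⟨r, hr⟩
    obtain ⟨l, hl⟩ := exists_root_quadratic p M.trace (1 : F)
    set m : K := φ M.trace - l with hm
    have hsum : (φ.mapMatrix M).trace = l + m := by
      rw [trace_mapMatrix, hm]; ring
    have hprod : l * m = 1 := by
      have : l * m = -(l ^ 2 - algebraMap F K M.trace * l + algebraMap F K 1) + 1 := by
        rw [hm, map_one]; ring
      rw [this, hl]; ring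
    have hdet : (φ.mapMatrix M).det = l * m := by
      rw [det_mapMatrix, hdetM, map_one, hprod]
    -- reduction: enough to find N with (φ M)^N scalar
    have hred : ∀ N : ℕ, (∃ c : K, (φ.mapMatrix M) ^ N = c • (1 : Matrix (Fin 2) (Fin 2) K)) →
        orderOf (QuotientGroup.mk A : Matrix.ProjectiveSpecialLinearGroup (Fin 2) F) ∣ N := by
      intro N hN
      apply orderOf_dvd_of_pow_eq_one
      rw [psl2_mk_pow_eq_one_iff]
      exact (pow_scalar_iff_map φ M N).mpr hN
    by_cases hlm : l = m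
    · -- unipotent case
      left
      apply hred
      refine ⟨l ^ p, ?_⟩
      set B : Matrix (Fin 2) (Fin 2) K := φ.mapMatrix M with hB
      have hCH := cayley_hamilton_fin_two B
      rw [hsum, hdet, ← hlm] at hCH
      have hsq : (B - l • (1 : Matrix (Fin 2) (Fin 2) K)) ^ 2 = 0 := by
        rw [pow_two, Matrix.sub_mul, Matrix.mul_sub, Matrix.mul_sub, ← pow_two, hCH]
        simp only [Matrix.mul_smul, Matrix.smul_mul, Matrix.mul_one, Matrix.one_mul, smul_smul, add_smul]
        abel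
      have hNp : (B - l • (1 : Matrix (Fin 2) (Fin 2) K)) ^ p = 0 := by
        have h2p : 2 + (p - 2) = p := by have := hpp.two_le; omega
        have : (B - l • (1 : Matrix (Fin 2) (Fin 2) K)) ^ p =
            (B - l • (1 : Matrix (Fin 2) (Fin 2) K)) ^ 2 * (B - l • (1 : Matrix (Fin 2) (Fin 2) K)) ^ (p - 2) := by
          rw [← pow_add, h2p]
        rw [this, hsq, zero_mul]
      have hcomm : Commute (B - l • (1 : Matrix (Fin 2) (Fin 2) K)) (l • (1 : Matrix (Fin 2) (Fin 2) K)) := by
        apply Commute.smul_right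
        exact Commute.one_right _
      have : B = (B - l • (1 : Matrix (Fin 2) (Fin 2) K)) + l • (1 : Matrix (Fin 2) (Fin 2) K) := by abel
      rw [this, add_pow_char_of_commute p hcomm, hNp, zero_add, smul_pow, one_pow]
    · right
      have hMK : ∀ c : K, φ.mapMatrix M ≠ c • (1 : Matrix (Fin 2) (Fin 2) K) :=
        mapMatrix_ne_smul_one φ M hscal'
      by_cases hrat : ∃ l₀ : F, φ l₀ = l
      · -- split case
        left
        obtain ⟨l₀, hl₀⟩ := hrat
        have hl₀ne : l₀ ≠ 0 := by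
          rintro rfl
          rw [map_zero] at hl₀
          rw [← hl₀, zero_mul] at hprod
          exact zero_ne_one hprod
        have hpow : l ^ (q - 1) = 1 := by
          rw [← hl₀, ← map_pow, FiniteField.pow_card_sub_one_eq_one l₀ hl₀ne, map_one]
        apply hred
        refine ⟨l ^ ((q - 1) / Nat.gcd 2 (q - 1)), ?_⟩
        apply pow_eq_smul_one_of_pow_eq hlm hsum hdet
        apply pow_eq_pow_of_mul_eq_one hprod
        rcases gcd_two_cases (q - 1) with ⟨hd, -⟩ | ⟨hd, hev⟩
        · rw [hd, Nat.div_one, pow_mul, pow_right_comm, hpow, one_pow]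
        · rw [hd, Nat.mul_div_cancel' hev.two_dvd, hpow]
      · -- non-split case
        right
        have hfrob : (l ^ q) ^ 2 - algebraMap F K M.trace * l ^ q + algebraMap F K 1 = 0 := by
          have h1 := congrArg (FiniteField.Extension.frob F p 2) hl
          simp only [map_sub, map_add, map_mul, map_pow, map_zero, AlgEquiv.commutes,
            FiniteField.Extension.frob_apply, Nat.card_eq_fintype_card] at h1
          exact h1
        have hlq : l ^ q = m := by
          have hfac : (l ^ q - l) * (l ^ q - m) = 0 := by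
            have : (l ^ q - l) * (l ^ q - m) =
                ((l ^ q) ^ 2 - algebraMap F K M.trace * l ^ q + algebraMap F K 1) := by
              rw [map_one, ← hprod, hm]; ring
            rw [this, hfrob]
          rcases mul_eq_zero.mp hfac with h | h
          · exfalso
            exact hrat (exists_algebraMap_eq_of_pow_card_eq l (sub_eq_zero.mp h))
          · exact sub_eq_zero.mp h
        have hpow : l ^ (q + 1) = 1 := by
          rw [pow_succ, hlq, mul_comm]; exact hprod
        apply hred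
        refine ⟨l ^ ((q + 1) / Nat.gcd 2 (q - 1)), ?_⟩
        apply pow_eq_smul_one_of_pow_eq hlm hsum hdet
        apply pow_eq_pow_of_mul_eq_one hprod
        rcases gcd_two_cases (q - 1) with ⟨hd, -⟩ | ⟨hd, hev⟩
        · rw [hd, Nat.div_one, pow_mul, pow_right_comm, hpow, one_pow]
        · have hev' : 2 ∣ q + 1 := by
            obtain ⟨c, hc⟩ := hev
            exact ⟨c + 1, by omega⟩
          rw [hd, Nat.mul_div_cancel' hev', hpow]


end

end Cfsg.Agent.Lib.Helper48
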