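import Mathlib
import Cfsg.Agent.Lib.Helper45.SL2Classes
import Cfsg.Agent.Lib.Helper48.SL2Count
import Cfsg.Agent.Lib.Helper48.SL2Card
import Cfsg.Agent.Lib.Helper48.PSL2Basic

set_option autoImplicit false

/-! Class sizes in `PSL(2,F)` for `|F|` odd. Uses helper45's `SL2Classes` / `SL2Unip`. -/

namespace Cfsg.Agent.Lib.Helper48

open Matrix Cfsg.Agent.Lib.Helper45

section odd

variable {F : Type*} [Field F]

/-- the centre of `SL(2,F)` is `{1, -1}` -/
theorem sl2_mem_center_iff' (A : Matrix.SpecialLinearGroup (Fin 2) F) :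
    A ∈ Subgroup.center (Matrix.SpecialLinearGroup (Fin 2) F) ↔ A = 1 ∨ A = slNegOne := by
  rw [sl2_mem_center_iff]
  constructor
  · rintro ⟨r, hr⟩
    have hdet : (A : Matrix (Fin 2) (Fin 2) F).det = 1 := A.2
    rw [hr, Matrix.det_smul, Matrix.det_one, mul_one, Fintype.card_fin] at hdet
    have hr' : r = 1 ∨ r = -1 := (sq_eq_sq_iff_eq_or_eq_neg (a := r) (b := 1)).mp (by rw [hdet, one_pow])
    rcases hr' with rfl | rfl
    · left
      apply Subtype.ext
      rw [hr, one_smul]; rfl
    · right
      apply Subtype.ext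
      rw [hr, slNegOne_coe]
      ext i j
      fin_cases i <;> fin_cases j <;> simp
  · rintro (rfl | rfl)
    · exact ⟨1, by simp⟩
    · refine ⟨-1, ?_⟩
      rw [slNegOne_coe]
      ext i j
      fin_cases i <;> fin_cases j <;> simp

theorem slNegOne_ne_one (h2 : (2 : F) ≠ 0) : (slNegOne : Matrix.SpecialLinearGroup (Fin 2) F) ≠ 1 := by
  intro h
  have := congrArg (fun X : Matrix.SpecialLinearGroup (Fin 2) F => (X : Matrix (Fin 2) (Fin 2) F) 0 0) h
  simp [slNegOne_coe] at this
  apply h2
  linear_combination -this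

theorem card_center_sl2 (h2 : (2 : F) ≠ 0) :
    Nat.card (Subgroup.center (Matrix.SpecialLinearGroup (Fin 2) F)) = 2 := by
  rw [Nat.card_eq_two_iff]
  refine ⟨⟨1, Subgroup.one_mem _⟩, ⟨slNegOne, (sl2_mem_center_iff' _).mpr (Or.inr rfl)⟩, ?_, ?_⟩
  · intro h
    exact slNegOne_ne_one h2 (congrArg Subtype.val h).symm
  · ext ⟨x, hx⟩
    simp only [Set.mem_insert_iff, Set.mem_singleton_iff, Set.mem_univ, iff_true, Subtype.mk.injEq]
    exact (sl2_mem_center_iff' x).mp hx

theorem mk_slNegOne :
    (QuotientGroup.mk slNegOne : Matrix.ProjectiveSpecialLinearGroup (Fin 2) F) = 1 := by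
  rw [QuotientGroup.eq_one_iff]
  exact (sl2_mem_center_iff' _).mpr (Or.inr rfl)

/-- conjugacy in `PSL(2,F)` in terms of conjugacy in `SL(2,F)` -/
theorem isConj_mk_iff (A B : Matrix.SpecialLinearGroup (Fin 2) F) :
    IsConj (QuotientGroup.mk A : Matrix.ProjectiveSpecialLinearGroup (Fin 2) F) (QuotientGroup.mk B) ↔
      IsConj A B ∨ IsConj (slNegOne * A) B := by
  constructor
  · intro h
    obtain ⟨g, hg⟩ := isConj_iff.mp h
    obtain ⟨X, rfl⟩ := QuotientGroup.mk_surjective g
    rw [← QuotientGroup.mk_inv, ← QuotientGroup.mk_mul, ← QuotientGroup.mk_mul, QuotientGroup.eq,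
      sl2_mem_center_iff'] at hg
    rcases hg with hg | hg
    · left
      refine isConj_iff.mpr ⟨X, ?_⟩
      have := congrArg (fun Y => (X * A * X⁻¹) * Y) hg
      simpa [mul_assoc] using this.symm
    · right
      refine isConj_iff.mpr ⟨X, ?_⟩
      have h1 : B = (X * A * X⁻¹) * slNegOne := by
        have := congrArg (fun Y => (X * A * X⁻¹) * Y) hg
        simpa [mul_assoc] using this
      rw [h1]
      calc X * (slNegOne * A) * X⁻¹ = (X * slNegOne) * (A * X⁻¹) := by group
        _ = (slNegOne * X) * (A * X⁻¹) := by rw [slNegOne_comm X]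
        _ = slNegOne * (X * A * X⁻¹) := by group
        _ = X * A * X⁻¹ * slNegOne := slNegOne_comm _
  · rintro (h | h)
    · exact (QuotientGroup.mk' (Subgroup.center (Matrix.SpecialLinearGroup (Fin 2) F))).map_isConj h
    · have := (QuotientGroup.mk' (Subgroup.center (Matrix.SpecialLinearGroup (Fin 2) F))).map_isConj h
      simp only [QuotientGroup.mk'_apply, QuotientGroup.mk_mul, mk_slNegOne, one_mul] at this
      exact this

/-- class sizes in `PSL(2,F)` counted in `SL(2,F)` -/
theorem two_mul_index_centralizer_mk [Fintype F] (h2 : (2 : F) ≠ 0)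
    (A : Matrix.SpecialLinearGroup (Fin 2) F) :
    2 * (Subgroup.centralizer ({(QuotientGroup.mk A : Matrix.ProjectiveSpecialLinearGroup (Fin 2) F)} :
      Set (Matrix.ProjectiveSpecialLinearGroup (Fin 2) F))).index =
    Nat.card {B : Matrix.SpecialLinearGroup (Fin 2) F // IsConj A B ∨ IsConj (slNegOne * A) B} := by
  classical
  rw [index_centralizer_eq_card_conj]
  have h := QuotientGroup.card_preimage_mk (Subgroup.center (Matrix.SpecialLinearGroup (Fin 2) F))
    {h : Matrix.ProjectiveSpecialLinearGroup (Fin 2) F | IsConj (QuotientGroup.mk A) h}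
  rw [card_center_sl2 h2] at h
  rw [Set.coe_ofPred] at h
  rw [← h]
  apply Nat.card_congr
  apply Equiv.subtypeEquivRight
  intro B
  simp only [Set.mem_preimage, Set.mem_ofPred_eq]
  exact isConj_mk_iff A B

end odd

section odd2

variable {F : Type*} [Field F] [Fintype F]

/-- semisimple classes of `SL(2,F)`, `|F|` odd, are determined by the trace -/
theorem isConj_iff_trace_odd (hodd : Fintype.card F % 2 = 1)
    (A B : Matrix.SpecialLinearGroup (Fin 2) F)
    (ht : ((A : Matrix (Fin 2) (Fin 2) F).trace) ^ 2 ≠ 4) :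
    IsConj A B ↔ (B : Matrix (Fin 2) (Fin 2) F).trace = (A : Matrix (Fin 2) (Fin 2) F).trace := by
  constructor
  · intro h
    obtain ⟨X, rfl⟩ := isConj_iff.mp h
    exact sl2_trace_conj A X
  · intro h
    have h1 := sl2_conj_comp hodd A ht
    have h2 := sl2_conj_comp hodd B (by rw [h]; exact ht)
    rw [h] at h2
    exact h1.symm.trans h2

/-- class size of a non-identity unipotent element -/
theorem card_conj_of_trace_two (h2 : (2 : F) ≠ 0) (A : Matrix.SpecialLinearGroup (Fin 2) F)
    (ht : (A : Matrix (Fin 2) (Fin 2) F).trace = 2) (hA : A ≠ 1) :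
    2 * Nat.card {B : Matrix.SpecialLinearGroup (Fin 2) F // IsConj A B} = Fintype.card F ^ 2 - 1 := by
  obtain ⟨t', ht', hconj⟩ := sl2_unip_conj A hA (sl2_nilp_of_trace_two A ht)
  have e : Nat.card {B : Matrix.SpecialLinearGroup (Fin 2) F // IsConj A B} =
      Nat.card {B : Matrix.SpecialLinearGroup (Fin 2) F // IsConj (slT t') B} := by
    apply Nat.card_congr
    apply Equiv.subtypeEquivRight
    intro B
    exact ⟨fun h => hconj.trans h, fun h => hconj.symm.trans h⟩
  rw [e, ← index_centralizer_eq_card_conj]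
  have hmul := Subgroup.index_mul_card
    (Subgroup.centralizer ({slT t'} : Set (Matrix.SpecialLinearGroup (Fin 2) F)))
  rw [card_centralizer_slT ht', card_sq_eq_one_char_ne_two h2, card_SL2] at hmul
  have hq : 1 ≤ Fintype.card F := Fintype.card_pos
  have : (2 * (Subgroup.centralizer ({slT t'} : Set (Matrix.SpecialLinearGroup (Fin 2) F))).index) *
      Fintype.card F = (Fintype.card F ^ 2 - 1) * Fintype.card F := by
    rw [mul_comm (Fintype.card F ^ 2 - 1), ← hmul]; ring
  exact Nat.eq_of_mul_eq_mul_right (by omega) this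

theorem trace_slNegOne_mul (A : Matrix.SpecialLinearGroup (Fin 2) F) :
    ((slNegOne * A : Matrix.SpecialLinearGroup (Fin 2) F) : Matrix (Fin 2) (Fin 2) F).trace =
      -(A : Matrix (Fin 2) (Fin 2) F).trace := by
  rw [slNegOne_coe_mul, Matrix.trace_neg]

theorem slNegOne_mul_slNegOne_mul (A : Matrix.SpecialLinearGroup (Fin 2) F) :
    slNegOne * (slNegOne * A) = A := by
  rw [← mul_assoc, slNegOne_mul_self, one_mul]

theorem isConj_slNegOne_mul_iff (A B : Matrix.SpecialLinearGroup (Fin 2) F) :
    IsConj (slNegOne * A) (slNegOne * B) ↔ IsConj A B := by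
  constructor
  · intro h
    have := isConj_slNegOne_mul h
    rwa [slNegOne_mul_slNegOne_mul, slNegOne_mul_slNegOne_mul] at this
  · exact isConj_slNegOne_mul

/-- the classes of `A` and `-A` have the same size -/
theorem card_conj_slNegOne_mul (A : Matrix.SpecialLinearGroup (Fin 2) F) :
    Nat.card {B : Matrix.SpecialLinearGroup (Fin 2) F // IsConj (slNegOne * A) B} =
      Nat.card {B : Matrix.SpecialLinearGroup (Fin 2) F // IsConj A B} := by
  apply Nat.card_congr
  refine ⟨fun B => ⟨slNegOne * B.1, ?_⟩, fun B => ⟨slNegOne * B.1, ?_⟩, ?_, ?_⟩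
  · have := B.2
    rw [← isConj_slNegOne_mul_iff, slNegOne_mul_slNegOne_mul] at this
    exact this
  · exact (isConj_slNegOne_mul_iff A B.1).mpr B.2
  · intro B; apply Subtype.ext; exact slNegOne_mul_slNegOne_mul B.1
  · intro B; apply Subtype.ext; exact slNegOne_mul_slNegOne_mul B.1

end odd2

section odd3

variable {F : Type*} [Field F] [Fintype F]

open Classical in
/-- number of roots of `a (t - a) = 1` -/
noncomputable def rootCount (t : F) : ℕ := (Finset.univ.filter (fun a : F => a * (t - a) = 1)).card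

theorem rootCount_ne_zero_iff (t : F) : rootCount t ≠ 0 ↔ ∃ a : F, a * (t - a) = 1 := by
  classical
  unfold rootCount
  rw [← Nat.pos_iff_ne_zero, Finset.card_pos]
  constructor
  · rintro ⟨a, ha⟩
    exact ⟨a, (Finset.mem_filter.mp ha).2⟩
  · rintro ⟨a, ha⟩
    exact ⟨a, Finset.mem_filter.mpr ⟨Finset.mem_univ a, ha⟩⟩

theorem rootCount_eq_zero_or_two (t : F) (ht : t ^ 2 ≠ 4) : rootCount t = 0 ∨ rootCount t = 2 := by
  classical
  by_cases hex : ∃ a₀ : F, a₀ * (t - a₀) = 1
  · right
    obtain ⟨a₀, ha₀⟩ := hex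
    have hne : a₀ ≠ t - a₀ := by
      intro h
      apply ht
      have h1 : a₀ * a₀ = 1 := by rw [← h] at ha₀; exact ha₀
      have h2 : t = 2 * a₀ := by linear_combination -h
      rw [h2]
      linear_combination 4 * h1
    have : (Finset.univ.filter (fun a : F => a * (t - a) = 1)) = {a₀, t - a₀} := by
      ext a
      simp only [Finset.mem_filter, Finset.mem_univ, true_and, Finset.mem_insert,
        Finset.mem_singleton]
      constructor
      · intro h
        have hfac : (a - a₀) * (a - (t - a₀)) = 0 := by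
          linear_combination ha₀ - h
        rcases mul_eq_zero.mp hfac with h' | h'
        · left; exact sub_eq_zero.mp h'
        · right; exact sub_eq_zero.mp h'
      · rintro (rfl | rfl)
        · exact ha₀
        · linear_combination ha₀
    unfold rootCount
    rw [this, Finset.card_pair hne]
  · left
    by_contra h
    exact hex ((rootCount_ne_zero_iff t).mp h)

theorem rootCount_neg (t : F) : rootCount (-t) = rootCount t := by
  classical
  unfold rootCount
  apply Finset.card_bij (fun a _ => -a)
  · intro a ha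
    simp only [Finset.mem_filter, Finset.mem_univ, true_and] at ha ⊢
    linear_combination ha
  · intro a _ b _ h
    exact neg_injective h
  · intro b hb
    simp only [Finset.mem_filter, Finset.mem_univ, true_and] at hb
    refine ⟨-b, ?_, by simp⟩
    simp only [Finset.mem_filter, Finset.mem_univ, true_and]
    linear_combination hb

theorem card_trace_eq (t : F) :
    Nat.card {B : Matrix.SpecialLinearGroup (Fin 2) F // (B : Matrix (Fin 2) (Fin 2) F).trace = t} =
      Fintype.card F * (Fintype.card F - 1) + Fintype.card F * rootCount t := by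
  classical
  rw [card_sl2_trace]
  rfl

end odd3

section odd4

variable {F : Type*} [Field F] [Fintype F]

/-- class size of the image of `A` in `PSL(2,F)` -/
noncomputable abbrev clsz (A : Matrix.SpecialLinearGroup (Fin 2) F) : ℕ :=
  (Subgroup.centralizer ({(QuotientGroup.mk A : Matrix.ProjectiveSpecialLinearGroup (Fin 2) F)} :
      Set (Matrix.ProjectiveSpecialLinearGroup (Fin 2) F))).index

/-- cardinality of a disjoint union of two subtypes -/
theorem card_subtype_or_of_disjoint {α : Type*} [Finite α] (p q : α → Prop) (h : ∀ a, p a → q a → False) :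
    Nat.card {a // p a ∨ q a} = Nat.card {a // p a} + Nat.card {a // q a} := by
  classical
  have : Fintype α := Fintype.ofFinite α
  simp only [Nat.card_eq_fintype_card, Fintype.card_subtype]
  rw [Finset.filter_or, Finset.card_union_of_disjoint]
  rw [Finset.disjoint_filter]
  intro a _ hp hq
  exact h a hp hq

theorem index_centralizer_mk_central (A : Matrix.SpecialLinearGroup (Fin 2) F)
    (hA : A = 1 ∨ A = slNegOne) : clsz A = 1 := by
  have : (QuotientGroup.mk A : Matrix.ProjectiveSpecialLinearGroup (Fin 2) F) = 1 := by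
    rw [QuotientGroup.eq_one_iff]
    exact (sl2_mem_center_iff' A).mpr hA
  unfold clsz
  rw [this, Subgroup.index_eq_one, Subgroup.centralizer_eq_top_iff_subset]
  simp

theorem index_centralizer_mk_generic (hodd : Fintype.card F % 2 = 1)
    (A : Matrix.SpecialLinearGroup (Fin 2) F)
    (ht4 : ((A : Matrix (Fin 2) (Fin 2) F).trace) ^ 2 ≠ 4)
    (ht0 : (A : Matrix (Fin 2) (Fin 2) F).trace ≠ 0) :
    clsz A = Fintype.card F * (Fintype.card F - 1) +
      Fintype.card F * rootCount ((A : Matrix (Fin 2) (Fin 2) F).trace) := by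
  have h2 : (2 : F) ≠ 0 := two_ne_zero_of_odd_card hodd
  set t := (A : Matrix (Fin 2) (Fin 2) F).trace with ht
  have hnegtr : ((slNegOne * A : Matrix.SpecialLinearGroup (Fin 2) F) : Matrix (Fin 2) (Fin 2) F).trace = -t :=
    trace_slNegOne_mul A
  have hmain := two_mul_index_centralizer_mk h2 A
  have e : Nat.card {B : Matrix.SpecialLinearGroup (Fin 2) F // IsConj A B ∨ IsConj (slNegOne * A) B} =
      Nat.card {B : Matrix.SpecialLinearGroup (Fin 2) F //
        (B : Matrix (Fin 2) (Fin 2) F).trace = t ∨ (B : Matrix (Fin 2) (Fin 2) F).trace = -t} := by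
    apply Nat.card_congr
    apply Equiv.subtypeEquivRight
    intro B
    rw [isConj_iff_trace_odd hodd A B ht4,
      isConj_iff_trace_odd hodd (slNegOne * A) B (by rw [hnegtr, neg_sq]; exact ht4), hnegtr]
  rw [e, card_subtype_or_of_disjoint, card_trace_eq, card_trace_eq, rootCount_neg] at hmain
  · unfold clsz
    omega
  · intro B h1 h2'
    apply ht0
    have : t = -t := h1.symm.trans h2'
    have h3 : 2 * t = 0 := by linear_combination this
    exact (mul_eq_zero.mp h3).resolve_left h2

theorem index_centralizer_mk_trace_zero (hodd : Fintype.card F % 2 = 1)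
    (A : Matrix.SpecialLinearGroup (Fin 2) F)
    (ht0 : (A : Matrix (Fin 2) (Fin 2) F).trace = 0) :
    2 * clsz A = Fintype.card F * (Fintype.card F - 1) + Fintype.card F * rootCount (0 : F) := by
  have h2 : (2 : F) ≠ 0 := two_ne_zero_of_odd_card hodd
  have h4 : (0 : F) ^ 2 ≠ 4 := by
    intro h
    apply h2
    have : (2 : F) * 2 = 0 := by linear_combination -h
    exact (mul_eq_zero.mp this).elim id id
  have hnegtr : ((slNegOne * A : Matrix.SpecialLinearGroup (Fin 2) F) : Matrix (Fin 2) (Fin 2) F).trace = 0 := by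
    rw [trace_slNegOne_mul, ht0, neg_zero]
  have hmain := two_mul_index_centralizer_mk h2 A
  have e : Nat.card {B : Matrix.SpecialLinearGroup (Fin 2) F // IsConj A B ∨ IsConj (slNegOne * A) B} =
      Nat.card {B : Matrix.SpecialLinearGroup (Fin 2) F // (B : Matrix (Fin 2) (Fin 2) F).trace = 0} := by
    apply Nat.card_congr
    apply Equiv.subtypeEquivRight
    intro B
    rw [isConj_iff_trace_odd hodd A B (by rw [ht0]; exact h4),
      isConj_iff_trace_odd hodd (slNegOne * A) B (by rw [hnegtr]; exact h4), hnegtr, ht0, or_self]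
  rw [e, card_trace_eq] at hmain
  unfold clsz
  exact hmain

theorem index_centralizer_mk_unip_aux (hodd : Fintype.card F % 2 = 1)
    (A : Matrix.SpecialLinearGroup (Fin 2) F)
    (ht : (A : Matrix (Fin 2) (Fin 2) F).trace = 2) (hA : A ≠ 1) :
    2 * clsz A = Fintype.card F ^ 2 - 1 := by
  have h2 : (2 : F) ≠ 0 := two_ne_zero_of_odd_card hodd
  have hmain := two_mul_index_centralizer_mk h2 A
  rw [card_subtype_or_of_disjoint, card_conj_slNegOne_mul] at hmain
  · have := card_conj_of_trace_two h2 A ht hA
    unfold clsz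
    omega
  · intro B h1 h2'
    obtain ⟨X, rfl⟩ := isConj_iff.mp h1
    obtain ⟨Y, hY⟩ := isConj_iff.mp h2'
    have e1 := sl2_trace_conj A X
    have e2 := sl2_trace_conj (slNegOne * A) Y
    rw [hY, e1, trace_slNegOne_mul, ht] at e2
    apply h2
    have : (2 : F) * 2 = 0 := by linear_combination e2
    exact (mul_eq_zero.mp this).elim id id

theorem index_centralizer_mk_unip (hodd : Fintype.card F % 2 = 1)
    (A : Matrix.SpecialLinearGroup (Fin 2) F)
    (ht : (A : Matrix (Fin 2) (Fin 2) F).trace = 2 ∨ (A : Matrix (Fin 2) (Fin 2) F).trace = -2)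
    (hA : A ≠ 1) (hA' : A ≠ slNegOne) :
    2 * clsz A = Fintype.card F ^ 2 - 1 := by
  rcases ht with ht | ht
  · exact index_centralizer_mk_unip_aux hodd A ht hA
  · have h1 : ((slNegOne * A : Matrix.SpecialLinearGroup (Fin 2) F) : Matrix (Fin 2) (Fin 2) F).trace = 2 := by
      rw [trace_slNegOne_mul, ht, neg_neg]
    have h2 : slNegOne * A ≠ 1 := by
      intro h
      apply hA'
      have := congrArg (fun Y => slNegOne * Y) h
      simp only [slNegOne_mul_slNegOne_mul, mul_one] at this
      exact this
    have h3 := index_centralizer_mk_unip_aux hodd (slNegOne * A) h1 h2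
    have h4 : (QuotientGroup.mk (slNegOne * A) : Matrix.ProjectiveSpecialLinearGroup (Fin 2) F) =
        QuotientGroup.mk A := by
      rw [QuotientGroup.mk_mul, mk_slNegOne, one_mul]
    unfold clsz at h3 ⊢
    rw [h4] at h3
    exact h3

end odd4

end Cfsg.Agent.Lib.Helper48
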