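import Mathlib
import Cfsg.Agent.Lib.Helper48.PSL2Spec
import Cfsg.Agent.Lib.Helper48.SL2Count

set_option autoImplicit false

/-! The non-split torus of `SL(2,F)`: companion matrices of non-split traces. -/

namespace Cfsg.Agent.Lib.Helper48

open Matrix

section

variable {F : Type*} [Field F]

/-- companion matrix of `X² - t X + 1` in `SL(2,F)` -/
def slCompanion (t : F) : Matrix.SpecialLinearGroup (Fin 2) F :=
  ⟨!![0, -1; 1, t], by simp [Matrix.det_fin_two]⟩

theorem slCompanion_coe (t : F) :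
    ((slCompanion t : Matrix.SpecialLinearGroup (Fin 2) F) : Matrix (Fin 2) (Fin 2) F) =
      !![0, -1; 1, t] := rfl

theorem slCompanion_trace (t : F) :
    ((slCompanion t : Matrix.SpecialLinearGroup (Fin 2) F) : Matrix (Fin 2) (Fin 2) F).trace = t := by
  simp [slCompanion_coe, Matrix.trace_fin_two]

theorem slCompanion_ne_smul_one (t : F) (r : F) :
    ((slCompanion t : Matrix.SpecialLinearGroup (Fin 2) F) : Matrix (Fin 2) (Fin 2) F) ≠
      r • (1 : Matrix (Fin 2) (Fin 2) F) := by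
  intro hr
  have := congrFun (congrFun hr 1) 0
  simp [slCompanion_coe] at this

/-- the order of the image in `PSL(2,F)` of the companion matrix of a non-split trace -/
theorem orderOf_mk_slCompanion [Fintype F] (p : ℕ) [Fact p.Prime] [CharP F p]
    (z : (FiniteField.Extension F p 2)ˣ) (t₀ : F) (hz : orderOf z = Fintype.card F + 1)
    (ht₀ : algebraMap F (FiniteField.Extension F p 2) t₀ =
        (z : FiniteField.Extension F p 2) + (z : FiniteField.Extension F p 2)⁻¹) :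
    orderOf (QuotientGroup.mk (slCompanion t₀) : Matrix.ProjectiveSpecialLinearGroup (Fin 2) F) =
      (Fintype.card F + 1) / Nat.gcd 2 (Fintype.card F - 1) := by
  classical
  let K := FiniteField.Extension F p 2
  let φ : F →+* K := algebraMap F K
  have hq2 : 2 ≤ Fintype.card F := Fintype.one_lt_card
  have hzne : (z : K) ≠ 0 := z.ne_zero
  have hprod : (z : K) * (z : K)⁻¹ = 1 := mul_inv_cancel₀ hzne
  have hpow_iff : ∀ k : ℕ, (z : K) ^ k = 1 ↔ (Fintype.card F + 1) ∣ k := by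
    intro k
    rw [← hz, orderOf_dvd_iff_pow_eq_one, ← Units.val_pow_eq_pow_val, Units.val_eq_one]
  set C := slCompanion t₀ with hC
  have hCtr : (φ.mapMatrix (C : Matrix (Fin 2) (Fin 2) F)).trace = (z : K) + (z : K)⁻¹ := by
    rw [trace_mapMatrix, ← ht₀, slCompanion_trace]
  have hCdet : (φ.mapMatrix (C : Matrix (Fin 2) (Fin 2) F)).det = (z : K) * (z : K)⁻¹ := by
    rw [det_mapMatrix, hprod, C.2, map_one]
  have hne : (z : K) ≠ (z : K)⁻¹ := by
    intro h
    have h2 : (z : K) ^ 2 = 1 := by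
      rw [pow_two]; nth_rewrite 2 [h]; exact hprod
    have := (hpow_iff 2).mp h2
    have := Nat.le_of_dvd (by norm_num) this
    omega
  have hCns : ∀ c : K, φ.mapMatrix (C : Matrix (Fin 2) (Fin 2) F) ≠ c • (1 : Matrix (Fin 2) (Fin 2) K) :=
    mapMatrix_ne_smul_one φ _ (slCompanion_ne_smul_one t₀)
  have hgcd : Nat.gcd 2 (Fintype.card F - 1) = Nat.gcd 2 (Fintype.card F + 1) := by
    have : Fintype.card F + 1 = (Fintype.card F - 1) + 2 := by omega
    rw [this, Nat.gcd_add_self_right]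
  refine orderOf_eq_of_forall_pow_eq_one_iff _ _ ?_
  intro k
  rw [psl2_mk_pow_eq_one_iff, pow_scalar_iff_map φ, hgcd, ← dvd_two_mul_iff, ← hpow_iff,
    ← pow_eq_pow_iff_of_mul_eq_one hprod]
  constructor
  · rintro ⟨c, hc⟩
    obtain ⟨h1, h2⟩ := (pow_eq_smul_one_iff hne hCtr hCdet hCns k c).mp hc
    exact h1.trans h2.symm
  · intro h
    exact ⟨(z : K) ^ k, (pow_eq_smul_one_iff hne hCtr hCdet hCns k _).mpr ⟨rfl, h.symm⟩⟩

/-- two elements of `SL(2,F)` with the same first column differ by an upper unitriangular matrix -/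
theorem exists_eq_mul_unitriangular (Y Z : Matrix.SpecialLinearGroup (Fin 2) F)
    (h0 : (Y : Matrix (Fin 2) (Fin 2) F) 0 0 = (Z : Matrix (Fin 2) (Fin 2) F) 0 0)
    (h1 : (Y : Matrix (Fin 2) (Fin 2) F) 1 0 = (Z : Matrix (Fin 2) (Fin 2) F) 1 0) :
    ∃ b : F, (Y : Matrix (Fin 2) (Fin 2) F) = (Z : Matrix (Fin 2) (Fin 2) F) * !![1, b; 0, 1] := by
  have hY : (Y : Matrix (Fin 2) (Fin 2) F).det = 1 := Y.2
  have hZ : (Z : Matrix (Fin 2) (Fin 2) F).det = 1 := Z.2
  rw [Matrix.det_fin_two] at hY hZ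
  rw [h0, h1] at hY
  refine ⟨(Z : Matrix (Fin 2) (Fin 2) F) 1 1 * (Y : Matrix (Fin 2) (Fin 2) F) 0 1 -
    (Z : Matrix (Fin 2) (Fin 2) F) 0 1 * (Y : Matrix (Fin 2) (Fin 2) F) 1 1, ?_⟩
  ext i j
  fin_cases i <;> fin_cases j
  · simp [Matrix.mul_apply, Fin.sum_univ_two, h0]
  · simp [Matrix.mul_apply, Fin.sum_univ_two]
    linear_combination (-(Y : Matrix (Fin 2) (Fin 2) F) 0 1) * hZ +
      (Z : Matrix (Fin 2) (Fin 2) F) 0 1 * hY
  · simp [Matrix.mul_apply, Fin.sum_univ_two, h1]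
  · simp [Matrix.mul_apply, Fin.sum_univ_two]
    linear_combination (-(Y : Matrix (Fin 2) (Fin 2) F) 1 1) * hZ +
      (Z : Matrix (Fin 2) (Fin 2) F) 1 1 * hY

end

end Cfsg.Agent.Lib.Helper48
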