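import Mathlib
import Cfsg.Agent.Lib.Helper38.SpF.Defs
import Cfsg.Agent.Lib.Helper49.SpInvDefs

/-!
# K-SpF-B (keystone 597506, S5975 pack): the arithmetic leaf

`r ∣ N`, `N * |Sp_{2m}(q^k)| ∣ |Sp_{2km}(q)|` force `c = cOf (ord_r q) ≤ 2km` and `¬ 2k ∣ c`.
No valuations: `|Sp_{2km}(q)| = |Sp_{2m}(q^k)| * R` with
`R = q^e ∏_{a<m} ∏_{t<k-1} (q^(2(ka+t+1)) - 1)` and `r ∣ q^(2j) - 1` forces `c ∣ 2j`.
-/

set_option autoImplicit false
set_option linter.unusedVariables false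

namespace Cfsg.Agent.Lib.Helper48.SpF

open Cfsg.Agent.Lib.Helper38.SpF
open Cfsg.Agent.Lib.Helper49.SpInv (spOrd)

/-- `r ∣ q^(2j) - 1` forces `cOf (ord_r q) ∣ 2j` -/
theorem cOf_dvd_of_dvd (q r j : ℕ) [Fact r.Prime] (hq : 1 ≤ q) (h : r ∣ q ^ (2 * j) - 1) :
    cOf (orderOf (q : ZMod r)) ∣ 2 * j := by
  have h1 : 1 ≤ q ^ (2 * j) := Nat.one_le_pow _ _ hq
  have hpow : (q : ZMod r) ^ (2 * j) = 1 := by
    have := (ZMod.natCast_eq_zero_iff _ r).mpr h
    rw [Nat.cast_sub h1, Nat.cast_pow, Nat.cast_one, sub_eq_zero] at this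
    exact this
  have hdv : orderOf (q : ZMod r) ∣ 2 * j := orderOf_dvd_of_pow_eq_one hpow
  unfold cOf
  split_ifs with hev
  · exact hdv
  · have hodd : Odd (orderOf (q : ZMod r)) := Nat.not_even_iff_odd.mp hev
    have hcop : Nat.Coprime (orderOf (q : ZMod r)) 2 := Nat.coprime_two_right.mpr hodd
    exact Nat.mul_dvd_mul_left 2 (hcop.dvd_of_dvd_mul_left hdv)

/-- splitting `∏_{j=1}^{km} f j` into the multiples of `k` and the rest -/
theorem prod_range_mul_split (f : ℕ → ℕ) (k' m : ℕ) :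
    ∏ j ∈ Finset.range ((k' + 1) * m), f (j + 1) =
      (∏ a ∈ Finset.range m, f ((k' + 1) * (a + 1))) *
        ∏ a ∈ Finset.range m, ∏ t ∈ Finset.range k', f ((k' + 1) * a + t + 1) := by
  induction m with
  | zero => simp
  | succ m ih =>
    rw [Nat.mul_succ, Finset.prod_range_add, ih, Finset.prod_range_succ (fun a => f ((k' + 1) * (a + 1))),
      Finset.prod_range_succ (fun a => ∏ t ∈ Finset.range k', f ((k' + 1) * a + t + 1)),
      Finset.prod_range_succ (fun x => f ((k' + 1) * m + x + 1))]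
    have e : (k' + 1) * m + k' + 1 = (k' + 1) * (m + 1) := by ring
    rw [e]
    ring

theorem spOrd_pos (q d : ℕ) (hq : 2 ≤ q) : 0 < spOrd q d := by
  unfold spOrd
  apply Nat.mul_pos (pow_pos (by omega) _)
  apply Finset.prod_pos
  intro i _
  have h1 : 1 < q ^ (2 * (i + 1)) := Nat.one_lt_pow (by omega) (by omega)
  omega

/-- `|Sp_{2km}(q)| = |Sp_{2m}(q^k)| * R` -/
theorem spOrd_mul_eq (q k' m : ℕ) :
    spOrd q ((k' + 1) * m) = spOrd (q ^ (k' + 1)) m *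
      (q ^ (k' * (k' + 1) * m ^ 2) *
        ∏ a ∈ Finset.range m, ∏ t ∈ Finset.range k', (q ^ (2 * ((k' + 1) * a + t + 1)) - 1)) := by
  unfold spOrd
  have h1 := prod_range_mul_split (fun j => q ^ (2 * j) - 1) k' m
  rw [h1]
  have h2 : ∏ a ∈ Finset.range m, ((q ^ (k' + 1)) ^ (2 * (a + 1)) - 1) =
      ∏ a ∈ Finset.range m, (q ^ (2 * ((k' + 1) * (a + 1))) - 1) := by
    refine Finset.prod_congr rfl fun a _ => ?_
    rw [← pow_mul]
    congr 2
    ring
  rw [h2]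
  have h3 : q ^ (((k' + 1) * m) ^ 2) = (q ^ (k' + 1)) ^ (m ^ 2) * q ^ (k' * (k' + 1) * m ^ 2) := by
    rw [← pow_mul, ← pow_add]
    congr 1
    ring
  rw [h3]
  ring

/-- **K-SpF-B** (597506) -/
theorem arith (q k m N r : ℕ) (hq : 2 ≤ q) (hk : k.Prime) (hm : 1 ≤ m) [Fact r.Prime] (hr2 : r ≠ 2)
    (hrq : ¬ r ∣ q) (hN : N * spOrd (q ^ k) m ∣ spOrd q (k * m)) (hrN : r ∣ N) :
    cOf (orderOf (q : ZMod r)) ≤ 2 * (k * m) ∧ ¬ 2 * k ∣ cOf (orderOf (q : ZMod r)) := by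
  have hr : r.Prime := Fact.out
  have hk1 : 1 ≤ k := hk.one_lt.le
  constructor
  · have h1 : r ∣ spOrd q (k * m) := (hrN.trans (dvd_mul_right N _)).trans hN
    unfold spOrd at h1
    rcases (Nat.Prime.dvd_mul hr).mp h1 with h | h
    · exact absurd (hr.dvd_of_dvd_pow h) hrq
    · obtain ⟨j, hj, hdvd⟩ := (Prime.dvd_finsetProd_iff hr.prime _).mp h
      rw [Finset.mem_range] at hj
      have h2 := cOf_dvd_of_dvd q r (j + 1) (by omega) hdvd
      have h3 := Nat.le_of_dvd (by omega) h2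
      omega
  · intro h2k
    obtain ⟨k', rfl⟩ : ∃ k', k = k' + 1 := ⟨k - 1, by omega⟩
    rw [spOrd_mul_eq q k' m, mul_comm N] at hN
    have hq2 : 2 ≤ q ^ (k' + 1) := by
      calc 2 ≤ q := hq
        _ = q ^ 1 := (pow_one q).symm
        _ ≤ q ^ (k' + 1) := Nat.pow_le_pow_right (by omega) (by omega)
    have hNR := Nat.dvd_of_mul_dvd_mul_left (spOrd_pos (q ^ (k' + 1)) m hq2) hN
    have hrR := hrN.trans hNR
    rcases (Nat.Prime.dvd_mul hr).mp hrR with h | h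
    · exact absurd (hr.dvd_of_dvd_pow h) hrq
    · obtain ⟨a, _, hda⟩ := (Prime.dvd_finsetProd_iff hr.prime _).mp h
      obtain ⟨t, ht, hdt⟩ := (Prime.dvd_finsetProd_iff hr.prime _).mp hda
      rw [Finset.mem_range] at ht
      have h2 := cOf_dvd_of_dvd q r ((k' + 1) * a + t + 1) (by omega) hdt
      have h3 : 2 * (k' + 1) ∣ 2 * ((k' + 1) * a + t + 1) := h2k.trans h2
      have h4 : k' + 1 ∣ (k' + 1) * a + t + 1 := Nat.dvd_of_mul_dvd_mul_left (by norm_num) h3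
      have h5 : k' + 1 ∣ t + 1 := by
        rw [add_assoc] at h4
        exact (Nat.dvd_add_right (dvd_mul_right (k' + 1) a)).mp h4
      have h6 := Nat.le_of_dvd (by omega) h5
      omega

end Cfsg.Agent.Lib.Helper48.SpF
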