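import Mathlib
import Cfsg.Agent.Lib.Helper40.NilCovDefs

/-!
# K-S3894-R7 (keystone 389409, architect helper40): `exists_w`.
-/

set_option autoImplicit false

namespace Cfsg.Agent.Lib.Helper48.S3894

open Matrix Cfsg.Agent.Lib.Helper40.NilCov

variable {F : Type*} [Field F]

/-- the transvection `1 + c E_{ij}`, `i ≠ j`, as an invertible matrix -/
def transGL {n : ℕ} (i j : Fin n) (hij : i ≠ j) (c : F) : GL (Fin n) F where
  val := Matrix.transvection i j c
  inv := Matrix.transvection i j (-c)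
  val_inv := (Matrix.transvection_mul_transvection_same (i := i) (j := j) hij c (-c)).trans
    (by rw [add_neg_cancel, Matrix.transvection_zero])
  inv_val := (Matrix.transvection_mul_transvection_same (i := i) (j := j) hij (-c) c).trans
    (by rw [neg_add_cancel, Matrix.transvection_zero])

/-- K-S3894-R7.  For `n ≥ 3` some `w ∈ GL_n(F)` fixes `e_0` but `w⁻¹` moves the row-line of `e_{n-1}ᵀ`. -/
theorem exists_w (n : ℕ) (hn : 3 ≤ n) :
    ∃ w : GL (Fin n) F,
      (w : Matrix (Fin n) (Fin n) F) *ᵥ (Pi.single (⟨0, by omega⟩ : Fin n) (1 : F)) =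
        Pi.single (⟨0, by omega⟩ : Fin n) (1 : F) ∧
      ¬ ∃ c : F, (Pi.single (⟨n - 1, by omega⟩ : Fin n) (1 : F)) ᵥ*
          ((w⁻¹ : GL (Fin n) F) : Matrix (Fin n) (Fin n) F) =
        c • (Pi.single (⟨n - 1, by omega⟩ : Fin n) (1 : F)) := by
  classical
  have hij : (⟨n - 1, by omega⟩ : Fin n) ≠ ⟨n - 2, by omega⟩ := by
    intro h
    have := congrArg Fin.val h
    simp only at this
    omega
  have h20 : (⟨n - 2, by omega⟩ : Fin n) ≠ ⟨0, by omega⟩ := by
    intro h
    have := congrArg Fin.val h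
    simp only at this
    omega
  refine ⟨transGL ⟨n - 1, by omega⟩ ⟨n - 2, by omega⟩ hij 1, ?_, ?_⟩
  · show Matrix.transvection _ _ (1 : F) *ᵥ _ = _
    rw [Matrix.transvection, Matrix.add_mulVec, Matrix.one_mulVec, Matrix.single_mulVec]
    rw [Pi.single_eq_of_ne h20]
    simp
  · rintro ⟨c, hc⟩
    have h1 := congrFun hc ⟨n - 2, by omega⟩
    have h2 : ((transGL (⟨n - 1, by omega⟩ : Fin n) ⟨n - 2, by omega⟩ hij (1 : F))⁻¹ : GL (Fin n) F).val =
        Matrix.transvection (⟨n - 1, by omega⟩ : Fin n) ⟨n - 2, by omega⟩ (-1 : F) := rfl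
    rw [h2, Matrix.single_one_vecMul] at h1
    simp only [Matrix.transvection, Matrix.row_apply, Matrix.add_apply, Matrix.one_apply_ne hij,
      Matrix.single_apply_same, Pi.smul_apply, Pi.single_eq_of_ne hij.symm, smul_eq_mul, mul_zero,
      zero_add] at h1
    exact one_ne_zero (neg_eq_zero.1 h1)

end Cfsg.Agent.Lib.Helper48.S3894
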