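import Mathlib
import Cfsg.Prelude.Def_GeometricClasses
import Cfsg.Agent.Lib.Helper11.SpMax

/-!
K-SpMax-N1 (keystone 579002) and K-SpMax-N2 (keystone 579003), architect helper44:
`Sp` stabilises no proper non-zero subspace and lies in no decomposition stabiliser.
-/

set_option autoImplicit false

namespace Cfsg.Agent.Lib.Helper48.SpMax

open Cfsg Cfsg.Geo
open scoped Matrix Kronecker MatrixGroups

variable {F : Type*} [Field F] [Fintype F] {m : ℕ}

/-- K-SpMax-N1. -/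
theorem sp_not_le_subspaceStabilizer (W : Submodule F (Fin m ⊕ Fin m → F)) (h0 : W ≠ ⊥) (h1 : W ≠ ⊤) :
    ¬ spGL m F ≤ subspaceStabilizer W := by
  intro hle
  obtain ⟨w, hwW, hw0⟩ := Submodule.exists_mem_ne_zero_of_ne_bot h0
  have hex : ∃ v, v ∉ W := by
    by_contra hcon
    exact h1 (Submodule.eq_top_iff'.mpr (fun v => by_contra (fun h => hcon ⟨v, h⟩)))
  obtain ⟨v, hvW⟩ := hex
  have hv0 : v ≠ 0 := fun h => hvW (h ▸ W.zero_mem)
  obtain ⟨g, hg, hgw⟩ := Cfsg.Agent.Lib.Helper11.SpMax.exists_spGL_move m w v hw0 hv0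
  have hs := (Cfsg.Agent.Lib.Helper11.SpMax.mem_stab_iff m W g).mp (hle hg) w
  exact hvW (hgw ▸ hs.mp hwW)

/-- K-SpMax-N2. -/
theorem sp_not_le_decompositionStabilizer {t k : ℕ} (D : Fin t → Submodule F (Fin m ⊕ Fin m → F))
    (hD : IsMDecomposition k D) : ¬ spGL m F ≤ decompositionStabilizer D := by
  intro hle
  have ht : 2 ≤ t := hD.two_le
  set i0 : Fin t := ⟨0, by omega⟩ with hi0
  set i1 : Fin t := ⟨1, by omega⟩ with hi1
  have h01 : i0 ≠ i1 := by
    intro h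
    have := congrArg Fin.val h
    simp [hi0, hi1] at this
  have hne : ∀ i, D i ≠ ⊥ := by
    intro i h
    have := hD.finrank_eq i
    rw [h, finrank_bot] at this
    have := hD.pos
    omega
  obtain ⟨d0, hd0, hd00⟩ := Submodule.exists_mem_ne_zero_of_ne_bot (hne i0)
  obtain ⟨d1, hd1, hd10⟩ := Submodule.exists_mem_ne_zero_of_ne_bot (hne i1)
  have hdisj := hD.indep i0
  have hd1sup : d1 ∈ ⨆ (j) (_ : j ≠ i0), D j :=
    (le_iSup₂ (f := fun j (_ : j ≠ i0) => D j) i1 (Ne.symm h01)) hd1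
  have hsum0 : d0 + d1 ≠ 0 := by
    intro h
    have : d0 = -d1 := eq_neg_of_add_eq_zero_left h
    have hmem : d0 ∈ ⨆ (j) (_ : j ≠ i0), D j := this ▸ Submodule.neg_mem _ hd1sup
    exact hd00 (Submodule.disjoint_def.mp hdisj d0 hd0 hmem)
  obtain ⟨g, hg, hgw⟩ := Cfsg.Agent.Lib.Helper11.SpMax.exists_spGL_move m d0 (d0 + d1) hd00 hsum0
  obtain ⟨σ, hσ⟩ := hle hg
  have hx : d0 + d1 ∈ D (σ i0) := by
    rw [← hσ i0, ← hgw]
    exact Submodule.mem_map.mpr ⟨d0, hd0, by simp [Matrix.toLin'_apply]⟩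
  by_cases hj : σ i0 = i0
  · rw [hj] at hx
    have hd1' : d1 ∈ D i0 := by
      have := Submodule.sub_mem _ hx hd0
      simpa using this
    exact hd10 (Submodule.disjoint_def.mp hdisj d1 hd1' hd1sup)
  · have hxsup : d0 + d1 ∈ ⨆ (j) (_ : j ≠ i0), D j :=
      (le_iSup₂ (f := fun j (_ : j ≠ i0) => D j) (σ i0) hj) hx
    have hd0' : d0 ∈ ⨆ (j) (_ : j ≠ i0), D j := by
      have := Submodule.sub_mem _ hxsup hd1sup
      simpa using this
    exact hd00 (Submodule.disjoint_def.mp hdisj d0 hd0 hd0')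

end Cfsg.Agent.Lib.Helper48.SpMax
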