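import Mathlib
import Cfsg.Prelude.Def_GeometricClasses
import Cfsg.Agent.Lib.Helper11.SpMax

/-!
K-SpMax-N8 (keystone 579009), architect helper44:
`Sp_2m` (`m ≥ 2`) is not inside the similarity group of a quadratic form polarising to the symplectic form.
-/

set_option autoImplicit false

namespace Cfsg.Agent.Lib.Helper48.SpMax

open Cfsg Cfsg.Geo
open scoped Matrix Kronecker MatrixGroups

variable {F : Type*} [Field F] [Fintype F] {m : ℕ}

/-- K-SpMax-N8. -/
theorem sp_not_le_quadSimilarityGroup (hm : 2 ≤ m) (Q : (Fin m ⊕ Fin m → F) → F)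
    (hQ : IsNondegenerateQuadraticForm Q)
    (hpol : ∀ u v, QuadraticMap.polar Q u v = sympForm m F u v) :
    ¬ spGL m F ≤ quadSimilarityGroup Q := by
  intro hle
  -- Q 0 = 0
  have hQ0 : Q 0 = 0 := by
    have := hQ.smul 0 0
    simpa using this
  -- key transfer: singular vectors all or none
  have htrans : ∀ s v : Fin m ⊕ Fin m → F, s ≠ 0 → v ≠ 0 → Q s = 0 → Q v = 0 := by
    intro s v hs hv hQs
    obtain ⟨g, hg, hgs⟩ := Cfsg.Agent.Lib.Helper11.SpMax.exists_spGL_move m s v hs hv
    obtain ⟨c, hc⟩ := hle hg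
    have := hc s
    rw [hgs, hQs, mul_zero] at this
    exact this
  -- 2 * Q v = 0
  have h2Q : ∀ v : Fin m ⊕ Fin m → F, 2 * Q v = 0 := by
    intro v
    have h1 : QuadraticMap.polar Q v v = 0 := by
      rw [hpol]; exact Cfsg.Agent.Lib.Helper18.sf_self m v
    have h2 : Q (v + v) = 4 * Q v := by
      have : v + v = (2 : F) • v := (two_smul F v).symm
      rw [this, hQ.smul]; norm_num
    unfold QuadraticMap.polar at h1
    rw [h2] at h1
    linear_combination h1
  -- the two basis vectors
  set u1 : Fin m ⊕ Fin m → F := Pi.single (Sum.inl ⟨0, by omega⟩) 1 with hu1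
  set u2 : Fin m ⊕ Fin m → F := Pi.single (Sum.inl ⟨1, by omega⟩) 1 with hu2
  have hu1ne : u1 ≠ 0 := by
    intro h
    have := congrFun h (Sum.inl ⟨0, by omega⟩)
    simp [hu1] at this
  -- a nonsingular vector exists
  have hns : ∃ v0 : Fin m ⊕ Fin m → F, Q v0 ≠ 0 := by
    by_contra hcon
    have hall : ∀ v, Q v = 0 := fun v => by_contra (fun h => hcon ⟨v, h⟩)
    obtain ⟨y, hy⟩ := Cfsg.Agent.Lib.Helper18.sf_nondeg_top m u1 hu1ne
    apply hy
    rw [← hpol]
    unfold QuadraticMap.polar
    rw [hall, hall, hall]; ring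
  obtain ⟨v0, hv0⟩ := hns
  have hv0ne : v0 ≠ 0 := fun h => hv0 (h ▸ hQ0)
  -- characteristic two
  have h2 : (2 : F) = 0 := by
    have := h2Q v0
    rcases mul_eq_zero.mp this with h | h
    · exact h
    · exact absurd h hv0
  have hchar : ringChar F = 2 := by
    have : CharP F 2 := (CharP.charP_iff_prime_eq_zero Nat.prime_two).mpr (by exact_mod_cast h2)
    exact ringChar.eq F 2
  -- a nonzero singular vector
  have hsing : ∃ s : Fin m ⊕ Fin m → F, s ≠ 0 ∧ Q s = 0 := by
    by_cases h1 : Q u1 = 0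
    · exact ⟨u1, hu1ne, h1⟩
    · obtain ⟨α, hα⟩ := FiniteField.isSquare_of_char_two hchar (Q u1)
      obtain ⟨β, hβ⟩ := FiniteField.isSquare_of_char_two hchar (Q u2)
      have hα0 : α ≠ 0 := by
        intro h; apply h1; rw [hα, h, mul_zero]
      refine ⟨β • u1 + α • u2, ?_, ?_⟩
      · intro h
        have := congrFun h (Sum.inl ⟨1, by omega⟩)
        simp [hu1, hu2] at this
        exact hα0 this
      · have hp : QuadraticMap.polar Q (β • u1) (α • u2) = 0 := by
          rw [hpol, Cfsg.Agent.Lib.Helper18.sf_smul_left, Cfsg.Agent.Lib.Helper18.sf_smul_right]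
          have : sympForm m F u1 u2 = 0 := by
            rw [hu2, Cfsg.Agent.Lib.Helper18.sf_single_inl]
            simp [hu1]
          rw [this]; ring
        unfold QuadraticMap.polar at hp
        have hs1 := hQ.smul β u1
        have hs2 := hQ.smul α u2
        have : Q (β • u1 + α • u2) = β ^ 2 * Q u1 + α ^ 2 * Q u2 := by
          rw [← hs1, ← hs2]; linear_combination hp
        rw [this, hα, hβ]
        linear_combination (α ^ 2 * β ^ 2) * h2
  obtain ⟨s, hs0, hQs⟩ := hsing
  exact hv0 (htrans s v0 hs0 hv0ne hQs)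

end Cfsg.Agent.Lib.Helper48.SpMax
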