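import Mathlib
import Cfsg.Prelude.Def_GeometricClasses
import Cfsg.Agent.Lib.Helper11.SpMax

/-!
K-SpMax-XA (keystone 579014), architect helper44: over the field with two elements the stabiliser of an
orthogonal decomposition into nondegenerate planes preserves the quadratic form
`Q v = #{i | vᵢ ≠ 0} mod 2`, whose polar form is the symplectic form.
-/

set_option autoImplicit false
set_option linter.unusedSectionVars false
set_option linter.unusedVariables false

namespace Cfsg.Agent.Lib.Helper48.SpMax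

open Cfsg Cfsg.Geo
open scoped Matrix Kronecker MatrixGroups
open Cfsg.Agent.Lib.Helper18

section XA

variable {F : Type*} [Field F] {m t : ℕ}

local notation "V" => (Fin m ⊕ Fin m → F)
local notation "f" => Cfsg.sympForm m F

theorem xa_sf_sum_left {ι : Type*} (s : Finset ι) (c : ι → V) (y : V) :
    f (∑ i ∈ s, c i) y = ∑ i ∈ s, f (c i) y := by
  classical
  induction s using Finset.induction_on with
  | empty => simp [sf_zero_left]
  | insert a s ha ih => rw [Finset.sum_insert ha, Finset.sum_insert ha, sf_add_left, ih]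

theorem xa_sf_sum_right {ι : Type*} (s : Finset ι) (c : ι → V) (y : V) :
    f y (∑ i ∈ s, c i) = ∑ i ∈ s, f y (c i) := by
  classical
  induction s using Finset.induction_on with
  | empty => simp [sf_zero_right]
  | insert a s ha ih => rw [Finset.sum_insert ha, Finset.sum_insert ha, sf_add_right, ih]

/-- an orthogonal decomposition into nondegenerate subspaces (symplectic form) -/
structure SDec (D : Fin t → Submodule F (Fin m ⊕ Fin m → F)) : Prop where
  orth : ∀ i j, i ≠ j → ∀ x ∈ D i, ∀ y ∈ D j, Cfsg.sympForm m F x y = 0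
  nd : ∀ i, ∀ x ∈ D i, (∀ y ∈ D i, Cfsg.sympForm m F x y = 0) → x = 0
  span : ∀ v : Fin m ⊕ Fin m → F, ∃ c : Fin t → (Fin m ⊕ Fin m → F),
    (∀ i, c i ∈ D i) ∧ ∑ i, c i = v

namespace SDec

variable {D : Fin t → Submodule F (Fin m ⊕ Fin m → F)} (hD : SDec D)

include hD

/-- the components of a vector -/
noncomputable def cmp (v : V) : Fin t → V := Classical.choose (hD.span v)

theorem cmp_mem (v : V) (i : Fin t) : hD.cmp v i ∈ D i :=
  (Classical.choose_spec (hD.span v)).1 i

theorem sum_cmp (v : V) : ∑ i, hD.cmp v i = v :=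
  (Classical.choose_spec (hD.span v)).2

theorem sf_sum_mem {c : Fin t → V} (hc : ∀ i, c i ∈ D i) (i : Fin t) {y : V}
    (hy : y ∈ D i) : f (∑ j, c j) y = f (c i) y := by
  rw [xa_sf_sum_left]
  apply Finset.sum_eq_single i
  · intro j _ hji
    exact hD.orth j i hji _ (hc j) _ hy
  · intro h; exact absurd (Finset.mem_univ i) h

theorem unique {c c' : Fin t → V} (hc : ∀ i, c i ∈ D i) (hc' : ∀ i, c' i ∈ D i)
    (h : ∑ i, c i = ∑ i, c' i) : c = c' := by
  funext i
  have h1 : c i - c' i = 0 := by
    apply hD.nd i _ ((D i).sub_mem (hc i) (hc' i))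
    intro y hy
    rw [sf_sub_left, ← hD.sf_sum_mem hc i hy, ← hD.sf_sum_mem hc' i hy, h, sub_self]
  exact sub_eq_zero.mp h1

theorem cmp_eq {v : V} {c : Fin t → V} (hc : ∀ i, c i ∈ D i)
    (h : ∑ i, c i = v) : hD.cmp v = c :=
  hD.unique (hD.cmp_mem v) hc (by rw [hD.sum_cmp, h])

theorem cmp_add (u v : V) : hD.cmp (u + v) = hD.cmp u + hD.cmp v := by
  apply hD.cmp_eq
  · intro i; exact (D i).add_mem (hD.cmp_mem u i) (hD.cmp_mem v i)
  · simp only [Pi.add_apply]
    rw [Finset.sum_add_distrib, hD.sum_cmp, hD.sum_cmp]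

theorem cmp_zero : hD.cmp (0 : V) = 0 := by
  apply hD.cmp_eq
  · intro i; exact (D i).zero_mem
  · simp

theorem sf_cmp (u v : V) : f u v = ∑ i, f (hD.cmp u i) (hD.cmp v i) := by
  conv_lhs => rw [← hD.sum_cmp u]
  rw [xa_sf_sum_left]
  apply Finset.sum_congr rfl
  intro i _
  conv_lhs => rw [← hD.sum_cmp v]
  rw [xa_sf_sum_right]
  apply Finset.sum_eq_single i
  · intro j _ hji
    exact hD.orth i j (Ne.symm hji) _ (hD.cmp_mem u i) _ (hD.cmp_mem v j)
  · intro h; exact absurd (Finset.mem_univ i) h

theorem cmp_act (g : Matrix (Fin m ⊕ Fin m) (Fin m ⊕ Fin m) F) (σ : Equiv.Perm (Fin t))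
    (hσ : ∀ i, ∀ x ∈ D i, g *ᵥ x ∈ D (σ i)) (v : V) (i : Fin t) :
    hD.cmp (g *ᵥ v) (σ i) = g *ᵥ (hD.cmp v i) := by
  have h1 : hD.cmp (g *ᵥ v) = fun j => g *ᵥ (hD.cmp v (σ.symm j)) := by
    apply hD.cmp_eq
    · intro j
      have := hσ (σ.symm j) _ (hD.cmp_mem v (σ.symm j))
      rwa [Equiv.apply_symm_apply] at this
    · rw [Equiv.sum_comp σ.symm (fun j => g *ᵥ (hD.cmp v j))]
      have : ∑ j, g *ᵥ (hD.cmp v j) = g *ᵥ (∑ j, hD.cmp v j) := by
        have h := (map_sum (Matrix.toLin' g) (fun j => hD.cmp v j) Finset.univ).symm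
        simp only [Matrix.toLin'_apply] at h
        exact h
      rw [this, hD.sum_cmp]
  rw [h1]
  simp

end SDec

/-- the indicator of being non-zero -/
noncomputable def chi (x : V) : F := by
  classical
  exact if x = 0 then 0 else 1

theorem chi_zero : chi (0 : V) = 0 := by
  classical
  unfold chi; simp

theorem chi_ne {x : V} (hx : x ≠ 0) : chi x = 1 := by
  classical
  unfold chi; simp [hx]

section two

variable [Fintype F] (hq : Fintype.card F = 2)

include hq

theorem xa_dich (c : F) : c = 0 ∨ c = 1 := by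
  classical
  by_contra h
  have h : c ≠ 0 ∧ c ≠ 1 := ⟨fun h' => h (Or.inl h'), fun h' => h (Or.inr h')⟩
  have h3 : ({0, 1, c} : Finset F).card = 3 := by
    rw [Finset.card_insert_of_notMem, Finset.card_insert_of_notMem, Finset.card_singleton]
    · simp only [Finset.mem_singleton]; exact fun h' => h.2 h'.symm
    · simp only [Finset.mem_insert, Finset.mem_singleton, not_or]
      exact ⟨zero_ne_one, fun h' => h.1 h'.symm⟩
  have := Finset.card_le_univ ({0, 1, c} : Finset F)
  omega

theorem xa_two : (2 : F) = 0 := by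
  rcases xa_dich hq (1 + 1 : F) with h | h
  · rw [← h]; norm_num
  · exfalso
    have : (1 : F) = 0 := by linear_combination h
    exact one_ne_zero this

/-- the plane identity -/
theorem xa_plane (W : Submodule F V) (hW2 : Module.finrank F W = 2)
    (hnd : ∀ x ∈ W, (∀ y ∈ W, f x y = 0) → x = 0) (x y : V) (hx : x ∈ W) (hy : y ∈ W) :
    chi (x + y) - chi x - chi y = f x y := by
  have h2 := xa_two hq
  by_cases hx0 : x = 0
  · subst hx0
    rw [zero_add, chi_zero, sf_zero_left]; ring
  by_cases hy0 : y = 0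
  · subst hy0
    rw [add_zero, chi_zero, sf_zero_right]; ring
  by_cases hxy : x = y
  · subst hxy
    have : x + x = 0 := by
      rw [← two_smul F x, h2, zero_smul]
    rw [this, chi_zero, chi_ne hx0, sf_self]
    linear_combination (-1 : F) * h2
  · have hsum : x + y ≠ 0 := by
      intro h
      apply hxy
      have : x = -y := eq_neg_of_add_eq_zero_left h
      have hneg : -y = y := by
        have : y + y = 0 := by rw [← two_smul F y, h2, zero_smul]
        exact (eq_neg_of_add_eq_zero_left this).symm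
      rw [this, hneg]
    rw [chi_ne hsum, chi_ne hx0, chi_ne hy0]
    -- f x y = 1
    have hfxy : f x y ≠ 0 := by
      intro hzero
      apply hx0
      apply hnd x hx
      -- every z ∈ W is a combination of x and y
      intro z hz
      let b : Fin 2 → W := ![⟨x, hx⟩, ⟨y, hy⟩]
      have hli : LinearIndependent F b := by
        rw [LinearIndependent.pair_iff]
        intro s r hsr
        have hsr' : s • x + r • y = 0 := by
          have := congrArg Subtype.val hsr
          simpa using this
        rcases xa_dich hq s with hs | hs <;> rcases xa_dich hq r with hr | hr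
        · exact ⟨hs, hr⟩
        · exfalso; rw [hs, hr, zero_smul, one_smul, zero_add] at hsr'; exact hy0 hsr'
        · exfalso; rw [hs, hr, zero_smul, one_smul, add_zero] at hsr'; exact hx0 hsr'
        · exfalso; rw [hs, hr, one_smul, one_smul] at hsr'; exact hsum hsr'
      have htop : Submodule.span F (Set.range b) = ⊤ :=
        hli.span_eq_top_of_card_eq_finrank' (by rw [Fintype.card_fin, hW2])
      have hzmem : (⟨z, hz⟩ : W) ∈ Submodule.span F (Set.range b) := by rw [htop]; trivial
      obtain ⟨c, hc⟩ := (Submodule.mem_span_range_iff_exists_fun F).mp hzmem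
      rw [Fin.sum_univ_two] at hc
      have hz' : z = c 0 • x + c 1 • y := by
        have := congrArg Subtype.val hc
        simpa [b] using this.symm
      rw [hz', sf_add_right, sf_smul_right, sf_smul_right, sf_self, hzero]; ring
    rcases xa_dich hq (f x y) with h | h
    · exact absurd h hfxy
    · rw [h]; linear_combination (-1 : F) * h2

end two

end XA

variable {F : Type*} [Field F] [Fintype F] {m : ℕ}

/-- K-SpMax-XA. -/
theorem nondeg_planes_le_quadSimilarityGroup_of_card_two (hq : Fintype.card F = 2) {t : ℕ}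
    (D : Fin t → Submodule F (Fin m ⊕ Fin m → F)) (hD : IsNondegenerateMDecomposition (sympForm m F) 2 D) :
    ∃ Q : (Fin m ⊕ Fin m → F) → F, IsNondegenerateQuadraticForm Q ∧
      (∀ u v, QuadraticMap.polar Q u v = sympForm m F u v) ∧
      decompositionStabilizer D ⊓ spGL m F ≤ quadSimilarityGroup Q := by
  classical
  have hS : SDec D := by
    refine ⟨?_, ?_, ?_⟩
    · intro i j hij x hx y hy
      exact hD.orthogonal i j hij x hx y hy
    · intro i x hx hall
      by_contra hx0
      obtain ⟨-, y, hy, hne⟩ := hD.nondegenerate i x hx hx0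
      exact hne (hall y hy)
    · intro v
      have hv : v ∈ iSup D := by rw [hD.decomp.iSup_eq_top]; exact Submodule.mem_top
      obtain ⟨c, hc, hsum⟩ := (Submodule.mem_iSup_iff_exists_finsupp D v).mp hv
      refine ⟨fun i => c i, hc, ?_⟩
      rw [← hsum, Finsupp.sum_fintype]
      intro i; rfl
  have h2 := xa_two hq
  let Q : (Fin m ⊕ Fin m → F) → F := fun v => ∑ i, chi (hS.cmp v i)
  have hpol : ∀ u v, QuadraticMap.polar Q u v = sympForm m F u v := by
    intro u v
    unfold QuadraticMap.polar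
    show ∑ i, chi (hS.cmp (u + v) i) - ∑ i, chi (hS.cmp u i) - ∑ i, chi (hS.cmp v i) = _
    rw [hS.sf_cmp u v, ← Finset.sum_sub_distrib, ← Finset.sum_sub_distrib]
    apply Finset.sum_congr rfl
    intro i _
    rw [hS.cmp_add]
    exact xa_plane hq (D i) (hD.decomp.finrank_eq i) (hS.nd i) _ _ (hS.cmp_mem u i) (hS.cmp_mem v i)
  have hQ0 : Q 0 = 0 := by
    show ∑ i, chi (hS.cmp 0 i) = 0
    rw [hS.cmp_zero]
    simp [chi_zero]
  refine ⟨Q, ⟨?_, ?_, ?_⟩, hpol, ?_⟩
  · intro c v
    rcases xa_dich hq c with h | h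
    · rw [h, zero_smul, hQ0]; ring
    · rw [h, one_smul]; ring
  · have hfun : QuadraticMap.polar Q = sympForm m F := by
      funext u v; exact hpol u v
    rw [hfun]
    exact ⟨sf_add_left m, sf_smul_left m, fun v x y => sf_add_right m v x y,
      fun c v x => sf_smul_right m c v x⟩
  · have hfun : QuadraticMap.polar Q = sympForm m F := by
      funext u v; exact hpol u v
    rw [hfun]
    intro v hv
    obtain ⟨y, hy⟩ := sf_nondeg_top m v hv
    refine ⟨⟨y, ?_⟩, ⟨y, hy⟩⟩
    rw [sf_swap]
    exact neg_ne_zero.mpr hy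
  · rintro g ⟨⟨σ, hσ⟩, -⟩
    refine ⟨1, fun v => ?_⟩
    rw [Units.val_one, one_mul]
    have hσ' : ∀ i, ∀ x ∈ D i, (g : Matrix _ _ F) *ᵥ x ∈ D (σ i) := by
      intro i x hx
      rw [← hσ i]
      exact Submodule.mem_map.mpr ⟨x, hx, by simp [Matrix.toLin'_apply]⟩
    show ∑ i, chi (hS.cmp ((g : Matrix _ _ F) *ᵥ v) i) = ∑ i, chi (hS.cmp v i)
    rw [← Equiv.sum_comp σ (fun i => chi (hS.cmp ((g : Matrix _ _ F) *ᵥ v) i))]
    apply Finset.sum_congr rfl
    intro i _
    rw [hS.cmp_act _ σ hσ']
    by_cases h0 : hS.cmp v i = 0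
    · rw [h0, Matrix.mulVec_zero]
    · have : (g : Matrix (Fin m ⊕ Fin m) (Fin m ⊕ Fin m) F) *ᵥ hS.cmp v i ≠ 0 := by
        intro h
        apply h0
        have h' := congrArg (fun w => ((g⁻¹ : GL (Fin m ⊕ Fin m) F) : Matrix (Fin m ⊕ Fin m) (Fin m ⊕ Fin m) F) *ᵥ w) h
        simp only [Matrix.mulVec_mulVec, ← Units.val_mul, inv_mul_cancel, Units.val_one,
          Matrix.one_mulVec, Matrix.mulVec_zero] at h'
        exact h'
      rw [chi_ne this, chi_ne h0]

end Cfsg.Agent.Lib.Helper48.SpMax
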