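import Mathlib

set_option autoImplicit false

/-! Abelian permutation groups: `|A| ≤ ∏ (orbit sizes)`, the maximal product of a partition,
and constructions of large abelian subgroups of `Perm (Fin n)`. -/

namespace Cfsg.Agent.Lib.Helper48

open Equiv

section bound

variable {A X : Type*} [Group A] [IsMulCommutative A] [MulAction A X] [FaithfulSMul A X]

/-- an abelian group acting faithfully injects into the product of its orbits -/
theorem orbitMap_injective :
    Function.Injective (fun (a : A) (ω : MulAction.orbitRel.Quotient A X) =>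
      (⟨a • ω.out, MulAction.mem_orbit _ _⟩ : MulAction.orbit A ω.out)) := by
  intro a b hab
  apply FaithfulSMul.eq_of_smul_eq_smul (α := X)
  intro y
  have hy : (Quotient.mk'' y : MulAction.orbitRel.Quotient A X).out ∈ MulAction.orbit A y := by
    have := Quotient.mk_out (s := MulAction.orbitRel A X) y
    exact this
  obtain ⟨c, hc⟩ : ∃ c : A, c • (Quotient.mk'' y : MulAction.orbitRel.Quotient A X).out = y := by
    obtain ⟨d, hd⟩ := hy
    refine ⟨d⁻¹, ?_⟩
    rw [← hd, inv_smul_smul]
  have h1 := congrFun hab (Quotient.mk'' y)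
  simp only [Subtype.mk.injEq] at h1
  rw [← hc, ← mul_smul, ← mul_smul, mul_comm' a c, mul_comm' b c, mul_smul, mul_smul, h1]

theorem card_le_prod_orbits [Finite A] [Fintype X] [Fintype (MulAction.orbitRel.Quotient A X)] :
    Nat.card A ≤ ∏ ω : MulAction.orbitRel.Quotient A X, Nat.card (MulAction.orbit A ω.out) := by
  rw [← Nat.card_pi]
  exact Nat.card_le_card_of_injective _ orbitMap_injective

theorem sum_card_orbits [Fintype X] [Fintype (MulAction.orbitRel.Quotient A X)] :
    ∑ ω : MulAction.orbitRel.Quotient A X, Nat.card (MulAction.orbit A ω.out) = Fintype.card X := by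
  classical
  rw [Fintype.card_congr (MulAction.selfEquivSigmaOrbits A X), Fintype.card_sigma]
  simp only [Nat.card_eq_fintype_card]

end bound

section arith

/-- the largest product of a partition of `n` -/
def maxProd : ℕ → ℕ
  | 0 => 1
  | 1 => 1
  | 2 => 2
  | 3 => 3
  | 4 => 4
  | (n + 5) => 3 * maxProd (n + 2)

theorem maxProd_add_five (n : ℕ) : maxProd (n + 5) = 3 * maxProd (n + 2) := by
  rw [maxProd]

theorem le_maxProd (a : ℕ) : a ≤ maxProd a := by
  induction a using Nat.strong_induction_on with
  | _ a ih =>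
    rcases Nat.lt_or_ge a 5 with h | h
    · interval_cases a <;> simp [maxProd]
    · obtain ⟨n, rfl⟩ : ∃ n, a = n + 5 := ⟨a - 5, by omega⟩
      rw [maxProd_add_five]
      have := ih (n + 2) (by omega)
      omega

theorem maxProd_mul_le (a b : ℕ) : maxProd a * maxProd b ≤ maxProd (a + b) := by
  induction a using Nat.strong_induction_on generalizing b with
  | _ a iha =>
    rcases Nat.lt_or_ge a 5 with ha | ha
    · induction b using Nat.strong_induction_on with
      | _ b ihb =>
        rcases Nat.lt_or_ge b 5 with hb | hb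
        · interval_cases a <;> interval_cases b <;> simp [maxProd]
        · obtain ⟨n, rfl⟩ : ∃ n, b = n + 5 := ⟨b - 5, by omega⟩
          have e : a + (n + 5) = (a + n) + 5 := by ring
          rw [e, maxProd_add_five, maxProd_add_five]
          have := ihb (n + 2) (by omega)
          have e2 : a + (n + 2) = a + n + 2 := by ring
          rw [e2] at this
          calc maxProd a * (3 * maxProd (n + 2)) = 3 * (maxProd a * maxProd (n + 2)) := by ring
            _ ≤ 3 * maxProd (a + n + 2) := Nat.mul_le_mul_left 3 this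
    · obtain ⟨n, rfl⟩ : ∃ n, a = n + 5 := ⟨a - 5, by omega⟩
      have e : n + 5 + b = (n + b) + 5 := by ring
      rw [e, maxProd_add_five, maxProd_add_five]
      have := iha (n + 2) (by omega) b
      have e2 : n + 2 + b = n + b + 2 := by ring
      rw [e2] at this
      calc 3 * maxProd (n + 2) * maxProd b = 3 * (maxProd (n + 2) * maxProd b) := by ring
        _ ≤ 3 * maxProd (n + b + 2) := Nat.mul_le_mul_left 3 this

theorem prod_le_maxProd_sum {ι : Type*} (s : Finset ι) (f : ι → ℕ) :
    ∏ i ∈ s, f i ≤ maxProd (∑ i ∈ s, f i) := by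
  classical
  induction s using Finset.induction_on with
  | empty => simp [maxProd]
  | insert j s hj ih =>
    rw [Finset.prod_insert hj, Finset.sum_insert hj]
    calc f j * ∏ i ∈ s, f i ≤ maxProd (f j) * maxProd (∑ i ∈ s, f i) :=
          Nat.mul_le_mul (le_maxProd _) ih
      _ ≤ _ := maxProd_mul_le _ _

theorem maxProd_closed (k : ℕ) :
    maxProd (3 * k + 3) = 3 ^ (k + 1) ∧ maxProd (3 * k + 4) = 4 * 3 ^ k ∧
      maxProd (3 * k + 2) = 2 * 3 ^ k := by
  induction k with
  | zero => simp [maxProd]
  | succ k ih =>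
    obtain ⟨h1, h2, h3⟩ := ih
    have e1 : 3 * (k + 1) + 3 = (3 * k + 1) + 5 := by ring
    have e2 : 3 * (k + 1) + 4 = (3 * k + 2) + 5 := by ring
    have e3 : 3 * (k + 1) + 2 = (3 * k) + 5 := by ring
    refine ⟨?_, ?_, ?_⟩
    · rw [e1, maxProd_add_five, show 3 * k + 1 + 2 = 3 * k + 3 by ring, h1]; ring
    · rw [e2, maxProd_add_five, show 3 * k + 2 + 2 = 3 * k + 4 by ring, h2]; ring
    · rw [e3, maxProd_add_five, h3]; ring

end arith

section permBound

/-- an abelian subgroup of `S_n` has order at most the largest product of a partition of `n` -/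
theorem card_le_maxProd {n : ℕ} (A : Subgroup (Perm (Fin n))) (hA : IsMulCommutative A) :
    Nat.card A ≤ maxProd n := by
  classical
  haveI : Fintype (MulAction.orbitRel.Quotient A (Fin n)) := Fintype.ofFinite _
  calc Nat.card A ≤ ∏ ω : MulAction.orbitRel.Quotient A (Fin n), Nat.card (MulAction.orbit A ω.out) :=
        card_le_prod_orbits
    _ ≤ maxProd (∑ ω : MulAction.orbitRel.Quotient A (Fin n), Nat.card (MulAction.orbit A ω.out)) :=
        prod_le_maxProd_sum _ _
    _ = maxProd n := by rw [sum_card_orbits, Fintype.card_fin]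

end permBound

section construct

/-- there is an abelian subgroup of `S_n` of order `c` (inside `A_n` if `alt`) -/
def HasAbel (alt : Prop) (n c : ℕ) : Prop :=
  ∃ A : Subgroup (Perm (Fin n)), IsMulCommutative A ∧ (alt → A ≤ alternatingGroup (Fin n)) ∧
    Nat.card A = c

/-- the embedding `S_m × S_n → S_{m+n}` -/
def sumHom (m n : ℕ) : Perm (Fin m) × Perm (Fin n) →* Perm (Fin (m + n)) :=
  (finSumFinEquiv.permCongrHom).toMonoidHom.comp (Perm.sumCongrHom (Fin m) (Fin n))

theorem sumHom_injective (m n : ℕ) : Function.Injective (sumHom m n) := by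
  unfold sumHom
  exact (finSumFinEquiv.permCongrHom).injective.comp Perm.sumCongrHom_injective

theorem sign_sumHom (m n : ℕ) (x : Perm (Fin m) × Perm (Fin n)) :
    Perm.sign (sumHom m n x) = Perm.sign x.1 * Perm.sign x.2 := by
  unfold sumHom
  simp only [MonoidHom.coe_comp, MulEquiv.coe_toMonoidHom, Function.comp_apply]
  rw [show (finSumFinEquiv.permCongrHom) (Perm.sumCongrHom (Fin m) (Fin n) x) =
    finSumFinEquiv.permCongr (Equiv.sumCongr x.1 x.2) from rfl, Perm.sign_permCongr]
  exact Perm.sign_sumCongr x.1 x.2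

theorem HasAbel.add {alt : Prop} {m n a b : ℕ} (hA : HasAbel alt m a) (hB : HasAbel alt n b) :
    HasAbel alt (m + n) (a * b) := by
  obtain ⟨A, hAc, hAalt, hAcard⟩ := hA
  obtain ⟨B, hBc, hBalt, hBcard⟩ := hB
  have hc : IsMulCommutative (A.prod B) := by
    refine ⟨⟨fun x y => ?_⟩⟩
    apply Subtype.ext
    have hx := Subgroup.mem_prod.mp x.2
    have hy := Subgroup.mem_prod.mp y.2
    exact Prod.ext (setLike_mul_comm hx.1 hy.1)
      (setLike_mul_comm hx.2 hy.2)
  refine ⟨(A.prod B).map (sumHom m n), inferInstance, ?_, ?_⟩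
  · intro h
    rintro _ ⟨x, hx, rfl⟩
    have hx' := Subgroup.mem_prod.mp hx
    rw [Perm.mem_alternatingGroup, sign_sumHom]
    have h1 := Perm.mem_alternatingGroup.mp (hAalt h hx'.1)
    have h2 := Perm.mem_alternatingGroup.mp (hBalt h hx'.2)
    rw [h1, h2, one_mul]
  · rw [Subgroup.card_map_of_injective (sumHom_injective m n),
      Nat.card_congr (Subgroup.prodEquiv A B).toEquiv, Nat.card_prod, hAcard, hBcard]

theorem HasAbel.cast {alt : Prop} {m n c : ℕ} (h : m = n) (hA : HasAbel alt m c) : HasAbel alt n c := by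
  subst h; exact hA

/-- the cyclic group generated by an `n`-cycle -/
theorem hasAbel_cyclic (n : ℕ) (hn : 2 ≤ n) : HasAbel False n n := by
  refine ⟨Subgroup.zpowers (finRotate n), inferInstance, fun h => h.elim, ?_⟩
  rw [Nat.card_zpowers, ← Perm.lcm_cycleType, cycleType_finRotate_of_le hn]
  simp

theorem hasAbel_three (alt : Prop) : HasAbel alt 3 3 := by
  refine ⟨Subgroup.zpowers (finRotate 3), inferInstance, fun _ => ?_, ?_⟩
  · rw [Subgroup.zpowers_le, Perm.mem_alternatingGroup, sign_finRotate]
    norm_num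
  · rw [Nat.card_zpowers, ← Perm.lcm_cycleType, cycleType_finRotate_of_le (by norm_num)]
    simp

theorem HasAbel.of_alt {alt : Prop} {n c : ℕ} (h : HasAbel True n c) : HasAbel alt n c := by
  obtain ⟨A, h1, h2, h3⟩ := h
  exact ⟨A, h1, fun _ => h2 trivial, h3⟩

theorem hasAbel_zero (alt : Prop) : HasAbel alt 0 1 := by
  refine ⟨⊥, inferInstance, fun _ => bot_le, ?_⟩
  simp

theorem hasAbel_three_mul (alt : Prop) (k : ℕ) : HasAbel alt (3 * k) (3 ^ k) := by
  induction k with
  | zero => exact hasAbel_zero alt
  | succ k ih =>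
    have := ih.add (hasAbel_three alt)
    rw [← pow_succ] at this
    exact this.cast (by ring)

end construct

end Cfsg.Agent.Lib.Helper48
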