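import Mathlib
import Cfsg.Agent.Lib.Helper48.AbelPerm

set_option autoImplicit false

/-! Abelian subgroups of the alternating groups. -/

namespace Cfsg.Agent.Lib.Helper48

open Equiv

section arith

/-- the largest product of a partition of `n` without parts equal to `2` -/
def maxProdAlt : ℕ → ℕ
  | 0 => 1
  | 1 => 1
  | 2 => 1
  | 3 => 3
  | 4 => 4
  | 5 => 5
  | 6 => 9
  | 7 => 12
  | 8 => 16
  | (n + 9) => 3 * maxProdAlt (n + 6)

theorem maxProdAlt_add_nine (n : ℕ) : maxProdAlt (n + 9) = 3 * maxProdAlt (n + 6) := by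
  rw [maxProdAlt]

theorem le_maxProdAlt (a : ℕ) (h2 : a ≠ 2) : a ≤ maxProdAlt a := by
  induction a using Nat.strong_induction_on with
  | _ a ih =>
    rcases Nat.lt_or_ge a 9 with h | h
    · interval_cases a <;> simp_all [maxProdAlt]
    · obtain ⟨n, rfl⟩ : ∃ n, a = n + 9 := ⟨a - 9, by omega⟩
      rw [maxProdAlt_add_nine]
      have := ih (n + 6) (by omega) (by omega)
      omega

theorem maxProdAlt_mul_le (a b : ℕ) : maxProdAlt a * maxProdAlt b ≤ maxProdAlt (a + b) := by
  induction a using Nat.strong_induction_on generalizing b with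
  | _ a iha =>
    rcases Nat.lt_or_ge a 9 with ha | ha
    · induction b using Nat.strong_induction_on with
      | _ b ihb =>
        rcases Nat.lt_or_ge b 9 with hb | hb
        · interval_cases a <;> interval_cases b <;> simp [maxProdAlt]
        · obtain ⟨n, rfl⟩ : ∃ n, b = n + 9 := ⟨b - 9, by omega⟩
          have e : a + (n + 9) = (a + n) + 9 := by ring
          rw [e, maxProdAlt_add_nine, maxProdAlt_add_nine]
          have := ihb (n + 6) (by omega)
          have e2 : a + (n + 6) = a + n + 6 := by ring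
          rw [e2] at this
          calc maxProdAlt a * (3 * maxProdAlt (n + 6)) = 3 * (maxProdAlt a * maxProdAlt (n + 6)) := by ring
            _ ≤ 3 * maxProdAlt (a + n + 6) := Nat.mul_le_mul_left 3 this
    · obtain ⟨n, rfl⟩ : ∃ n, a = n + 9 := ⟨a - 9, by omega⟩
      have e : n + 9 + b = (n + b) + 9 := by ring
      rw [e, maxProdAlt_add_nine, maxProdAlt_add_nine]
      have := iha (n + 6) (by omega) b
      have e2 : n + 6 + b = n + b + 6 := by ring
      rw [e2] at this
      calc 3 * maxProdAlt (n + 6) * maxProdAlt b = 3 * (maxProdAlt (n + 6) * maxProdAlt b) := by ring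
        _ ≤ 3 * maxProdAlt (n + b + 6) := Nat.mul_le_mul_left 3 this

theorem prod_le_maxProdAlt_sum {ι : Type*} (s : Finset ι) (f : ι → ℕ) (hf : ∀ i ∈ s, f i ≠ 2) :
    ∏ i ∈ s, f i ≤ maxProdAlt (∑ i ∈ s, f i) := by
  classical
  induction s using Finset.induction_on with
  | empty => simp [maxProdAlt]
  | insert j s hj ih =>
    rw [Finset.prod_insert hj, Finset.sum_insert hj]
    calc f j * ∏ i ∈ s, f i ≤ maxProdAlt (f j) * maxProdAlt (∑ i ∈ s, f i) :=
          Nat.mul_le_mul (le_maxProdAlt _ (hf j (Finset.mem_insert_self j s)))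
            (ih (fun i hi => hf i (Finset.mem_insert_of_mem hi)))
      _ ≤ _ := maxProdAlt_mul_le _ _

theorem maxProdAlt_closed (k : ℕ) :
    maxProdAlt (3 * k + 6) = 3 ^ (k + 2) ∧ maxProdAlt (3 * k + 7) = 4 * 3 ^ (k + 1) ∧
      maxProdAlt (3 * k + 8) = 16 * 3 ^ k := by
  induction k with
  | zero => simp [maxProdAlt]
  | succ k ih =>
    obtain ⟨h1, h2, h3⟩ := ih
    have e1 : 3 * (k + 1) + 6 = (3 * k) + 9 := by ring
    have e2 : 3 * (k + 1) + 7 = (3 * k + 1) + 9 := by ring
    have e3 : 3 * (k + 1) + 8 = (3 * k + 2) + 9 := by ring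
    refine ⟨?_, ?_, ?_⟩
    · rw [e1, maxProdAlt_add_nine, h1]; ring
    · rw [e2, maxProdAlt_add_nine, show 3 * k + 1 + 6 = 3 * k + 7 by ring, h2]; ring
    · rw [e3, maxProdAlt_add_nine, show 3 * k + 2 + 6 = 3 * k + 8 by ring, h3]; ring

end arith

section orbitTwo

/-- an even abelian group with an orbit of size two can be enlarged by a transposition -/
theorem two_mul_card_le_of_orbit_two {n : ℕ} (A : Subgroup (Perm (Fin n))) (hA : IsMulCommutative A)
    (hAlt : A ≤ alternatingGroup (Fin n)) (x : Fin n) (hx : Nat.card (MulAction.orbit A x) = 2) :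
    2 * Nat.card A ≤ maxProd n := by
  classical
  -- the orbit is `{x, y}`
  obtain ⟨y, hxy, horb⟩ : ∃ y : Fin n, x ≠ y ∧ MulAction.orbit A x = {x, y} := by
    have h2 : (MulAction.orbit A x).ncard = 2 := hx
    obtain ⟨u, v, huv, he⟩ := Set.ncard_eq_two.mp h2
    have hxm : x ∈ MulAction.orbit A x := MulAction.mem_orbit_self x
    rw [he] at hxm
    rcases hxm with rfl | hxv
    · exact ⟨v, huv, he⟩
    · rw [Set.mem_singleton_iff] at hxv
      subst hxv
      exact ⟨u, huv.symm, by rw [he, Set.pair_comm]⟩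
  have hmem : ∀ a ∈ A, ∀ z ∈ ({x, y} : Set (Fin n)), a z ∈ ({x, y} : Set (Fin n)) := by
    intro a ha z hz
    rw [← horb] at hz ⊢
    obtain ⟨b, rfl⟩ := hz
    exact ⟨(⟨a, ha⟩ : A) * b, by show ((⟨a, ha⟩ : A) * b) • x = a (b • x); rw [mul_smul]; rfl⟩
  have hcomm : ∀ a ∈ A, a * swap x y = swap x y * a := by
    intro a ha
    have h1 := hmem a ha x (by simp)
    have h2 := hmem a ha y (by simp)
    have hne : a x ≠ a y := fun h => hxy (a.injective h)
    rw [Equiv.mul_swap_eq_swap_mul]
    simp only [Set.mem_insert_iff, Set.mem_singleton_iff] at h1 h2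
    rcases h1 with h1 | h1 <;> rcases h2 with h2 | h2
    · exact absurd (h1.trans h2.symm) hne
    · rw [h1, h2]
    · rw [h1, h2, swap_comm]
    · exact absurd (h1.trans h2.symm) hne
  have hτ : swap x y ∉ A := by
    intro h
    have := Perm.mem_alternatingGroup.mp (hAlt h)
    rw [Perm.sign_swap hxy] at this
    exact absurd this (by decide)
  set A' : Subgroup (Perm (Fin n)) := Subgroup.closure ((A : Set (Perm (Fin n))) ∪ {swap x y}) with hA'
  have hA'c : IsMulCommutative A' := by
    apply Subgroup.isMulCommutative_closure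
    rintro a (ha | ha) b (hb | hb)
    · exact setLike_mul_comm ha hb
    · rw [Set.mem_singleton_iff] at hb; subst hb; exact hcomm a ha
    · rw [Set.mem_singleton_iff] at ha; subst ha; exact (hcomm b hb).symm
    · rw [Set.mem_singleton_iff] at ha hb; subst ha; subst hb; rfl
  have hle : A ≤ A' := fun a ha => Subgroup.subset_closure (Or.inl ha)
  have hτ' : swap x y ∈ A' := Subgroup.subset_closure (Or.inr rfl)
  have hdvd := Subgroup.card_dvd_of_le hle
  obtain ⟨m, hm⟩ := hdvd
  have hpos : 0 < Nat.card A' := Nat.card_pos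
  have hposA : 0 < Nat.card A := Nat.card_pos
  have hm1 : m ≠ 1 := by
    rintro rfl
    rw [mul_one] at hm
    have := Subgroup.eq_of_le_of_card_ge hle hm.le
    exact hτ (this ▸ hτ')
  have hm0 : m ≠ 0 := by
    rintro rfl
    rw [mul_zero] at hm
    omega
  have hm2 : 2 ≤ m := by omega
  calc 2 * Nat.card A ≤ m * Nat.card A := Nat.mul_le_mul_right _ hm2
    _ = Nat.card A' := by rw [hm, mul_comm]
    _ ≤ maxProd n := card_le_maxProd A' hA'c

end orbitTwo

section altBound

theorem card_le_of_alt {n : ℕ} (A : Subgroup (Perm (Fin n))) (hA : IsMulCommutative A)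
    (hAlt : A ≤ alternatingGroup (Fin n)) :
    Nat.card A ≤ maxProdAlt n ∨ 2 * Nat.card A ≤ maxProd n := by
  classical
  have : Fintype (MulAction.orbitRel.Quotient A (Fin n)) := Fintype.ofFinite _
  by_cases h : ∃ ω : MulAction.orbitRel.Quotient A (Fin n), Nat.card (MulAction.orbit A ω.out) = 2
  · right
    obtain ⟨ω, hω⟩ := h
    exact two_mul_card_le_of_orbit_two A hA hAlt ω.out hω
  · left
    push Not at h
    calc Nat.card A ≤ ∏ ω : MulAction.orbitRel.Quotient A (Fin n), Nat.card (MulAction.orbit A ω.out) :=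
          card_le_prod_orbits
      _ ≤ maxProdAlt (∑ ω : MulAction.orbitRel.Quotient A (Fin n), Nat.card (MulAction.orbit A ω.out)) :=
          prod_le_maxProdAlt_sum _ _ (fun ω _ => h ω)
      _ = maxProdAlt n := by rw [sum_card_orbits, Fintype.card_fin]

end altBound

section klein

/-- the regular Klein four-group in `S_4` -/
def kleinFour : Subgroup (Perm (Fin 4)) where
  carrier := {σ | σ = 1 ∨ σ = swap 0 1 * swap 2 3 ∨ σ = swap 0 2 * swap 1 3 ∨ σ = swap 0 3 * swap 1 2}
  mul_mem' := by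
    rintro a b (rfl | rfl | rfl | rfl) (rfl | rfl | rfl | rfl) <;>
      (show _ ∨ _ ∨ _ ∨ _) <;> decide
  one_mem' := Or.inl rfl
  inv_mem' := by
    rintro a (rfl | rfl | rfl | rfl) <;> (show _ ∨ _ ∨ _ ∨ _) <;> decide

theorem hasAbel_four : HasAbel True 4 4 := by
  refine ⟨kleinFour, ?_, fun _ => ?_, ?_⟩
  · refine ⟨⟨?_⟩⟩
    rintro ⟨a, (rfl | rfl | rfl | rfl)⟩ ⟨b, (rfl | rfl | rfl | rfl)⟩ <;> apply Subtype.ext <;>
      (show _ * _ = _ * _) <;> decide
  · rintro a (rfl | rfl | rfl | rfl) <;> rw [Perm.mem_alternatingGroup] <;> decide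
  · have : (kleinFour : Set (Perm (Fin 4))) =
        (({1, swap 0 1 * swap 2 3, swap 0 2 * swap 1 3, swap 0 3 * swap 1 2} : Finset (Perm (Fin 4))) :
          Set (Perm (Fin 4))) := by
      ext σ
      simp [kleinFour]
    show Nat.card (kleinFour : Set (Perm (Fin 4))) = 4
    rw [this, Nat.card_coe_set_eq, Set.ncard_coe_finset]
    decide

end klein

end Cfsg.Agent.Lib.Helper48
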