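import Mathlib
import Cfsg.Agent.Lib.Helper48.AbelPermAlt

set_option autoImplicit false

/-! Conjugacy of the largest abelian subgroups of the alternating groups. -/

namespace Cfsg.Agent.Lib.Helper48

open Equiv

section strict

theorem maxProdAlt_pos (m : ℕ) : 0 < maxProdAlt m := by
  induction m using Nat.strong_induction_on with
  | _ m ih =>
    rcases Nat.lt_or_ge m 9 with h | h
    · interval_cases m <;> simp [maxProdAlt]
    · obtain ⟨k, rfl⟩ : ∃ k, m = k + 9 := ⟨m - 9, by omega⟩
      rw [maxProdAlt_add_nine]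
      have := ih (k + 6) (by omega)
      omega

theorem maxProdAlt_lt_succ (m : ℕ) (hm : 2 ≤ m) : maxProdAlt m < maxProdAlt (m + 1) := by
  induction m using Nat.strong_induction_on with
  | _ m ih =>
    rcases Nat.lt_or_ge m 11 with h | h
    · interval_cases m <;> decide
    · obtain ⟨k, rfl⟩ : ∃ k, m = k + 9 := ⟨m - 9, by omega⟩
      have e : k + 9 + 1 = (k + 1) + 9 := by ring
      rw [e, maxProdAlt_add_nine, maxProdAlt_add_nine]
      have := ih (k + 6) (by omega) (by omega)
      have e2 : k + 6 + 1 = k + 1 + 6 := by ring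
      rw [e2] at this
      omega

theorem lt_maxProdAlt (a : ℕ) (ha : 6 ≤ a) : a < maxProdAlt a := by
  induction a using Nat.strong_induction_on with
  | _ a ih =>
    rcases Nat.lt_or_ge a 15 with h | h
    · interval_cases a <;> decide
    · obtain ⟨k, rfl⟩ : ∃ k, a = k + 9 := ⟨a - 9, by omega⟩
      rw [maxProdAlt_add_nine]
      have := ih (k + 6) (by omega) (by omega)
      omega

theorem five_mul_maxProdAlt_lt (m : ℕ) (hm : 1 ≤ m) : 5 * maxProdAlt m < maxProdAlt (5 + m) := by
  induction m using Nat.strong_induction_on with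
  | _ m ih =>
    rcases Nat.lt_or_ge m 10 with h | h
    · interval_cases m <;> decide
    · obtain ⟨k, rfl⟩ : ∃ k, m = k + 9 := ⟨m - 9, by omega⟩
      have e : 5 + (k + 9) = (5 + k) + 9 := by ring
      rw [e, maxProdAlt_add_nine, maxProdAlt_add_nine]
      have := ih (k + 6) (by omega) (by omega)
      have e2 : 5 + (k + 6) = 5 + k + 6 := by ring
      rw [e2] at this
      omega

/-- a part equal to `1` or at least `5` is never optimal -/
theorem mul_maxProdAlt_lt (a m : ℕ) (h : (a = 1 ∧ 2 ≤ m) ∨ (5 ≤ a ∧ 6 ≤ a + m)) :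
    a * maxProdAlt m < maxProdAlt (a + m) := by
  rcases h with ⟨rfl, hm⟩ | ⟨ha, ham⟩
  · rw [one_mul, add_comm]
    exact maxProdAlt_lt_succ m hm
  · rcases Nat.lt_or_ge a 6 with h5 | h6
    · have : a = 5 := by omega
      subst this
      exact five_mul_maxProdAlt_lt m (by omega)
    · calc a * maxProdAlt m < maxProdAlt a * maxProdAlt m :=
            Nat.mul_lt_mul_of_pos_right (lt_maxProdAlt a h6) (maxProdAlt_pos m)
        _ ≤ maxProdAlt (a + m) := maxProdAlt_mul_le a m

/-- in an optimal partition all parts are `3` or `4` -/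
theorem parts_of_prod_eq_maxProdAlt {ι : Type*} [DecidableEq ι] (s : Finset ι) (f : ι → ℕ)
    (hf1 : ∀ i ∈ s, 1 ≤ f i) (hf2 : ∀ i ∈ s, f i ≠ 2)
    (hn : 3 ≤ ∑ i ∈ s, f i) (hn5 : ∑ i ∈ s, f i ≠ 5)
    (heq : ∏ i ∈ s, f i = maxProdAlt (∑ i ∈ s, f i)) : ∀ i ∈ s, f i = 3 ∨ f i = 4 := by
  intro j hj
  by_contra hne
  push Not at hne
  have h1 := hf1 j hj
  have h2 := hf2 j hj
  have hcase : f j = 1 ∨ 5 ≤ f j := by omega
  have hprod : ∏ i ∈ s, f i = f j * ∏ i ∈ s.erase j, f i := (Finset.mul_prod_erase s f hj).symm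
  have hsum : ∑ i ∈ s, f i = f j + ∑ i ∈ s.erase j, f i := (Finset.add_sum_erase s f hj).symm
  have hle : ∏ i ∈ s.erase j, f i ≤ maxProdAlt (∑ i ∈ s.erase j, f i) :=
    prod_le_maxProdAlt_sum _ _ (fun i hi => hf2 i (Finset.mem_of_mem_erase hi))
  have hlt : f j * maxProdAlt (∑ i ∈ s.erase j, f i) < maxProdAlt (f j + ∑ i ∈ s.erase j, f i) := by
    apply mul_maxProdAlt_lt
    rcases hcase with h | h
    · left; exact ⟨h, by omega⟩
    · right; exact ⟨h, by omega⟩
  rw [hprod, hsum] at heq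
  have := Nat.mul_le_mul_left (f j) hle
  omega

theorem maxProd_lt_two_mul_maxProdAlt (n : ℕ) (hn : 3 ≤ n) : maxProd n < 2 * maxProdAlt n := by
  rcases Nat.lt_or_ge n 6 with h | h
  · interval_cases n <;> decide
  · obtain ⟨j, r, hr, rfl⟩ : ∃ j r, r < 3 ∧ n = 3 * j + 6 + r :=
      ⟨(n - 6) / 3, (n - 6) % 3, Nat.mod_lt _ (by norm_num), by omega⟩
    obtain ⟨a1, a2, a3⟩ := maxProdAlt_closed j
    obtain ⟨c1, c2, -⟩ := maxProd_closed (j + 1)
    obtain ⟨-, -, c3⟩ := maxProd_closed (j + 2)
    have hp : 0 < 3 ^ j := by positivity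
    interval_cases r
    · rw [show 3 * j + 6 + 0 = 3 * j + 6 by ring, a1, show 3 * j + 6 = 3 * (j + 1) + 3 by ring, c1]
      have : 3 ^ (j + 1 + 1) = 9 * 3 ^ j := by ring
      have : 3 ^ (j + 2) = 9 * 3 ^ j := by ring
      omega
    · rw [show 3 * j + 6 + 1 = 3 * j + 7 by ring, a2, show 3 * j + 7 = 3 * (j + 1) + 4 by ring, c2]
      have : 3 ^ (j + 1) = 3 * 3 ^ j := by ring
      omega
    · rw [show 3 * j + 6 + 2 = 3 * j + 8 by ring, a3, show 3 * j + 8 = 3 * (j + 2) + 2 by ring, c3]
      have : 3 ^ (j + 2) = 9 * 3 ^ j := by ring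
      omega

end strict

section maxStructure

variable {n : ℕ}

/-- hypotheses on a largest abelian subgroup of `A_n`, seen inside `S_n` -/
structure IsMaxAbel (H : Subgroup (Perm (Fin n))) : Prop where
  comm : IsMulCommutative H
  alt : H ≤ alternatingGroup (Fin n)
  card : Nat.card H = maxProdAlt n

/-- the map to the product of the orbits -/
noncomputable def orbitMap (H : Subgroup (Perm (Fin n))) (a : H) (ω : MulAction.orbitRel.Quotient H (Fin n)) :
    MulAction.orbit H ω.out :=
  ⟨a • ω.out, MulAction.mem_orbit _ _⟩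

theorem orbit_eq_orbit_out (H : Subgroup (Perm (Fin n))) (x : Fin n) :
    MulAction.orbit H x =
      MulAction.orbit H (Quotient.mk'' x : MulAction.orbitRel.Quotient H (Fin n)).out := by
  symm
  rw [MulAction.orbit_eq_iff]
  exact Quotient.mk_out (s := MulAction.orbitRel H (Fin n)) x

theorem IsMaxAbel.structure {H : Subgroup (Perm (Fin n))} (hH : IsMaxAbel H) (hn : 3 ≤ n) (hn5 : n ≠ 5) :
    (∀ x : Fin n, Nat.card (MulAction.orbit H x) = 3 ∨ Nat.card (MulAction.orbit H x) = 4) ∧
      Function.Bijective (orbitMap H) := by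
  classical
  have := hH.comm
  have : Fintype (MulAction.orbitRel.Quotient H (Fin n)) := Fintype.ofFinite _
  have hno2 : ∀ x : Fin n, Nat.card (MulAction.orbit H x) ≠ 2 := by
    intro x hx
    have h1 := two_mul_card_le_of_orbit_two H hH.comm hH.alt x hx
    have h2 := maxProd_lt_two_mul_maxProdAlt n hn
    rw [hH.card] at h1
    omega
  have hsum : ∑ ω : MulAction.orbitRel.Quotient H (Fin n), Nat.card (MulAction.orbit H ω.out) = n := by
    rw [sum_card_orbits, Fintype.card_fin]
  have h1 : Nat.card H ≤ ∏ ω : MulAction.orbitRel.Quotient H (Fin n), Nat.card (MulAction.orbit H ω.out) :=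
    card_le_prod_orbits
  have h2 : ∏ ω : MulAction.orbitRel.Quotient H (Fin n), Nat.card (MulAction.orbit H ω.out) ≤
      maxProdAlt (∑ ω : MulAction.orbitRel.Quotient H (Fin n), Nat.card (MulAction.orbit H ω.out)) :=
    prod_le_maxProdAlt_sum _ _ (fun ω _ => hno2 _)
  have hprod : ∏ ω : MulAction.orbitRel.Quotient H (Fin n), Nat.card (MulAction.orbit H ω.out) =
      maxProdAlt (∑ ω : MulAction.orbitRel.Quotient H (Fin n), Nat.card (MulAction.orbit H ω.out)) := by
    apply le_antisymm h2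
    rw [hsum, ← hH.card]
    exact h1
  constructor
  · intro x
    rw [orbit_eq_orbit_out H x]
    refine parts_of_prod_eq_maxProdAlt Finset.univ _ ?_ (fun ω _ => hno2 _) ?_ ?_ hprod _ (Finset.mem_univ _)
    · intro ω _
      have : Nonempty (MulAction.orbit H ω.out) := ⟨⟨ω.out, MulAction.mem_orbit_self _⟩⟩
      exact Nat.card_pos
    · rw [hsum]; exact hn
    · rw [hsum]; exact hn5
  · apply Function.Injective.bijective_of_nat_card_le
    · exact orbitMap_injective
    · rw [Nat.card_pi, hprod, hsum, hH.card]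

end maxStructure

section transport

variable {n m : ℕ}

/-- restriction of `σ` to an invariant set, transported to `Fin m` -/
noncomputable def restrictFin (O : Set (Fin n)) (e : O ≃ Fin m) (σ : Perm (Fin n))
    (hσ : ∀ y, σ y ∈ O ↔ y ∈ O) : Perm (Fin m) :=
  e.permCongr (σ.subtypePerm hσ)

theorem restrictFin_apply (O : Set (Fin n)) (e : O ≃ Fin m) (σ : Perm (Fin n))
    (hσ : ∀ y, σ y ∈ O ↔ y ∈ O) (y : Fin n) (hy : y ∈ O) :
    restrictFin O e σ hσ (e ⟨y, hy⟩) = e ⟨σ y, (hσ y).mpr hy⟩ := by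
  simp [restrictFin, Equiv.permCongr_apply]

theorem sign_restrictFin (O : Set (Fin n)) (e : O ≃ Fin m) (σ : Perm (Fin n))
    (hσ : ∀ y, σ y ∈ O ↔ y ∈ O) (h₂ : ∀ y, σ y ≠ y → y ∈ O) :
    Perm.sign (restrictFin O e σ hσ) = Perm.sign σ := by
  classical
  unfold restrictFin
  rw [Perm.sign_permCongr, Perm.sign_subtypePerm σ hσ h₂]

theorem sign_of_four : ∀ τ : Perm (Fin 4), (∀ i, τ i ≠ i) → (∃ i, τ (τ i) ≠ i) → Perm.sign τ = -1 := by
  decide

theorem eq_of_three : ∀ τ τ' : Perm (Fin 3), (∀ i, τ i = i → ∀ j, τ j = j) →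
    (∀ i, τ' i = i → ∀ j, τ' j = j) → ∀ i, τ i = τ' i → τ = τ' := by
  decide

theorem eq_of_four : ∀ τ τ' : Perm (Fin 4), (∀ i, τ i = i → ∀ j, τ j = j) →
    (∀ i, τ' i = i → ∀ j, τ' j = j) → (∀ i, τ (τ i) = i) → (∀ i, τ' (τ' i) = i) →
    ∀ i, τ i = τ' i → τ = τ' := by
  decide

/-- a permutation moving only the four points of `O`, without fixed points on `O` and not an
involution there, is odd -/
theorem sign_eq_neg_one_of_four (O : Set (Fin n)) (hO : Nat.card O = 4) (σ : Perm (Fin n))
    (hσ : ∀ y, σ y ∈ O ↔ y ∈ O) (h₂ : ∀ y, σ y ≠ y → y ∈ O) (hfpf : ∀ y ∈ O, σ y ≠ y)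
    (x : Fin n) (hx : x ∈ O) (hxx : σ (σ x) ≠ x) : Perm.sign σ = -1 := by
  classical
  have : Fintype O := Fintype.ofFinite _
  have hc : Fintype.card O = 4 := by rw [← Nat.card_eq_fintype_card]; exact hO
  let e : O ≃ Fin 4 := Fintype.equivFinOfCardEq hc
  rw [← sign_restrictFin O e σ hσ h₂]
  apply sign_of_four
  · intro i
    obtain ⟨⟨y, hy⟩, rfl⟩ := e.surjective i
    rw [restrictFin_apply]
    intro h
    have := e.injective h
    exact hfpf y hy (congrArg Subtype.val this)
  · refine ⟨e ⟨x, hx⟩, ?_⟩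
    rw [restrictFin_apply, restrictFin_apply]
    intro h
    have := e.injective h
    exact hxx (congrArg Subtype.val this)

/-- two permutations of "regular type" on a class of size `3` or `4` agreeing at a point agree on
the class -/
theorem eq_on_of_three_or_four (O : Set (Fin n)) (hO : Nat.card O = 3 ∨ Nat.card O = 4)
    (σ σ' : Perm (Fin n)) (hσ : ∀ y, σ y ∈ O ↔ y ∈ O) (hσ' : ∀ y, σ' y ∈ O ↔ y ∈ O)
    (h1 : ∀ y ∈ O, σ y = y → ∀ z ∈ O, σ z = z) (h1' : ∀ y ∈ O, σ' y = y → ∀ z ∈ O, σ' z = z)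
    (h2 : Nat.card O = 4 → ∀ y ∈ O, σ (σ y) = y) (h2' : Nat.card O = 4 → ∀ y ∈ O, σ' (σ' y) = y)
    (x : Fin n) (hx : x ∈ O) (hxx : σ x = σ' x) : ∀ y ∈ O, σ y = σ' y := by
  classical
  have : Fintype O := Fintype.ofFinite _
  -- general transport of the hypotheses
  have key : ∀ (m : ℕ) (e : O ≃ Fin m), restrictFin O e σ hσ = restrictFin O e σ' hσ' →
      ∀ y ∈ O, σ y = σ' y := by
    intro m e h y hy
    have := congrArg (fun τ => τ (e ⟨y, hy⟩)) h
    simp only [restrictFin_apply] at this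
    exact congrArg Subtype.val (e.injective this)
  have t1 : ∀ (m : ℕ) (e : O ≃ Fin m) (ρ : Perm (Fin n)) (hρ : ∀ y, ρ y ∈ O ↔ y ∈ O),
      (∀ y ∈ O, ρ y = y → ∀ z ∈ O, ρ z = z) →
      ∀ i, restrictFin O e ρ hρ i = i → ∀ j, restrictFin O e ρ hρ j = j := by
    intro m e ρ hρ h i hi j
    obtain ⟨⟨y, hy⟩, rfl⟩ := e.surjective i
    obtain ⟨⟨z, hz⟩, rfl⟩ := e.surjective j
    rw [restrictFin_apply] at hi ⊢
    have hy' : ρ y = y := congrArg Subtype.val (e.injective hi)
    have := h y hy hy' z hz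
    exact congrArg e (Subtype.ext this)
  have t2 : ∀ (m : ℕ) (e : O ≃ Fin m) (ρ : Perm (Fin n)) (hρ : ∀ y, ρ y ∈ O ↔ y ∈ O),
      (∀ y ∈ O, ρ (ρ y) = y) →
      ∀ i, restrictFin O e ρ hρ (restrictFin O e ρ hρ i) = i := by
    intro m e ρ hρ h i
    obtain ⟨⟨y, hy⟩, rfl⟩ := e.surjective i
    rw [restrictFin_apply, restrictFin_apply]
    exact congrArg e (Subtype.ext (h y hy))
  rcases hO with hO | hO
  · have hc : Fintype.card O = 3 := by rw [← Nat.card_eq_fintype_card]; exact hO
    let e : O ≃ Fin 3 := Fintype.equivFinOfCardEq hc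
    apply key 3 e
    apply eq_of_three _ _ (t1 3 e σ hσ h1) (t1 3 e σ' hσ' h1') (e ⟨x, hx⟩)
    rw [restrictFin_apply, restrictFin_apply]
    exact congrArg e (Subtype.ext hxx)
  · have hc : Fintype.card O = 4 := by rw [← Nat.card_eq_fintype_card]; exact hO
    let e : O ≃ Fin 4 := Fintype.equivFinOfCardEq hc
    apply key 4 e
    apply eq_of_four _ _ (t1 4 e σ hσ h1) (t1 4 e σ' hσ' h1') (t2 4 e σ hσ (h2 hO))
      (t2 4 e σ' hσ' (h2' hO)) (e ⟨x, hx⟩)
    rw [restrictFin_apply, restrictFin_apply]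
    exact congrArg e (Subtype.ext hxx)

end transport

section std

variable {n : ℕ}

/-- the class of `x` -/
def cls (r : Setoid (Fin n)) (x : Fin n) : Set (Fin n) := {y | r y x}

theorem mem_cls {r : Setoid (Fin n)} {x y : Fin n} : y ∈ cls r x ↔ r y x := Iff.rfl

theorem cls_eq_of_rel {r : Setoid (Fin n)} {x y : Fin n} (h : r y x) : cls r y = cls r x := by
  ext z
  exact ⟨fun hz => r.trans hz h, fun hz => r.trans hz (r.symm h)⟩

/-- the standard group attached to a partition with classes of size `3` or `4`, as a set: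
class-preserving permutations acting on each class as the identity or without fixed points, and
as involutions on the classes of size `4` -/
def stdSet (r : Setoid (Fin n)) : Set (Perm (Fin n)) :=
  {σ | (∀ x, r (σ x) x) ∧ (∀ x, σ x = x → ∀ y, r y x → σ y = y) ∧
    (∀ x, Nat.card (cls r x) = 4 → σ (σ x) = x)}

theorem stdSet_mem_cls_iff {r : Setoid (Fin n)} {σ : Perm (Fin n)} (hσ : σ ∈ stdSet r) (x y : Fin n) :
    σ y ∈ cls r x ↔ y ∈ cls r x := by
  have := hσ.1 y
  exact ⟨fun h => r.trans (r.symm this) h, fun h => r.trans this h⟩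

/-- elements of the standard set are determined on a class by one value -/
theorem stdSet_eq_on {r : Setoid (Fin n)} (hr : ∀ x, Nat.card (cls r x) = 3 ∨ Nat.card (cls r x) = 4)
    {σ σ' : Perm (Fin n)} (hσ : σ ∈ stdSet r) (hσ' : σ' ∈ stdSet r) (x : Fin n) (hx : σ x = σ' x)
    (y : Fin n) (hy : r y x) : σ y = σ' y := by
  refine eq_on_of_three_or_four (cls r x) (hr x) σ σ' (stdSet_mem_cls_iff hσ x)
    (stdSet_mem_cls_iff hσ' x) ?_ ?_ ?_ ?_ x (r.refl x) hx y hy
  · intro y hy hfix z hz
    exact hσ.2.1 y hfix z (r.trans hz (r.symm hy))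
  · intro y hy hfix z hz
    exact hσ'.2.1 y hfix z (r.trans hz (r.symm hy))
  · intro h4 y hy
    exact hσ.2.2 y (by rw [cls_eq_of_rel hy]; exact h4)
  · intro h4 y hy
    exact hσ'.2.2 y (by rw [cls_eq_of_rel hy]; exact h4)

/-- naturality of the standard set -/
theorem conj_mem_stdSet {r r' : Setoid (Fin n)} (g : Perm (Fin n)) (hg : ∀ x y, r x y ↔ r' (g x) (g y))
    {σ : Perm (Fin n)} (hσ : σ ∈ stdSet r) : g * σ * g⁻¹ ∈ stdSet r' := by
  have hg' : ∀ x y, r' x y ↔ r (g⁻¹ x) (g⁻¹ y) := by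
    intro x y
    rw [hg]; simp
  refine ⟨?_, ?_, ?_⟩
  · intro x
    rw [hg']
    simp only [Perm.coe_mul, Function.comp_apply, Perm.coe_inv, symm_apply_apply]
    exact hσ.1 _
  · intro x hx y hy
    have hx' : σ (g⁻¹ x) = g⁻¹ x := by
      have := congrArg (g⁻¹ : Perm (Fin n)) hx
      simpa using this
    have := hσ.2.1 (g⁻¹ x) hx' (g⁻¹ y) ((hg' y x).mp hy)
    show g (σ (g⁻¹ y)) = y
    rw [this]
    simp
  · intro x h4
    have hcard : Nat.card (cls r (g⁻¹ x)) = Nat.card (cls r' x) := by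
      apply Nat.card_congr
      refine ⟨fun y => ⟨g y.1, ?_⟩, fun y => ⟨g⁻¹ y.1, ?_⟩, ?_, ?_⟩
      · have := y.2
        rw [mem_cls] at this ⊢
        rw [hg'] ; simpa using this
      · have := y.2
        rw [mem_cls] at this ⊢
        exact (hg' _ _).mp this
      · intro y; apply Subtype.ext; simp
      · intro y; apply Subtype.ext; simp
    have := hσ.2.2 (g⁻¹ x) (by rw [hcard]; exact h4)
    simp only [Perm.coe_mul, Function.comp_apply, Perm.coe_inv, symm_apply_apply] at this ⊢
    rw [this, apply_symm_apply]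

end std

section maxStd

variable {n : ℕ} {H : Subgroup (Perm (Fin n))}

theorem cls_orbitRel (x : Fin n) : cls (MulAction.orbitRel H (Fin n)) x = MulAction.orbit H x := rfl

/-- in an abelian permutation group an element fixing a point fixes its orbit pointwise -/
theorem fix_orbit (hc : IsMulCommutative H) {h : Perm (Fin n)} (hh : h ∈ H) {x : Fin n} (hx : h x = x)
    {y : Fin n} (hy : y ∈ MulAction.orbit H x) : h y = y := by
  obtain ⟨k, rfl⟩ := hy
  show h (k.1 x) = k.1 x
  have hcomm : h * k.1 = k.1 * h := setLike_mul_comm hh k.2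
  calc h (k.1 x) = (h * k.1) x := rfl
    _ = (k.1 * h) x := by rw [hcomm]
    _ = k.1 x := by rw [Perm.mul_apply, hx]

/-- two elements of an abelian permutation group agreeing at a point agree on its orbit -/
theorem eq_on_orbit (hc : IsMulCommutative H) {h h' : Perm (Fin n)} (hh : h ∈ H) (hh' : h' ∈ H)
    {x : Fin n} (hx : h x = h' x) {y : Fin n} (hy : y ∈ MulAction.orbit H x) : h y = h' y := by
  obtain ⟨k, rfl⟩ := hy
  show h (k.1 x) = h' (k.1 x)
  have hcomm : h * k.1 = k.1 * h := setLike_mul_comm hh k.2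
  have hcomm' : h' * k.1 = k.1 * h' := setLike_mul_comm hh' k.2
  calc h (k.1 x) = (h * k.1) x := rfl
    _ = (k.1 * h) x := by rw [hcomm]
    _ = (k.1 * h') x := by rw [Perm.mul_apply, Perm.mul_apply, hx]
    _ = (h' * k.1) x := by rw [hcomm']
    _ = h' (k.1 x) := rfl

theorem smul_mem_orbit_iff' {h : Perm (Fin n)} (hh : h ∈ H) (x y : Fin n) :
    h y ∈ MulAction.orbit H x ↔ y ∈ MulAction.orbit H x := by
  have : h y = (⟨h, hh⟩ : H) • y := rfl
  rw [this]
  constructor
  · intro hy
    have := MulAction.mem_orbit_of_mem_orbit (⟨h, hh⟩ : H)⁻¹ hy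
    rwa [inv_smul_smul] at this
  · intro hy
    exact MulAction.mem_orbit_of_mem_orbit _ hy

theorem IsMaxAbel.mem_stdSet (hH : IsMaxAbel H) (hn : 3 ≤ n) (hn5 : n ≠ 5) {h : Perm (Fin n)}
    (hh : h ∈ H) : h ∈ stdSet (MulAction.orbitRel H (Fin n)) := by
  classical
  refine ⟨?_, ?_, ?_⟩
  · intro x
    exact ⟨⟨h, hh⟩, rfl⟩
  · intro x hx y hy
    exact fix_orbit hH.comm hh hx hy
  · intro x h4
    rw [cls_orbitRel] at h4
    by_contra hne
    obtain ⟨-, hbij⟩ := hH.structure hn hn5
    set ω : MulAction.orbitRel.Quotient H (Fin n) := Quotient.mk'' x with hω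
    let f : ∀ ω' : MulAction.orbitRel.Quotient H (Fin n), MulAction.orbit H ω'.out :=
      fun ω' => if ω' = ω then ⟨(⟨h, hh⟩ : H) • ω'.out, MulAction.mem_orbit _ _⟩
        else ⟨ω'.out, MulAction.mem_orbit_self _⟩
    obtain ⟨c, hc⟩ := hbij.2 f
    have hcω : ∀ ω' : MulAction.orbitRel.Quotient H (Fin n), c.1 ω'.out = (f ω').1 :=
      fun ω' => congrArg Subtype.val (congrFun hc ω')
    have hO : MulAction.orbit H x = MulAction.orbit H ω.out := orbit_eq_orbit_out H x
    have hc_out : ∀ y, y ∉ MulAction.orbit H x → c.1 y = y := by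
      intro y hy
      have hne' : (Quotient.mk'' y : MulAction.orbitRel.Quotient H (Fin n)) ≠ ω := by
        intro he
        apply hy
        exact Quotient.eq''.mp he
      have h1 : c.1 (Quotient.mk'' y : MulAction.orbitRel.Quotient H (Fin n)).out =
          (Quotient.mk'' y : MulAction.orbitRel.Quotient H (Fin n)).out := by
        rw [hcω]; simp only [f, if_neg hne']
      have h2 : y ∈ MulAction.orbit H (Quotient.mk'' y : MulAction.orbitRel.Quotient H (Fin n)).out := by
        rw [← orbit_eq_orbit_out]; exact MulAction.mem_orbit_self y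
      exact fix_orbit hH.comm c.2 h1 h2
    have hc_in : ∀ y ∈ MulAction.orbit H x, c.1 y = h y := by
      intro y hy
      rw [hO] at hy
      have e1 : c.1 ω.out = h ω.out := by
        rw [hcω]; simp only [f, if_true]; rfl
      exact eq_on_orbit hH.comm c.2 hh e1 hy
    have hxO : x ∈ MulAction.orbit H x := MulAction.mem_orbit_self x
    have hhx : h x ∈ MulAction.orbit H x := (smul_mem_orbit_iff' hh x x).mpr hxO
    have hsign : Perm.sign c.1 = -1 := by
      refine sign_eq_neg_one_of_four (MulAction.orbit H x) h4 c.1 (fun y => smul_mem_orbit_iff' c.2 x y)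
        ?_ ?_ x hxO ?_
      · intro y hy
        by_contra hy'
        exact hy (hc_out y hy')
      · intro y hy hfix
        have hx' : c.1 x = x := by
          have hxy : x ∈ MulAction.orbit H y := by
            rw [MulAction.orbit_eq_iff.mpr hy]; exact hxO
          exact fix_orbit hH.comm c.2 hfix hxy
        rw [hc_in x hxO] at hx'
        apply hne
        rw [hx', hx']
      · rw [hc_in x hxO, hc_in (h x) hhx]
        exact hne
    have := Perm.mem_alternatingGroup.mp (hH.alt c.2)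
    rw [hsign] at this
    exact absurd this (by decide)

theorem IsMaxAbel.eq_stdSet (hH : IsMaxAbel H) (hn : 3 ≤ n) (hn5 : n ≠ 5) :
    (H : Set (Perm (Fin n))) = stdSet (MulAction.orbitRel H (Fin n)) := by
  classical
  apply Set.Subset.antisymm
  · intro h hh
    exact hH.mem_stdSet hn hn5 hh
  · intro σ hσ
    obtain ⟨hsz, hbij⟩ := hH.structure hn hn5
    let f : ∀ ω' : MulAction.orbitRel.Quotient H (Fin n), MulAction.orbit H ω'.out :=
      fun ω' => ⟨σ ω'.out, hσ.1 _⟩
    obtain ⟨c, hc⟩ := hbij.2 f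
    have hcω : ∀ ω' : MulAction.orbitRel.Quotient H (Fin n), c.1 ω'.out = σ ω'.out :=
      fun ω' => congrArg Subtype.val (congrFun hc ω')
    have hcs := hH.mem_stdSet hn hn5 c.2
    have : σ = c.1 := by
      ext y
      congr 1
      refine stdSet_eq_on (r := MulAction.orbitRel H (Fin n)) ?_ hσ hcs
        (Quotient.mk'' y : MulAction.orbitRel.Quotient H (Fin n)).out (hcω _).symm y ?_
      · intro x
        rw [cls_orbitRel]
        exact hsz x
      · show y ∈ MulAction.orbit H (Quotient.mk'' y : MulAction.orbitRel.Quotient H (Fin n)).out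
        rw [← orbit_eq_orbit_out]; exact MulAction.mem_orbit_self y
    rw [this]
    exact c.2

end maxStd

section matching

theorem exists_equiv_of_card_fiber_eq {α β γ : Type*} [Finite α] [Finite β] (f : α → γ) (g : β → γ)
    (h : ∀ c, Nat.card {a // f a = c} = Nat.card {b // g b = c}) :
    ∃ e : α ≃ β, ∀ a, g (e a) = f a := by
  classical
  have key : ∀ c, Nonempty ({a // f a = c} ≃ {b // g b = c}) := by
    intro c
    have : Fintype {a // f a = c} := Fintype.ofFinite _
    have : Fintype {b // g b = c} := Fintype.ofFinite _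
    rw [← Fintype.card_eq, ← Nat.card_eq_fintype_card, ← Nat.card_eq_fintype_card]
    exact h c
  let E : ∀ c, {a // f a = c} ≃ {b // g b = c} := fun c => Classical.choice (key c)
  refine ⟨(Equiv.sigmaFiberEquiv f).symm.trans
    ((Equiv.sigmaCongrRight E).trans (Equiv.sigmaFiberEquiv g)), ?_⟩
  intro a
  exact (E (f a) ⟨a, rfl⟩).2

theorem pow_three_four_inj {a a' b b' : ℕ} (h : 3 ^ a * 4 ^ a' = 3 ^ b * 4 ^ b') : a = b ∧ a' = b' := by
  have h3 : Fact (Nat.Prime 3) := ⟨by norm_num⟩
  have h2 : Fact (Nat.Prime 2) := ⟨by norm_num⟩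
  have v3 : ∀ x y : ℕ, padicValNat 3 (3 ^ x * 4 ^ y) = x := by
    intro x y
    rw [padicValNat.mul (by positivity) (by positivity), padicValNat.pow, padicValNat.pow,
      padicValNat_self, padicValNat.eq_zero_of_not_dvd (by norm_num : ¬ 3 ∣ 4)]
    simp
  have v2 : ∀ x y : ℕ, padicValNat 2 (3 ^ x * 4 ^ y) = 2 * y := by
    intro x y
    rw [padicValNat.mul (by positivity) (by positivity), padicValNat.pow, padicValNat.pow,
      padicValNat.eq_zero_of_not_dvd (by norm_num : ¬ 2 ∣ 3),
      show (4 : ℕ) = 2 ^ 2 by norm_num, padicValNat.prime_pow]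
    ring
  have e3 := v3 a a'
  have e2 := v2 a a'
  rw [h, v3] at e3
  rw [h, v2] at e2
  exact ⟨e3.symm, by omega⟩

variable {n : ℕ}

/-- size of an orbit class -/
noncomputable def osz (H : Subgroup (Perm (Fin n))) (ω : MulAction.orbitRel.Quotient H (Fin n)) : ℕ :=
  Nat.card (MulAction.orbit H ω.out)

theorem card_fiber_mk (H : Subgroup (Perm (Fin n))) (ω : MulAction.orbitRel.Quotient H (Fin n)) :
    Nat.card {y : Fin n // (Quotient.mk'' y : MulAction.orbitRel.Quotient H (Fin n)) = ω} = osz H ω := by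
  unfold osz
  apply Nat.card_congr
  apply Equiv.subtypeEquivRight
  intro y
  rw [← MulAction.orbitRel_apply, ← Quotient.eq'', Quotient.out_eq']

theorem IsMaxAbel.count {H : Subgroup (Perm (Fin n))} (hH : IsMaxAbel H) (hn : 3 ≤ n) (hn5 : n ≠ 5) :
    3 ^ Nat.card {ω : MulAction.orbitRel.Quotient H (Fin n) // osz H ω = 3} *
      4 ^ Nat.card {ω : MulAction.orbitRel.Quotient H (Fin n) // ¬ osz H ω = 3} = maxProdAlt n := by
  classical
  have : Fintype (MulAction.orbitRel.Quotient H (Fin n)) := Fintype.ofFinite _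
  obtain ⟨hsz, hbij⟩ := hH.structure hn hn5
  have h1 : Nat.card H = ∏ ω : MulAction.orbitRel.Quotient H (Fin n), osz H ω := by
    rw [Nat.card_congr (Equiv.ofBijective _ hbij), Nat.card_pi]
    rfl
  have h2 : ∏ ω : MulAction.orbitRel.Quotient H (Fin n), osz H ω =
      ∏ ω : MulAction.orbitRel.Quotient H (Fin n), (if osz H ω = 3 then 3 else 4) := by
    apply Finset.prod_congr rfl
    intro ω _
    rcases hsz ω.out with h | h
    · have h' : osz H ω = 3 := h
      rw [if_pos h']; exact h'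
    · have h' : osz H ω = 4 := h
      rw [if_neg (by omega)]; exact h'
  rw [← hH.card, h1, h2, Finset.prod_ite, Finset.prod_const, Finset.prod_const]
  simp only [Nat.card_eq_fintype_card, Fintype.card_subtype]

theorem IsMaxAbel.exists_perm {A B : Subgroup (Perm (Fin n))} (hA : IsMaxAbel A) (hB : IsMaxAbel B)
    (hn : 3 ≤ n) (hn5 : n ≠ 5) :
    ∃ g : Perm (Fin n), ∀ x y : Fin n,
      MulAction.orbitRel A (Fin n) x y ↔ MulAction.orbitRel B (Fin n) (g x) (g y) := by
  classical
  obtain ⟨hszA, -⟩ := hA.structure hn hn5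
  obtain ⟨hszB, -⟩ := hB.structure hn hn5
  have hcount := pow_three_four_inj ((hA.count hn hn5).trans (hB.count hn hn5).symm)
  -- matching of the orbits
  obtain ⟨e, he⟩ := exists_equiv_of_card_fiber_eq
    (fun ω : MulAction.orbitRel.Quotient A (Fin n) => decide (osz A ω = 3))
    (fun ω : MulAction.orbitRel.Quotient B (Fin n) => decide (osz B ω = 3)) (by
      intro c
      cases c
      · simp only [decide_eq_false_iff_not]
        exact hcount.2
      · simp only [decide_eq_true_eq]
        exact hcount.1)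
  have hsize : ∀ ω, osz B (e ω) = osz A ω := by
    intro ω
    have h1 := he ω
    simp only [decide_eq_decide] at h1
    rcases hszA ω.out with h | h
    · have h' : osz A ω = 3 := h
      rw [h', h1.mpr h']
    · have h' : osz A ω = 4 := h
      have hne : ¬ osz B (e ω) = 3 := fun h3 => by
        have := h1.mp h3
        omega
      rcases hszB (e ω).out with h3 | h4
      · exact absurd h3 hne
      · rw [h']; exact h4
  -- matching of the points
  obtain ⟨g, hg⟩ := exists_equiv_of_card_fiber_eq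
    (fun x : Fin n => e (Quotient.mk'' x : MulAction.orbitRel.Quotient A (Fin n)))
    (fun y : Fin n => (Quotient.mk'' y : MulAction.orbitRel.Quotient B (Fin n))) (by
      intro ω'
      rw [card_fiber_mk B ω', ← e.apply_symm_apply ω', hsize, ← card_fiber_mk A (e.symm ω')]
      apply Nat.card_congr
      apply Equiv.subtypeEquivRight
      intro x
      rw [e.apply_symm_apply]
      exact (e.eq_symm_apply).symm)
  refine ⟨g, fun x y => ?_⟩
  rw [← Quotient.eq'', ← Quotient.eq'', hg, hg]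
  exact e.apply_eq_iff_eq.symm

/-- conjugacy under a class-matching permutation -/
theorem IsMaxAbel.conj_of_perm {A B : Subgroup (Perm (Fin n))} (hA : IsMaxAbel A) (hB : IsMaxAbel B)
    (hn : 3 ≤ n) (hn5 : n ≠ 5) (g : Perm (Fin n))
    (hg : ∀ x y : Fin n, MulAction.orbitRel A (Fin n) x y ↔ MulAction.orbitRel B (Fin n) (g x) (g y))
    (σ : Perm (Fin n)) : σ ∈ A ↔ g * σ * g⁻¹ ∈ B := by
  have eA := hA.eq_stdSet hn hn5
  have eB := hB.eq_stdSet hn hn5
  have mA : ∀ τ, τ ∈ A ↔ τ ∈ stdSet (MulAction.orbitRel A (Fin n)) := fun τ => by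
    rw [← eA]; rfl
  have mB : ∀ τ, τ ∈ B ↔ τ ∈ stdSet (MulAction.orbitRel B (Fin n)) := fun τ => by
    rw [← eB]; rfl
  rw [mA, mB]
  constructor
  · exact conj_mem_stdSet g hg
  · intro h
    have hg' : ∀ x y : Fin n,
        MulAction.orbitRel B (Fin n) x y ↔ MulAction.orbitRel A (Fin n) (g⁻¹ x) (g⁻¹ y) := by
      intro x y
      rw [hg]; simp
    have := conj_mem_stdSet g⁻¹ hg' h
    have e : g⁻¹ * (g * σ * g⁻¹) * g⁻¹⁻¹ = σ := by group
    rwa [e] at this

theorem IsMaxAbel.conj {A B : Subgroup (Perm (Fin n))} (hA : IsMaxAbel A) (hB : IsMaxAbel B)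
    (hn : 3 ≤ n) (hn5 : n ≠ 5) :
    ∃ g ∈ alternatingGroup (Fin n), ∀ σ : Perm (Fin n), σ ∈ A ↔ g * σ * g⁻¹ ∈ B := by
  classical
  obtain ⟨g, hg⟩ := hA.exists_perm hB hn hn5
  by_cases hs : Perm.sign g = 1
  · exact ⟨g, Perm.mem_alternatingGroup.mpr hs, hA.conj_of_perm hB hn hn5 g hg⟩
  · have hs' : Perm.sign g = -1 := (Int.units_eq_one_or _).resolve_left hs
    obtain ⟨hszA, -⟩ := hA.structure hn hn5
    let x : Fin n := ⟨0, by omega⟩
    obtain ⟨y, hy, hyx⟩ : ∃ y ∈ MulAction.orbit A x, y ≠ x := by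
      have h1 : 1 < (MulAction.orbit A x).ncard := by
        have : (MulAction.orbit A x).ncard = Nat.card (MulAction.orbit A x) := rfl
        rw [this]
        rcases hszA x with h | h <;> omega
      exact Set.exists_ne_of_one_lt_ncard h1 x
    have hsw : ∀ u : Fin n, MulAction.orbitRel A (Fin n) (swap x y u) u := by
      intro u
      rw [Equiv.swap_apply_def]
      split_ifs with h1 h2
      · subst h1
        exact hy
      · subst h2
        exact (MulAction.orbitRel A (Fin n)).symm hy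
      · exact (MulAction.orbitRel A (Fin n)).refl u
    refine ⟨g * swap x y, ?_, hA.conj_of_perm hB hn hn5 _ ?_⟩
    · rw [Perm.mem_alternatingGroup, map_mul, hs', Perm.sign_swap hyx.symm]
      decide
    · intro u v
      rw [Perm.mul_apply, Perm.mul_apply, ← hg]
      constructor
      · intro h
        exact (MulAction.orbitRel A (Fin n)).trans (hsw u)
          ((MulAction.orbitRel A (Fin n)).trans h ((MulAction.orbitRel A (Fin n)).symm (hsw v)))
      · intro h
        exact (MulAction.orbitRel A (Fin n)).trans ((MulAction.orbitRel A (Fin n)).symm (hsw u))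
          ((MulAction.orbitRel A (Fin n)).trans h (hsw v))

end matching

section existence

theorem hasAbel_five : HasAbel True 5 5 := by
  refine ⟨Subgroup.zpowers (finRotate 5), inferInstance, fun _ => ?_, ?_⟩
  · rw [Subgroup.zpowers_le, Perm.mem_alternatingGroup, sign_finRotate]
    norm_num
  · rw [Nat.card_zpowers, ← Perm.lcm_cycleType, cycleType_finRotate_of_le (by norm_num)]
    simp

theorem hasAbel_maxProdAlt (n : ℕ) (hn : 3 ≤ n) (hn5 : n ≠ 5) : HasAbel True n (maxProdAlt n) := by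
  rcases Nat.lt_or_ge n 6 with h | h
  · interval_cases n
    · exact hasAbel_three True
    · exact hasAbel_four
    · exact absurd rfl hn5
  · obtain ⟨j, r, hr, rfl⟩ : ∃ j r, r < 3 ∧ n = 3 * j + 6 + r :=
      ⟨(n - 6) / 3, (n - 6) % 3, Nat.mod_lt _ (by norm_num), by omega⟩
    obtain ⟨a1, a2, a3⟩ := maxProdAlt_closed j
    interval_cases r
    · rw [show 3 * j + 6 + 0 = 3 * j + 6 by ring, a1]
      exact (hasAbel_three_mul True (j + 2)).cast (by ring)
    · rw [show 3 * j + 6 + 1 = 3 * j + 7 by ring, a2, mul_comm 4]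
      exact ((hasAbel_three_mul True (j + 1)).add hasAbel_four).cast (by ring)
    · rw [show 3 * j + 6 + 2 = 3 * j + 8 by ring, a3, mul_comm 16]
      exact ((hasAbel_three_mul True j).add (hasAbel_four.add hasAbel_four)).cast (by ring)

end existence

end Cfsg.Agent.Lib.Helper48
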