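import Mathlib

set_option autoImplicit false

/-! The affine group `K ⋊ U` for a subgroup `U` of the units of a finite field and its spectrum. -/

namespace Cfsg.Agent.Lib.Helper48

section affine

variable (K : Type) [Field K]

/-- units of `K` of order dividing `m` -/
def unitsOfExp (m : ℕ) : Subgroup Kˣ := (powMonoidHom m : Kˣ →* Kˣ).ker

theorem mem_unitsOfExp {m : ℕ} {u : Kˣ} : u ∈ unitsOfExp K m ↔ u ^ m = 1 := by
  unfold unitsOfExp
  rw [MonoidHom.mem_ker, powMonoidHom_apply]

/-- the action of the units of order dividing `m` on the additive group -/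
noncomputable def affAction (m : ℕ) : unitsOfExp K m →* MulAut (Multiplicative K) :=
  (MulAutMultiplicative K).symm.toMonoidHom.comp
    ((DistribMulAction.toAddAut Kˣ K).comp (unitsOfExp K m).subtype)

theorem affAction_apply (m : ℕ) (u : unitsOfExp K m) (v : Multiplicative K) :
    affAction K m u v = Multiplicative.ofAdd ((u : Kˣ) • Multiplicative.toAdd v) := rfl

/-- the affine group -/
abbrev AffGroup (m : ℕ) : Type := Multiplicative K ⋊[affAction K m] unitsOfExp K m

instance (m : ℕ) [Finite K] : Finite (AffGroup K m) :=
  Finite.of_equiv _ SemidirectProduct.equivProd.symm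

theorem affGroup_isSolvable (m : ℕ) : Group.IsSolvable (AffGroup K m) := by
  have : IsMulCommutative (unitsOfExp K m) := inferInstance
  refine Group.isSolvable_of_ker_le_range (SemidirectProduct.inl : Multiplicative K →* AffGroup K m)
    SemidirectProduct.rightHom ?_
  rw [SemidirectProduct.range_inl_eq_ker_rightHom]

section orders

variable {K} (p : ℕ) [Fact p.Prime] [CharP K p]

theorem orderOf_inl_dvd (m : ℕ) (v : Multiplicative K) :
    orderOf (SemidirectProduct.inl v : AffGroup K m) ∣ p := by
  rw [orderOf_injective (SemidirectProduct.inl : Multiplicative K →* AffGroup K m)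
    SemidirectProduct.inl_injective]
  have : v = Multiplicative.ofAdd (Multiplicative.toAdd v) := rfl
  rw [this, orderOf_ofAdd_eq_addOrderOf]
  apply addOrderOf_dvd_of_nsmul_eq_zero
  rw [nsmul_eq_mul, CharP.cast_eq_zero K p, zero_mul]

theorem orderOf_inr (m : ℕ) (u : unitsOfExp K m) :
    orderOf (SemidirectProduct.inr u : AffGroup K m) = orderOf (u : Kˣ) := by
  rw [orderOf_injective (SemidirectProduct.inr : unitsOfExp K m →* AffGroup K m)
    SemidirectProduct.inr_injective, Subgroup.orderOf_coe]

/-- an element with nontrivial linear part is conjugate to its linear part -/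
theorem orderOf_of_right_ne_one (m : ℕ) (x : AffGroup K m) (hx : x.right ≠ 1) :
    orderOf x = orderOf ((x.right : Kˣ)) := by
  have hu : (1 : K) - ((x.right : Kˣ) : K) ≠ 0 := by
    intro h
    apply hx
    apply Subtype.ext
    apply Units.ext
    rw [Subgroup.coe_one, Units.val_one]
    exact (sub_eq_zero.mp h).symm
  set w : Multiplicative K :=
    Multiplicative.ofAdd (Multiplicative.toAdd x.left / ((1 : K) - ((x.right : Kˣ) : K))) with hw
  have hconj : x = MulAut.conj (SemidirectProduct.inl w : AffGroup K m)
      (SemidirectProduct.inr x.right) := by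
    rw [MulAut.conj_apply]
    apply SemidirectProduct.ext
    · simp only [SemidirectProduct.mul_left, SemidirectProduct.left_inl, SemidirectProduct.right_inl,
        SemidirectProduct.left_inr, SemidirectProduct.inv_left, SemidirectProduct.mul_right,
        SemidirectProduct.right_inr, map_one, inv_one, one_mul, MulAut.one_apply, mul_one]
      rw [affAction_apply]
      apply Multiplicative.toAdd.injective
      rw [hw]
      simp only [toAdd_mul, toAdd_ofAdd, toAdd_inv, Units.smul_def, smul_eq_mul]
      generalize Multiplicative.toAdd x.left = a at *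
      field_simp
      ring
    · simp
  calc orderOf x = orderOf (MulAut.conj (SemidirectProduct.inl w : AffGroup K m)
        (SemidirectProduct.inr x.right)) := by rw [← hconj]
    _ = orderOf ((x.right : Kˣ)) := by rw [MulEquiv.orderOf_eq, orderOf_inr]

theorem orderOf_affGroup_dvd (m : ℕ) (x : AffGroup K m) : orderOf x ∣ p ∨ orderOf x ∣ m := by
  by_cases hx : x.right = 1
  · left
    have : x = SemidirectProduct.inl x.left := by
      apply SemidirectProduct.ext
      · simp
      · simp [hx]
    rw [this]
    exact orderOf_inl_dvd p m _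
  · right
    rw [orderOf_of_right_ne_one m x hx]
    apply orderOf_dvd_of_pow_eq_one
    exact (mem_unitsOfExp K).mp x.right.2

theorem range_orderOf_affGroup [Finite K] (m : ℕ) (hm : m ∣ Nat.card K - 1) :
    Set.range (orderOf : AffGroup K m → ℕ) = {n : ℕ | n ∣ p ∨ n ∣ m} := by
  ext n
  simp only [Set.mem_range, Set.mem_ofPred_eq]
  constructor
  · rintro ⟨x, rfl⟩
    exact orderOf_affGroup_dvd p m x
  · rintro (hn | hn)
    · rcases (Nat.dvd_prime (Fact.out : p.Prime)).mp hn with rfl | rfl
      · exact ⟨1, orderOf_one⟩
      · refine ⟨SemidirectProduct.inl (Multiplicative.ofAdd (1 : K)), ?_⟩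
        rw [orderOf_injective (SemidirectProduct.inl : Multiplicative K →* AffGroup K m)
          SemidirectProduct.inl_injective, orderOf_ofAdd_eq_addOrderOf]
        exact CharP.eq K (CharP.addOrderOf_one K) inferInstance
    · have : Fintype K := Fintype.ofFinite K
      obtain ⟨g, hg⟩ := IsCyclic.exists_ofOrder_eq_natCard (α := Kˣ)
      rw [Nat.card_units] at hg
      have hnK : n ∣ Nat.card K - 1 := hn.trans hm
      obtain ⟨k, hk⟩ := hnK
      have hpos : 0 < Nat.card K - 1 := by
        have : 1 < Nat.card K := Finite.one_lt_card
        omega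
      have hn0 : n ≠ 0 := by
        rintro rfl
        rw [zero_mul] at hk
        omega
      have hord : orderOf (g ^ k) = n := by
        rw [orderOf_pow_of_dvd (by rintro rfl; rw [mul_zero] at hk; omega) (by rw [hg, hk]; exact dvd_mul_left k n),
          hg, hk]
        exact Nat.mul_div_cancel _ (Nat.pos_of_ne_zero (by rintro rfl; rw [mul_zero] at hk; omega))
      have hmem : g ^ k ∈ unitsOfExp K m := by
        rw [mem_unitsOfExp, ← orderOf_dvd_iff_pow_eq_one, hord]
        exact hn
      refine ⟨SemidirectProduct.inr ⟨g ^ k, hmem⟩, ?_⟩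
      rw [orderOf_inr]
      exact hord

end orders

end affine

end Cfsg.Agent.Lib.Helper48
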