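import Mathlib
import Cfsg.Agent.Lib.Helper15.BG139Defs
import Cfsg.Agent.Lib.Helper31.BG12a

/-!
# BG Theorem 13.9 (S1378), keystone 137807 K-S1378-L8: `π(E₁) ⊆ τ₁(N)`
-/

set_option autoImplicit false

namespace Cfsg.Agent.Lib.Helper48.BG139

open Cfsg Cfsg.Agent.Lib.Helper55 Cfsg.Agent.Lib.Helper31.BG134 Cfsg.Agent.Lib.Helper15.BG139

variable {G : Type*} [Group G] [Finite G]

/-- `S ≤ M_σ` in the configuration `Cfg` -/
theorem Cfg.le_sigmaCore {M N S : Subgroup G} {p : ℕ} (c : Cfg M N S p) : S ≤ sigmaCore M := by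
  have hSM : S ≤ M := (Subgroup.le_normalizer.trans c.hNS).trans inf_le_left
  refine Cfsg.Agent.Lib.Helper71.BG10.le_of_isPiHallOf_normal
    (Cfsg.Agent.S1350.result c.hG M c.hM).1
    (Cfsg.Agent.Lib.Helper71.BG11.le_normalizer_sigmaCore M) hSM ?_
  intro q hq hqd
  have : Fact p.Prime := ⟨c.hpM.1⟩
  obtain ⟨n, hn⟩ := (IsPGroup.iff_card.mp c.hS.2.1)
  rw [hn] at hqd
  have : q = p := (Nat.prime_dvd_prime_iff_eq hq c.hpM.1).mp (hq.dvd_of_dvd_pow hqd)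
  rw [this]
  exact c.hpM

/-- `S ≠ 1` in the configuration `Cfg` -/
theorem Cfg.ne_bot {M N S : Subgroup G} {p : ℕ} (c : Cfg M N S p) : S ≠ ⊥ := by
  intro hS
  have : Fact p.Prime := ⟨c.hpM.1⟩
  -- `p ∣ |M|`, so there is a subgroup of order `p`, a `p`-group properly containing `⊥ = S`
  have hpM : p ∣ Nat.card M := c.hpM.2.1
  obtain ⟨x, hx⟩ := exists_prime_orderOf_dvd_card' p hpM
  have hZ : IsPGroup p (Subgroup.zpowers (x : G)) := by
    rw [IsPGroup.iff_card]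
    refine ⟨1, ?_⟩
    rw [Nat.card_zpowers, pow_one, Subgroup.orderOf_coe, hx]
  have h1 := c.hS.2.2 (Subgroup.zpowers (x : G)) le_top hZ (by rw [hS]; exact bot_le)
  rw [hS, Subgroup.zpowers_eq_bot] at h1
  have h2 : orderOf (x : G) = 1 := by rw [h1, orderOf_one]
  rw [Subgroup.orderOf_coe, hx] at h2
  exact c.hpM.1.one_lt.ne' h2

/-- **KEYSTONE 137807  K-S1378-L8** (step 8 of BG 13.9): `π(E₁) ⊆ τ₁(N)`. -/
theorem Cfg.tau1_sub {M N S E E₁ E₃ : Subgroup G} {p : ℕ} (c : Cfg M N S p) (d : Str M S E E₁ E₃)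
    (hpa : PrimeAct M E₁) (h131 : T131 G) :
    ∀ u : ℕ, u.Prime → u ∣ Nat.card E₁ → u ∈ tau1 N := by
  intro u hu hud
  by_contra hnot
  have : Fact u.Prime := ⟨hu⟩
  obtain ⟨x, hx⟩ := exists_prime_orderOf_dvd_card' u hud
  have hxE₁ : (x : G) ∈ E₁ := x.2
  have hox : orderOf (x : G) = u := by rw [Subgroup.orderOf_coe, hx]
  have hx1 : (x : G) ≠ 1 := by
    intro h
    rw [h, orderOf_one] at hox
    exact hu.one_lt.ne hox
  have huτ : u ∈ tau1 M := d.hE₁.2.1 u hu hud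
  have huσ : u ∉ sigma M := huτ.2.1
  have hUE₁ : Subgroup.zpowers (x : G) ≤ E₁ := (Subgroup.zpowers_le).mpr hxE₁
  have hUMN : Subgroup.zpowers (x : G) ≤ M ⊓ N :=
    ((hUE₁.trans d.hE₁.1).trans d.hES).trans c.hNS
  have hUp : IsPGroup u (Subgroup.zpowers (x : G)) := by
    rw [IsPGroup.iff_card]
    refine ⟨1, ?_⟩
    rw [Nat.card_zpowers, pow_one, hox]
  have hcent := h131 M N c.hM c.hN c.hnc u huσ (Subgroup.zpowers (x : G)) hUp
    (hUMN.trans inf_le_left) (hUMN.trans inf_le_right) hnot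
  have hSσ : S ≤ sigmaCore M := Cfg.le_sigmaCore c
  have hSN : S ≤ N := (Subgroup.le_normalizer.trans c.hNS).trans inf_le_right
  have hS1 : S ≤ sigmaCore M ⊓ Subgroup.centralizer ({(x : G)} : Set G) := by
    intro s hs
    refine ⟨hSσ hs, ?_⟩
    show s ∈ Subgroup.centralizer ({(x : G)} : Set G)
    rw [Subgroup.mem_centralizer_iff]
    intro y hy
    rw [Set.mem_singleton_iff] at hy
    subst hy
    have h1 := hcent (Subgroup.mem_zpowers (x : G))
    rw [Subgroup.mem_centralizer_iff] at h1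
    exact (h1 s ⟨hSσ hs, hSN hs⟩).symm
  have hS2 : S ≤ S ⊓ Subgroup.centralizer (E₁ : Set G) :=
    le_inf le_rfl (hS1.trans (hpa (x : G) hxE₁ hx1))
  rw [d.hfix] at hS2
  exact Cfg.ne_bot c (le_bot_iff.mp hS2)

end Cfsg.Agent.Lib.Helper48.BG139
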