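import Mathlib
import Cfsg.Prelude.Def_Transfer

/-! K-BQ leaf L7 (391107): conjugate lifts have conjugate images. -/

set_option autoImplicit false
open Cfsg

namespace Cfsg.Agent.Lib.Helper48.BQ

/-- LEAF L7 (EASY). Conjugate lifts have conjugate images. -/
theorem map_conj_map {G : Type*} [Group G] (M : Subgroup G) [M.Normal] (A0 : Subgroup G) (g : G) :
    (A0.map (MulAut.conj g).toMonoidHom).map (QuotientGroup.mk' M) =
      (A0.map (QuotientGroup.mk' M)).map (MulAut.conj (QuotientGroup.mk' M g)).toMonoidHom := by
  rw [Subgroup.map_map, Subgroup.map_map]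
  congr 1

end Cfsg.Agent.Lib.Helper48.BQ
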