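import Mathlib

set_option autoImplicit false

namespace Cfsg.Agent.Lib.Helper48

/-- A prime dividing the lcm of a multiset of naturals divides one of its members. -/
theorem prime_dvd_multiset_lcm {p : ℕ} (hp : p.Prime) (m : Multiset ℕ) (h : p ∣ m.lcm) :
    ∃ a ∈ m, p ∣ a := by
  induction m using Multiset.induction_on with
  | empty =>
    simp at h
    exact absurd h hp.one_lt.ne'
  | cons a s ih =>
    rw [Multiset.lcm_cons] at h
    have h' : p ∣ Nat.lcm a s.lcm := h
    rcases (Nat.Prime.prime hp).dvd_or_dvd (dvd_trans h' (Nat.lcm_dvd_mul a s.lcm)) with h1 | h1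
    · exact ⟨a, Multiset.mem_cons_self a s, h1⟩
    · obtain ⟨b, hb, hpb⟩ := ih h1
      exact ⟨b, Multiset.mem_cons_of_mem hb, hpb⟩

/-- Element orders of the alternating group on `Fin n`, in terms of cycle types. -/
theorem mem_range_orderOf_alternating_iff (n N : ℕ) :
    N ∈ Set.range (orderOf : alternatingGroup (Fin n) → ℕ) ↔
      ∃ m : Multiset ℕ, (∀ a ∈ m, 2 ≤ a) ∧ m.sum ≤ n ∧ Even (m.sum + Multiset.card m) ∧ m.lcm = N := by
  constructor
  · rintro ⟨g, rfl⟩
    refine ⟨(g : Equiv.Perm (Fin n)).cycleType, fun a ha => Equiv.Perm.two_le_of_mem_cycleType ha, ?_, ?_, ?_⟩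
    · simpa using (g : Equiv.Perm (Fin n)).sum_cycleType_le
    · have h1 : Equiv.Perm.sign (g : Equiv.Perm (Fin n)) = 1 := Equiv.Perm.mem_alternatingGroup.mp g.2
      rw [Equiv.Perm.sign_of_cycleType] at h1
      by_contra hodd
      rw [Nat.not_even_iff_odd] at hodd
      rw [hodd.neg_one_pow] at h1
      exact absurd h1 (by decide)
    · rw [Equiv.Perm.lcm_cycleType]
      exact (Subgroup.orderOf_coe g)
  · rintro ⟨m, h2, hsum, hev, rfl⟩
    obtain ⟨g, hg⟩ := (Equiv.Perm.exists_with_cycleType_iff (α := Fin n)).mpr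
      ⟨by simpa using hsum, h2⟩
    have hmem : g ∈ alternatingGroup (Fin n) := by
      rw [Equiv.Perm.mem_alternatingGroup, Equiv.Perm.sign_of_cycleType, hg, hev.neg_one_pow]
    refine ⟨⟨g, hmem⟩, ?_⟩
    rw [← hg, Equiv.Perm.lcm_cycleType]
    exact (Subgroup.orderOf_mk g hmem)

/-- Parity of `sum + card` of a multiset equals the parity of the number of even members. -/
theorem sum_add_card_mod_two (m : Multiset ℕ) :
    (m.sum + Multiset.card m) % 2 = (Multiset.card (m.filter Even)) % 2 := by
  induction m using Multiset.induction_on with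
  | empty => simp
  | cons a s ih =>
    by_cases ha : Even a
    · rw [Multiset.filter_cons_of_pos _ ha, Multiset.sum_cons, Multiset.card_cons, Multiset.card_cons]
      rw [Nat.even_iff] at ha
      omega
    · rw [Multiset.filter_cons_of_neg _ ha, Multiset.sum_cons, Multiset.card_cons]
      rw [Nat.even_iff] at ha
      omega

end Cfsg.Agent.Lib.Helper48
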