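import Mathlib

/-!
K-S4291-E8 (keystone 429113, architect helper96): `A ≅ A₅` normal of index 2 in `X`, `1 ≠ c ∈ C_X(A)`
⟹ `X` has a subgroup of order 8 and exponent 2.
-/

set_option autoImplicit false

namespace Cfsg.Agent.Lib.Helper48.FC91

universe u

open Equiv

set_option maxRecDepth 100000 in
/-- an even permutation of 5 points of order dividing 4 has order dividing 2 -/
theorem a5_exp_two : ∀ g : Perm (Fin 5), Perm.sign g = 1 → g ^ 4 = 1 → g ^ 2 = 1 := by
  decide

/-- the 5-cycle -/
def s5 : Perm (Fin 5) := finRotate 5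

/-- a 3-cycle -/
def t3 : Perm (Fin 5) := swap 0 1 * swap 1 2

theorem s5_sign : Perm.sign s5 = 1 := by decide

theorem t3_sign : Perm.sign t3 = 1 := by decide

set_option maxRecDepth 100000 in
/-- only the identity commutes with both the 5-cycle and the 3-cycle -/
theorem a5_center_aux : ∀ g : Perm (Fin 5), g * s5 = s5 * g → g * t3 = t3 * g → g = 1 := by
  decide

/-- the centre of a copy of `A₅` is trivial -/
theorem eq_one_of_central {X : Type u} [Group X] (A : Subgroup X)
    (e : A ≃* alternatingGroup (Fin 5)) (x : X) (hx : x ∈ A) (hcomm : ∀ a ∈ A, a * x = x * a) :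
    x = 1 := by
  have hy : ∀ a : A, a * ⟨x, hx⟩ = ⟨x, hx⟩ * a := fun a => Subtype.ext (hcomm a a.2)
  have hb : ∀ b : alternatingGroup (Fin 5), b * e ⟨x, hx⟩ = e ⟨x, hx⟩ * b := by
    intro b
    have := congrArg e (hy (e.symm b))
    simpa using this
  have h1 : ((e ⟨x, hx⟩ : alternatingGroup (Fin 5)) : Perm (Fin 5)) = 1 := by
    apply a5_center_aux
    · have := congrArg Subtype.val (hb ⟨s5, Perm.mem_alternatingGroup.mpr s5_sign⟩)
      simpa using this.symm
    · have := congrArg Subtype.val (hb ⟨t3, Perm.mem_alternatingGroup.mpr t3_sign⟩)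
      simpa using this.symm
  have h2 : e ⟨x, hx⟩ = 1 := Subtype.ext h1
  have h3 : (⟨x, hx⟩ : A) = 1 := by
    have := congrArg e.symm h2
    simpa using this
  exact congrArg Subtype.val h3

theorem exists_eight_of_centralizer {X : Type u} [Group X] [Finite X] (A : Subgroup X) [A.Normal]
    (e : A ≃* alternatingGroup (Fin 5)) (hidx : A.index = 2) (c : X) (hc : c ∈ Subgroup.centralizer (A : Set X))
    (hc1 : c ≠ 1) : ∃ E : Subgroup X, Nat.card E = 8 ∧ ∀ x ∈ E, x ^ 2 = 1 := by
  classical
  have hcc : ∀ a ∈ A, a * c = c * a := fun a ha => Subgroup.mem_centralizer_iff.mp hc a ha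
  -- c ∉ A
  have hcA : c ∉ A := fun h => hc1 (eq_one_of_central A e c h hcc)
  -- c ^ 2 = 1
  have hc2 : c ^ 2 = 1 := by
    apply eq_one_of_central A e (c ^ 2) (Subgroup.sq_mem_of_index_two hidx c)
    intro a ha
    exact ((Commute.pow_right (hcc a ha) 2 : Commute a (c ^ 2))).eq
  have hordc : orderOf c = 2 := orderOf_eq_prime hc2 hc1
  -- a subgroup of order 4 of A
  have hcardA : Nat.card A = 60 := by
    rw [Nat.card_congr e.toEquiv]
    have h := two_mul_card_alternatingGroup (α := Fin 5)
    rw [Nat.card_eq_fintype_card]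
    simp only [Fintype.card_perm, Fintype.card_fin] at h
    have : Nat.factorial 5 = 120 := by decide
    omega
  have : Fact (Nat.Prime 2) := ⟨Nat.prime_two⟩
  obtain ⟨P, hP⟩ := Sylow.exists_subgroup_card_pow_prime (G := A) 2 (n := 2)
    (by rw [hcardA]; norm_num)
  have hP4 : Nat.card P = 4 := by rw [hP]; norm_num
  have hPexp : ∀ x : P, ((x : A) : X) ^ 2 = 1 := by
    intro x
    have h4 : x ^ 4 = 1 := by rw [← hP4]; exact pow_card_eq_one'
    have h4' : ((e (x : A) : alternatingGroup (Fin 5)) : Perm (Fin 5)) ^ 4 = 1 := by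
      have := congrArg (fun y : P => ((e (y : A) : alternatingGroup (Fin 5)) : Perm (Fin 5))) h4
      simpa using this
    have h2' := a5_exp_two _ (Perm.mem_alternatingGroup.mp (e (x : A)).2) h4'
    have h2'' : (e (x : A)) ^ 2 = 1 := Subtype.ext (by simpa using h2')
    have h2''' : (x : A) ^ 2 = 1 := by
      have := congrArg e.symm h2''
      simpa using this
    have := congrArg (Subtype.val : A → X) h2'''
    simpa using this
  -- the two homomorphisms
  let f : P →* X := A.subtype.comp P.subtype
  let g : Subgroup.zpowers c →* X := (Subgroup.zpowers c).subtype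
  have comm : ∀ (m : P) (n : Subgroup.zpowers c), Commute (f m) (g n) := by
    intro m n
    obtain ⟨k, hk⟩ := Subgroup.mem_zpowers_iff.mp n.2
    have h1 : Commute ((m : A) : X) c := hcc _ (m : A).2
    have h2 : Commute ((m : A) : X) (c ^ k) := h1.zpow_right k
    rw [hk] at h2
    exact h2
  have hgrange : ∀ n : Subgroup.zpowers c, (n : X) = 1 ∨ (n : X) = c := by
    intro n
    obtain ⟨k, hk⟩ := Subgroup.mem_zpowers_iff.mp n.2
    rw [← hk]
    rcases Int.emod_two_eq_zero_or_one k with h | h
    · left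
      have : k = 2 * (k / 2) := by omega
      rw [this, zpow_mul, zpow_ofNat, hc2, one_zpow]
    · right
      have : k = 2 * (k / 2) + 1 := by omega
      rw [this, zpow_add, zpow_mul, zpow_ofNat, hc2, one_zpow, one_mul, zpow_one]
  have hinj : Function.Injective (MonoidHom.noncommCoprod f g comm) := by
    rw [MonoidHom.noncommCoprod_injective]
    refine ⟨?_, Subtype.val_injective, ?_⟩
    · intro a b hab
      exact Subtype.ext (Subtype.ext hab)
    · rw [disjoint_iff_inf_le]
      rintro x ⟨⟨m, hm⟩, ⟨n, hn⟩⟩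
      rw [Subgroup.mem_bot]
      rcases hgrange n with h | h
      · rw [← hn]; exact h
      · exfalso
        apply hcA
        have : c = ((m : A) : X) := by rw [← h]; exact hn.trans hm.symm
        rw [this]; exact (m : A).2
  refine ⟨(MonoidHom.noncommCoprod f g comm).range, ?_, ?_⟩
  · rw [← Nat.card_congr (MonoidHom.ofInjective hinj).toEquiv, Nat.card_prod, hP4,
      Nat.card_zpowers, hordc]
  · rintro x ⟨⟨m, n⟩, rfl⟩
    rw [MonoidHom.noncommCoprod_apply, (comm m n).mul_pow]
    have h1 : f m ^ 2 = 1 := hPexp m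
    have h2 : g n ^ 2 = 1 := by
      rcases hgrange n with h | h
      · show (n : X) ^ 2 = 1
        rw [h, one_pow]
      · show (n : X) ^ 2 = 1
        rw [h, hc2]
    rw [h1, h2, one_mul]

end Cfsg.Agent.Lib.Helper48.FC91
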