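import Mathlib
import Cfsg.Agent.Lib.Helper74.MinIdxHub

/-!
# S2140 keystone K11: the two possible indices.
-/

set_option autoImplicit false

namespace Cfsg.Agent.Lib.Helper48.MinIdx

open Matrix Cfsg.Agent.Lib.Helper74.MinIdx Cfsg.Agent.Lib.Helper74.MinIdxHub

/-- the arithmetic heart of K11 -/
theorem K11_arith (q m d s0 : ℕ) (hq : 2 ≤ q) (hm : 2 ≤ m)
    (E1 : d + s0 * q ^ m = s0 * (d + 1)) (E2 : s0 ∣ q ^ m)
    (E3 : d < (q ^ (m + 1) - 1) / (q - 1))
    (E4 : 3 ≤ m → d < s0 * q ^ (m - 1) → s0 = 1 ∨ s0 = q ^ m) :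
    d = q ^ m ∨ d * (q - 1) = q * (q ^ m - 1) := by
  have hA : 4 ≤ q ^ m := by
    calc 4 = 2 ^ 2 := by norm_num
      _ ≤ q ^ 2 := Nat.pow_le_pow_left hq 2
      _ ≤ q ^ m := Nat.pow_le_pow_right (by omega) hm
  have hs0pos : 0 < s0 := Nat.pos_of_dvd_of_pos E2 (by omega)
  have hq1 : 0 < q - 1 := by omega
  have h3 : (d + 1) * (q - 1) ≤ q ^ (m + 1) - 1 := (Nat.le_div_iff_mul_le hq1).mp E3
  have hpow : q ^ (m + 1) = q * q ^ m := by rw [pow_succ]; ring
  have hBpow : q ^ m = q * q ^ (m - 1) := by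
    rw [← pow_succ']
    congr 1
    omega
  rw [hpow] at h3
  generalize hAdef : q ^ m = A at *
  have hs1 : s0 ≠ 1 := by
    rintro rfl
    omega
  have hs2 : 2 ≤ s0 := by omega
  -- integer versions
  have E1z : (d : ℤ) + s0 * A = s0 * (d + 1) := by exact_mod_cast E1
  have h3z : ((d : ℤ) + 1) * (q - 1) ≤ q * A - 1 := by
    have h1 : ((q - 1 : ℕ) : ℤ) = (q : ℤ) - 1 := by
      rw [Nat.cast_sub (by omega)]; simp
    have h2 : ((q * A - 1 : ℕ) : ℤ) = (q : ℤ) * A - 1 := by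
      rw [Nat.cast_sub (by nlinarith)]; simp
    have := (Nat.cast_le (α := ℤ)).mpr h3
    rw [Nat.cast_mul, h1, h2] at this
    simpa using this
  have hAz : (4 : ℤ) ≤ A := by exact_mod_cast hA
  have hqz : (2 : ℤ) ≤ q := by exact_mod_cast hq
  have hsz : (2 : ℤ) ≤ s0 := by exact_mod_cast hs2
  have hdz : (0 : ℤ) ≤ d := by positivity
  -- `q ≤ s0`
  have hqs : q ≤ s0 := by
    by_contra hcon
    push Not at hcon
    have hcz : (s0 : ℤ) + 1 ≤ q := by exact_mod_cast hcon
    have e1 : (d : ℤ) * (s0 - 1) = s0 * (A - 1) := by linear_combination -E1z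
    have e2 : (d : ℤ) * (q - 1) ≤ q * (A - 1) := by linarith
    have e3 : (d : ℤ) * (q - 1) * (s0 - 1) ≤ q * (A - 1) * (s0 - 1) :=
      mul_le_mul_of_nonneg_right e2 (by linarith)
    have e4 : (d : ℤ) * (q - 1) * (s0 - 1) = s0 * (A - 1) * (q - 1) := by
      rw [mul_right_comm, e1]
    have e5 : ((A : ℤ) - 1) * (q - s0) ≤ 0 := by
      have : ((A : ℤ) - 1) * (q - s0) = s0 * (A - 1) * (q - 1) - q * (A - 1) * (s0 - 1) := by ring
      rw [this, ← e4]; linarith
    have e6 : 0 < ((A : ℤ) - 1) * (q - s0) := mul_pos (by linarith) (by linarith)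
    linarith
  -- the case `s0 = A`
  have hcaseA : s0 = A → d = A := by
    rintro rfl
    have e1 : ((d : ℤ) - s0) * (s0 - 1) = 0 := by linear_combination -E1z
    rcases mul_eq_zero.mp e1 with h | h
    · have : (d : ℤ) = s0 := by linarith
      exact_mod_cast this
    · linarith
  rcases Nat.lt_or_ge q s0 with hlt | hge
  · -- `q < s0`
    by_cases hsA : s0 = A
    · exact Or.inl (hcaseA hsA)
    exfalso
    rcases Nat.lt_or_ge m 3 with hm3 | hm3
    · -- `m = 2`
      have hm2 : m = 2 := by omega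
      subst hm2
      obtain ⟨t, ht⟩ := E2
      have htz : (A : ℤ) = s0 * t := by exact_mod_cast ht
      have hAq : (A : ℤ) = q ^ 2 := by exact_mod_cast hAdef.symm
      have ht0 : t ≠ 0 := by
        rintro rfl
        omega
      have ht1 : t ≠ 1 := by
        rintro rfl
        apply hsA
        omega
      have ht2 : (2 : ℤ) ≤ t := by
        have : 2 ≤ t := by omega
        exact_mod_cast this
      have e1 : (d : ℤ) * (s0 - 1) = s0 * (s0 * t - 1) := by
        rw [← htz]; linear_combination -E1z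
      have hcop : IsCoprime ((s0 : ℤ) - 1) s0 := ⟨-1, 1, by ring⟩
      have hd1 : ((s0 : ℤ) - 1) ∣ (s0 * t - 1) * s0 := ⟨d, by linear_combination -e1⟩
      have hd2 : ((s0 : ℤ) - 1) ∣ (s0 * t - 1) := hcop.dvd_of_dvd_mul_right hd1
      have hd3 : ((s0 : ℤ) - 1) ∣ (t - 1) := by
        have : (t : ℤ) - 1 = (s0 * t - 1) - t * (s0 - 1) := by ring
        rw [this]
        exact dvd_sub hd2 (Dvd.intro_left _ rfl)
      have hle : (s0 : ℤ) - 1 ≤ t - 1 := Int.le_of_dvd (by linarith) hd3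
      have hltz : (q : ℤ) < s0 := by exact_mod_cast hlt
      nlinarith
    · -- `3 ≤ m`
      have hB : A = q * q ^ (m - 1) := hBpow
      have hBz : (A : ℤ) = q * (q ^ (m - 1) : ℕ) := by exact_mod_cast hB
      have hBpos : (0 : ℤ) < (q ^ (m - 1) : ℕ) := by
        have : 0 < q ^ (m - 1) := by positivity
        exact_mod_cast this
      have hltz : (q : ℤ) + 1 ≤ s0 := by exact_mod_cast hlt
      have hd : d < s0 * q ^ (m - 1) := by
        have e1 : (d : ℤ) * (s0 - 1) = s0 * (A - 1) := by linear_combination -E1z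
        have : (d : ℤ) < s0 * (q ^ (m - 1) : ℕ) := by
          by_contra hcon
          push Not at hcon
          have e2 : (s0 : ℤ) * (q ^ (m - 1) : ℕ) * (s0 - 1) ≤ d * (s0 - 1) :=
            mul_le_mul_of_nonneg_right hcon (by linarith)
          rw [e1, hBz] at e2
          nlinarith
        exact_mod_cast this
      rcases E4 hm3 hd with h | h
      · exact hs1 h
      · exact hsA h
  · -- `s0 = q`
    have hsq : s0 = q := le_antisymm hge hqs
    right
    subst hsq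
    have e1 : (d : ℤ) * (s0 - 1) = s0 * (A - 1) := by linear_combination -E1z
    have h1 : ((s0 - 1 : ℕ) : ℤ) = (s0 : ℤ) - 1 := by
      rw [Nat.cast_sub (by omega)]; simp
    have h2 : ((A - 1 : ℕ) : ℤ) = (A : ℤ) - 1 := by
      rw [Nat.cast_sub (by omega)]; simp
    have : ((d * (s0 - 1) : ℕ) : ℤ) = ((s0 * (A - 1) : ℕ) : ℤ) := by
      rw [Nat.cast_mul, Nat.cast_mul, h1, h2, e1]
    exact_mod_cast this

section Block

variable {κ : Type*} [Fintype κ] [DecidableEq κ] {F : Type*} [Field F]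

omit [Fintype κ] [DecidableEq κ] in
theorem v0_ne_zero : (v0 : Unit ⊕ κ → F) ≠ 0 := by
  intro h
  have := congrFun h (Sum.inl ())
  simp [v0] at this

/-- K11: the two possible indices. -/
theorem K11_index_cases [Fintype F] (hκ : 2 ≤ Fintype.card κ)
    (H : Subgroup (SpecialLinearGroup (Unit ⊕ κ) F))
    (hlt : H.index < (Fintype.card F ^ (Fintype.card κ + 1) - 1) / (Fintype.card F - 1))
    (hfix : ∀ g : SpecialLinearGroup (Unit ⊕ κ) F, IsTv g →
      Nat.card (MulAction.fixedBy (SpecialLinearGroup (Unit ⊕ κ) F ⧸ H) g) +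
        Fintype.card F ^ Fintype.card κ = H.index)
    (htrans : ∀ g : SpecialLinearGroup (Unit ⊕ κ) F,
      ∃ a ∈ Pst (v0 : Unit ⊕ κ → F), ∃ h ∈ H, g = a * h)
    (hint : 3 ≤ Fintype.card κ → H.index <
        H.relIndex (Qst (v0 : Unit ⊕ κ → F)) * Fintype.card F ^ (Fintype.card κ - 1) →
      H.relIndex (Qst (v0 : Unit ⊕ κ → F)) = 1 ∨
        H.relIndex (Qst (v0 : Unit ⊕ κ → F)) = Fintype.card F ^ Fintype.card κ) :
    H.index = Fintype.card F ^ Fintype.card κ ∨
      H.index * (Fintype.card F - 1) = Fintype.card F * (Fintype.card F ^ Fintype.card κ - 1) := by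
  have hv0 : (v0 : Unit ⊕ κ → F) ≠ 0 := v0_ne_zero
  have hcardQ : Nat.card (Qst (v0 : Unit ⊕ κ → F)) = Fintype.card F ^ Fintype.card κ := by
    rw [K6_card_Qst _ hv0, Fintype.card_sum, Fintype.card_unit]
    congr 1
    omega
  have hfixQ : ∀ x ∈ Qst (v0 : Unit ⊕ κ → F), x ≠ 1 →
      Nat.card (MulAction.fixedBy (SpecialLinearGroup (Unit ⊕ κ) F ⧸ H) x) +
        Nat.card (Qst (v0 : Unit ⊕ κ → F)) = H.index := by
    intro x hx hx1
    rw [hcardQ]
    exact hfix x (K6_isTv _ hv0 x hx hx1)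
  have E1 := K4_orbits (Qst (v0 : Unit ⊕ κ → F)) (Pst v0) H (K6_le _) (K6_normal _) htrans hfixQ
  have E2 : H.relIndex (Qst (v0 : Unit ⊕ κ → F)) ∣ Nat.card (Qst (v0 : Unit ⊕ κ → F)) :=
    Subgroup.relIndex_dvd_card H _
  rw [hcardQ] at E1 E2
  exact K11_arith (Fintype.card F) (Fintype.card κ) H.index _ Fintype.one_lt_card hκ E1 E2 hlt hint

end Block

end Cfsg.Agent.Lib.Helper48.MinIdx
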