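import Mathlib
import Cfsg.Agent.Lib.Helper74.MinIdxDefs

/-!
# S2140 keystone K8: the index of the point stabiliser `Pst v` in `SL_n(q)`.
-/

set_option autoImplicit false

namespace Cfsg.Agent.Lib.Helper48.MinIdx

open Matrix Cfsg.Agent.Lib.Helper74.MinIdx
open scoped LinearAlgebra.Projectivization

variable {ι : Type*} [Fintype ι] [DecidableEq ι] {F : Type*} [Field F]

/-- the action of `SL` on vectors is `mulVec` -/
theorem sl_smul_eq_mulVec (g : SpecialLinearGroup ι F) (w : ι → F) :
    g • w = (g : Matrix ι ι F) *ᵥ w := rfl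

/-- `Pst v` is the stabiliser of the point `F v` of the projective space. -/
theorem Pst_eq_stabilizer (v : ι → F) (hv : v ≠ 0) :
    Pst v = MulAction.stabilizer (SpecialLinearGroup ι F) (Projectivization.mk F v hv) := by
  ext g
  rw [MulAction.mem_stabilizer_iff, Projectivization.smul_mk, Projectivization.mk_eq_mk_iff,
    mem_Pst]
  constructor
  · rintro ⟨c, hc⟩
    refine ⟨c, ?_⟩
    rw [sl_smul_eq_mulVec, hc]
    rfl
  · rintro ⟨c, hc⟩
    refine ⟨c, ?_⟩
    rw [sl_smul_eq_mulVec] at hc
    rw [← hc]
    rfl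

/-- K8: the number of points. -/
theorem K8_index_Pst [Fintype F] (hn : 2 ≤ Fintype.card ι) (v : ι → F) (hv : v ≠ 0) :
    (Pst v).index = (Fintype.card F ^ Fintype.card ι - 1) / (Fintype.card F - 1) := by
  have : MulAction.IsPretransitive (SpecialLinearGroup ι F) (ℙ F (ι → F)) :=
    MulAction.isPretransitive_of_is_two_pretransitive
  rw [Pst_eq_stabilizer v hv, MulAction.index_stabilizer_of_transitive,
    Projectivization.card'', Nat.card_eq_fintype_card, Nat.card_eq_fintype_card,
    Fintype.card_fun]

end Cfsg.Agent.Lib.Helper48.MinIdx
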