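import Cfsg.Agent.Lib.Helper48.OTsO15a
import Cfsg.Agent.Lib.Helper99.OTsO4
import Cfsg.Agent.Lib.Helper82.OTsO7
import Cfsg.Agent.Lib.Helper99.OTsO9
import Cfsg.Agent.Lib.Helper81.OTsO10

/-!
# K-OTs-O15 (keystone 597315, S5973 + S5987 pack, architect helper99): abstract derangement, `i` odd
(final form: the leaves O4, O7, O9, O10 plugged into `exists_derangement_odd_of`)
-/

set_option autoImplicit false

namespace Cfsg.Agent.Lib.Helper48.OTs

open Module Cfsg.Agent.Lib.Helper98.Elus Cfsg.Agent.Lib.Helper98.Sy Cfsg.Agent.Lib.Helper99.OTs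

universe u
variable {F : Type u} [Field F] {V : Type u} [AddCommGroup V] [Module F V]

/-- **O15 (597315).** -/
theorem exists_derangement_odd [Fintype F] (p f : ℕ) [Fact p.Prime] (hF : Fintype.card F = p ^ f)
    (r : ℕ) [Fact r.Prime] (hpr : p ≠ r) (hr2 : r ≠ 2) (hrF : (r : F) ≠ 0)
    (hodd : Odd (orderOf ((Fintype.card F : ℕ) : ZMod r))) (τ : Prop) (d m j : ℕ) (hj : 1 ≤ j)
    (hjd : 2 * (orderOf ((Fintype.card F : ℕ) : ZMod r) * j) ≤ 2 * d)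
    (hval : ¬ τ → 2 * (orderOf ((Fintype.card F : ℕ) : ZMod r) * j) + 2 ≤ 2 * d)
    (h1 : τ → ∀ b, b ≤ j → orderOf ((Fintype.card F : ℕ) : ZMod r) * b ≤ m →
      2 * d - 2 * (orderOf ((Fintype.card F : ℕ) : ZMod r) * j) <
        2 * (m - orderOf ((Fintype.card F : ℕ) : ZMod r) * b))
    (h2 : ¬ τ → ∀ b, b ≤ j → orderOf ((Fintype.card F : ℕ) : ZMod r) * b ≤ m →
      2 * d - 2 * (orderOf ((Fintype.card F : ℕ) : ZMod r) * j) <
        2 * (m - orderOf ((Fintype.card F : ℕ) : ZMod r) * b) + 2) :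
    ∃ (V : Type u) (_ : AddCommGroup V) (_ : Module F V) (_ : FiniteDimensional F V)
      (Q : QuadraticForm F V) (y : V →ₗ[F] V),
      NonDeg (QuadraticMap.polarBilin Q) ⊤ ∧ finrank F V = 2 * d ∧ (PlusOn Q ⊤ ↔ τ) ∧ QIso Q y ∧ y ^ r = 1 ∧
      (∀ z : F, y ≠ z • 1) ∧ ∀ W : Submodule F V, Inv y W → TS Q W → finrank F W ≠ m :=
  exists_derangement_odd_of p f hF r hpr hr2 hrF hodd τ d m j hj hjd hval h1 h2
    (fun Q hV d hd y hy hiso =>
      Cfsg.Agent.Lib.Helper99.OTs.plusOn_V0_iff Q hV d hd p f hF r hpr hr2 hrF y hy hiso)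
    (Cfsg.Agent.Lib.Helper82.OTs.exists_model_blocks p f hF r hpr hr2 hrF j)
    (fun e τ hτ => Cfsg.Agent.Lib.Helper99.OTs.exists_fixed_part e τ hτ)
    (fun Q1 hV1 y1 hy hiso hg _ _ _ _ Q0 hV0 =>
      Cfsg.Agent.Lib.Helper81.OTs.exists_prod_model Q1 hV1 r
        ((Fact.out : r.Prime).odd_of_ne_two hr2) hrF y1 hy hiso hg Q0 hV0)

end Cfsg.Agent.Lib.Helper48.OTs
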