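import Cfsg.Agent.Lib.Helper99.OTsDefs
import Cfsg.Agent.Lib.Helper99.OTsA
import Cfsg.Agent.Lib.Helper99.OTsB
import Cfsg.Agent.Lib.Helper05.OsElB

/-!
# K-OTs-O15 (keystone 597315, S5973 + S5987 pack, architect helper99): abstract derangement, `i` odd

`exists_derangement_odd_of`: the glue with the leaves O4 (type rule), O7 (block model), O9 (fixed part),
O10 (product model) as hypotheses.  The final `exists_derangement_odd` (file `OTsO15.lean`) plugs the
delivered leaves in.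
-/

set_option autoImplicit false
set_option linter.unusedVariables false

namespace Cfsg.Agent.Lib.Helper48.OTs

open Module Cfsg.Agent.Lib.Helper98.Elus Cfsg.Agent.Lib.Helper98.Sy Cfsg.Agent.Lib.Helper99.OTs

universe u
variable {F : Type u} [Field F] {V : Type u} [AddCommGroup V] [Module F V]

theorem exists_derangement_odd_of [Fintype F] (p f : ℕ) [Fact p.Prime] (hF : Fintype.card F = p ^ f)
    (r : ℕ) [Fact r.Prime] (hpr : p ≠ r) (hr2 : r ≠ 2) (hrF : (r : F) ≠ 0)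
    (hodd : Odd (orderOf ((Fintype.card F : ℕ) : ZMod r))) (τ : Prop) (d m j : ℕ) (hj : 1 ≤ j)
    (hjd : 2 * (orderOf ((Fintype.card F : ℕ) : ZMod r) * j) ≤ 2 * d)
    (hval : ¬ τ → 2 * (orderOf ((Fintype.card F : ℕ) : ZMod r) * j) + 2 ≤ 2 * d)
    (h1 : τ → ∀ b, b ≤ j → orderOf ((Fintype.card F : ℕ) : ZMod r) * b ≤ m →
      2 * d - 2 * (orderOf ((Fintype.card F : ℕ) : ZMod r) * j) <
        2 * (m - orderOf ((Fintype.card F : ℕ) : ZMod r) * b))
    (h2 : ¬ τ → ∀ b, b ≤ j → orderOf ((Fintype.card F : ℕ) : ZMod r) * b ≤ m →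
      2 * d - 2 * (orderOf ((Fintype.card F : ℕ) : ZMod r) * j) <
        2 * (m - orderOf ((Fintype.card F : ℕ) : ZMod r) * b) + 2)
    -- O4
    (hO4 : ∀ {V : Type u} [AddCommGroup V] [Module F V] [FiniteDimensional F V]
      (Q : QuadraticForm F V), NonDeg (QuadraticMap.polarBilin Q) ⊤ → ∀ (d : ℕ),
      finrank F V = 2 * d → ∀ (y : V →ₗ[F] V), y ^ r = 1 → QIso Q y →
      (PlusOn Q (V0 y) ↔ (PlusOn Q ⊤ ↔ (Odd (orderOf ((Fintype.card F : ℕ) : ZMod r)) ∨
        Even (finrank F (V1 r y) / orderOf ((Fintype.card F : ℕ) : ZMod r))))))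
    -- O7
    (hO7 : ∃ (V : Type u) (_ : AddCommGroup V) (_ : Module F V) (_ : FiniteDimensional F V)
      (Q : QuadraticForm F V) (y : V →ₗ[F] V),
      NonDeg (QuadraticMap.polarBilin Q) ⊤ ∧ QIso Q y ∧ y ^ r = 1 ∧ (∀ v, gsum r y v = 0) ∧
      finrank F V = cOf (orderOf ((Fintype.card F : ℕ) : ZMod r)) * j)
    -- O9
    (hO9 : ∀ (e : ℕ) (τ : Prop), (¬ τ → 1 ≤ e) →
      ∃ (V : Type u) (_ : AddCommGroup V) (_ : Module F V) (_ : FiniteDimensional F V)
        (Q : QuadraticForm F V),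
        NonDeg (QuadraticMap.polarBilin Q) ⊤ ∧ finrank F V = 2 * e ∧ (PlusOn Q ⊤ ↔ τ))
    -- O10
    (hO10 : ∀ {V : Type u} [AddCommGroup V] [Module F V] [FiniteDimensional F V]
      (Q1 : QuadraticForm F V), NonDeg (QuadraticMap.polarBilin Q1) ⊤ → ∀ (y1 : V →ₗ[F] V),
      y1 ^ r = 1 → QIso Q1 y1 → (∀ v, gsum r y1 v = 0) →
      ∀ {V0' : Type u} [AddCommGroup V0'] [Module F V0'] [FiniteDimensional F V0']
        (Q0 : QuadraticForm F V0'), NonDeg (QuadraticMap.polarBilin Q0) ⊤ →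
      ∃ (V' : Type u) (_ : AddCommGroup V') (_ : Module F V') (_ : FiniteDimensional F V')
        (Q : QuadraticForm F V') (y : V' →ₗ[F] V'),
        NonDeg (QuadraticMap.polarBilin Q) ⊤ ∧ QIso Q y ∧ y ^ r = 1 ∧
        finrank F V' = finrank F V + finrank F V0' ∧
        finrank F (V1 r y) = finrank F V ∧ finrank F (V0 y) = finrank F V0' ∧
        (PlusOn Q (V0 y) ↔ PlusOn Q0 ⊤) ∧
        ((∃ v, y1 v ≠ v) → ∀ z : F, y ≠ z • 1) ∧
        ((∀ W : Submodule F V, Inv y1 W → TS Q1 W → W = ⊥) →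
          ∀ W : Submodule F V', W ≤ V1 r y → Inv y W → TS Q W → W = ⊥)) :
    ∃ (V : Type u) (_ : AddCommGroup V) (_ : Module F V) (_ : FiniteDimensional F V)
      (Q : QuadraticForm F V) (y : V →ₗ[F] V),
      NonDeg (QuadraticMap.polarBilin Q) ⊤ ∧ finrank F V = 2 * d ∧ (PlusOn Q ⊤ ↔ τ) ∧ QIso Q y ∧
      y ^ r = 1 ∧ (∀ z : F, y ≠ z • 1) ∧
      ∀ W : Submodule F V, Inv y W → TS Q W → finrank F W ≠ m := by
  classical
  obtain ⟨i, hi⟩ : ∃ i, i = orderOf ((Fintype.card F : ℕ) : ZMod r) := ⟨_, rfl⟩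
  rw [← hi] at hodd hjd hval h1 h2 hO7
  have hi1 : 1 ≤ i := by rw [hi]; exact orderOf_card_pos p f hF r hpr
  have hc : cOf i = 2 * i := by
    unfold cOf
    rw [if_neg (Nat.not_even_iff_odd.mpr hodd)]
  obtain ⟨V1', _, _, _, Q1, y1, hV1, hiso1, hy1, hg1, hdim1⟩ := hO7
  obtain ⟨V0', _, _, _, Q0, hV0, hdim0, hτ0⟩ := hO9 (d - i * j) τ (fun hn => by
    have := hval hn
    omega)
  obtain ⟨V', iA, iM, iFD, Q, y, hV, hiso, hy, hdim, hdimV1, hdimV0, hplus0, hns, -⟩ :=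
    hO10 Q1 hV1 y1 hy1 hiso1 hg1 Q0 hV0
  have hdim1' : finrank F V1' = 2 * (i * j) := by rw [hdim1, hc, mul_assoc]
  have hdimV : finrank F V' = 2 * d := by
    rw [hdim, hdim1', hdim0]
    omega
  refine ⟨V', iA, iM, iFD, Q, y, hV, hdimV, ?_, hiso, hy, ?_, ?_⟩
  · -- the type
    have h4 := hO4 Q hV d hdimV y hy hiso
    rw [← hi] at h4
    rw [← hτ0, ← hplus0, h4]
    constructor
    · intro h
      exact ⟨fun _ => Or.inl hodd, fun _ => h⟩
    · intro h
      exact h.mpr (Or.inl hodd)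
  · -- not a scalar
    apply hns
    by_contra hall0
    have hall : ∀ v, y1 v = v := fun v => by_contra fun h => hall0 ⟨v, h⟩
    have hpos : 0 < finrank F V1' := by
      rw [hdim1']
      have : 1 ≤ i * j := Nat.mul_pos hi1 hj
      omega
    obtain ⟨v, hv⟩ := Module.finrank_pos_iff_exists_ne_zero.mp hpos
    have h0 : v ∈ V0 y1 := (mem_V0 y1 v).mpr (hall v)
    have h3 := hg1 v
    rw [gsum_apply_of_mem_V0 r y1 v h0, smul_eq_zero] at h3
    rcases h3 with h3 | h3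
    · exact hrF h3
    · exact hv h3
  · -- the bound
    intro W hWinv hWts hWm
    have hS := polarBilin_symm Q
    have hR : (QuadraticMap.polarBilin Q).IsRefl := fun a b h => by rw [hS]; exact h
    obtain ⟨hnd0, hnd1⟩ := Cfsg.Agent.Lib.Helper05.OsEl.nonDeg_inf_parts hR r hrF y hy hiso.iso ⊤ hV
      (fun _ _ => Submodule.mem_top)
    rw [top_inf_eq] at hnd0 hnd1
    have hsum := finrank_inf_V0_add_inf_V1 r hrF y hy W hWinv
    have hinv1 : Inv y (W ⊓ V1 r y) := fun v hv =>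
      ⟨hWinv v hv.1, inv_V1 r y v hv.2⟩
    obtain ⟨b, hb⟩ := dvd_finrank_of_le_V1 r hrF y hy (W ⊓ V1 r y) hinv1 inf_le_right
    rw [← hi] at hb
    have hle1 := Cfsg.Agent.Lib.Helper05.OsEl.two_mul_finrank_le hR hV (V1 r y) (W ⊓ V1 r y) hnd1
      inf_le_right (hWts.mono inf_le_left).ort
    have hle0 := Cfsg.Agent.Lib.Helper05.OsEl.two_mul_finrank_le hR hV (V0 y) (W ⊓ V0 y) hnd0
      inf_le_right (hWts.mono inf_le_left).ort
    rw [hdimV1, hdim1', hb] at hle1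
    rw [hdimV0, hdim0] at hle0
    have hbj : b ≤ j := by
      have h5 : i * b ≤ i * j := by omega
      exact Nat.le_of_mul_le_mul_left h5 hi1
    have hibm : i * b ≤ m := by omega
    have h0eq : finrank F ↥(W ⊓ V0 y) = m - i * b := by omega
    by_cases hτ : τ
    · have := h1 hτ b hbj hibm
      omega
    · have := h2 hτ b hbj hibm
      have heq : 2 * finrank F ↥(W ⊓ V0 y) = finrank F (V0 y) := by
        rw [hdimV0, hdim0]
        omega
      have hp0 : PlusOn Q (V0 y) := ⟨W ⊓ V0 y, inf_le_right, hWts.mono inf_le_left, heq⟩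
      exact hτ (hτ0.mp (hplus0.mp hp0))

end Cfsg.Agent.Lib.Helper48.OTs
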