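import Cfsg.Agent.Lib.Helper38.OhP.Defs
import Cfsg.Agent.Lib.Helper50.TypeCriteria

/-!
# K-OhP-T1 (keystone 597419, S5974 pack, architect helper38): a nondegenerate plus type quadratic
space of dimension `2 d` is the standard one (`Helper50.plusType_of_totally_singular`).
-/

set_option autoImplicit false

namespace Cfsg.Agent.Lib.Helper48.OhP

open Module Cfsg.Agent.Lib.Helper98.Elus Cfsg.Agent.Lib.Helper98.Sy Cfsg.Agent.Lib.Helper38.OhP

universe u
variable {F : Type u} [Field F] {V : Type u} [AddCommGroup V] [Module F V]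

/-- `NonDeg (pB Q) ⊤` is helper50's `QND Q` -/
theorem qnd_of_nonDeg (Q : QuadraticForm F V) (hV : NonDeg (pB Q) ⊤) :
    Cfsg.Agent.Lib.Helper50.QND Q := by
  intro v hv
  exact hV v Submodule.mem_top (fun w _ => hv w)

/-- **LEAF T1 (597419).** -/
theorem exists_isometry_std [Fintype F] [FiniteDimensional F V] (Q : QuadraticForm F V)
    (hV : NonDeg (pB Q) ⊤) (hVp : PlusQ Q ⊤) (d : ℕ) (hdim : finrank F V = 2 * d) :
    ∃ e : V ≃ₗ[F] (Fin d ⊕ Fin d → F), ∀ v, Cfsg.quadFormPlus d F (e v) = Q v := by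
  obtain ⟨U, -, hU0, hUd⟩ := hVp
  rw [finrank_top, hdim] at hUd
  exact Cfsg.Agent.Lib.Helper50.plusType_of_totally_singular d Q (qnd_of_nonDeg Q hV) hdim U
    (by omega) hU0

end Cfsg.Agent.Lib.Helper48.OhP
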