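import Mathlib
import Cfsg.Prelude.Def_Characters
import Cfsg.Prelude.Def_Blocks
import Cfsg.Agent.Lib.Helper34.PSLDefs

/-!
K-S4472-9 (keystone 447209, architect helper34): transfer of the Main Lemma to a pair `(H, Q)`.
-/

set_option autoImplicit false

namespace Cfsg.Agent.Lib.Helper48.PSL

open Cfsg Cfsg.Agent.Lib.Helper34.PSL Cfsg.Agent.Lib.Helper83

universe u

theorem bound_of_pair {G : Type u} [Group G] [Finite G] (p : ℕ) [Fact p.Prime]
    (ML : ∀ (X : Type u) [Group X] [Finite X] (H : Subgroup X) [H.Normal],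
      (Nat.card H).Coprime p → (∃ k : ℕ, H.index = p ^ k) → ∀ (Φ : X → ℂ) (hΦ : IsCharacter X Φ) (n : ℕ),
      Φ 1 = n → ((cenQuot H (charKer hΦ ⊓ H)).index).factorization p ≤ lam p n)
    {χ : G → ℂ} (hχ : IsCharacter G χ) (hfaith : ∀ g : G, χ g = χ 1 → g = 1) (n : ℕ) (hn : χ 1 = n)
    (H Q : Subgroup G) (b c : ℕ) (hH : (Nat.card H).Coprime p)
    (hQH : Q ≤ Subgroup.normalizer (H : Set G)) (hQ : Nat.card Q = p ^ b)
    (hC : Nat.card ↥(Q ⊓ Subgroup.centralizer (H : Set G)) = p ^ c) : b ≤ c + lam p n := by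
  classical
  have hp : p.Prime := Fact.out
  set L : Subgroup G := H ⊔ Q with hL
  have hHL : H ≤ L := le_sup_left
  have hQL : Q ≤ L := le_sup_right
  have hLn : L ≤ Subgroup.normalizer (H : Set G) := sup_le Subgroup.le_normalizer hQH
  have hH'n : (H.subgroupOf L).Normal := Subgroup.normal_subgroupOf_of_le_normalizer hLn
  -- orders
  have hcH' : Nat.card (H.subgroupOf L) = Nat.card H :=
    Nat.card_congr (Subgroup.subgroupOfEquivOfLe hHL).toEquiv
  have hcQ' : Nat.card (Q.subgroupOf L) = p ^ b := by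
    rw [← hQ]; exact Nat.card_congr (Subgroup.subgroupOfEquivOfLe hQL).toEquiv
  have hsup : H.subgroupOf L ⊔ Q.subgroupOf L = ⊤ := by
    rw [← Subgroup.subgroupOf_sup hHL hQL, Subgroup.subgroupOf_self]
  -- index of H' is a power of p
  have hidx : ∃ k : ℕ, (H.subgroupOf L).index = p ^ k := by
    have h1 : (H.subgroupOf L).relIndex (H.subgroupOf L ⊔ Q.subgroupOf L) =
        (H.subgroupOf L).relIndex (Q.subgroupOf L) := Subgroup.relIndex_sup_left _ _
    rw [hsup, Subgroup.relIndex_top_right] at h1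
    have h2 : (H.subgroupOf L).relIndex (Q.subgroupOf L) ∣ Nat.card (Q.subgroupOf L) :=
      Subgroup.relIndex_dvd_card _ _
    rw [hcQ', ← h1] at h2
    obtain ⟨k, -, hk⟩ := (Nat.dvd_prime_pow hp).mp h2
    exact ⟨k, hk⟩
  -- the character
  have hΦ : IsCharacter L (fun x : L => χ (x : G)) := by
    obtain ⟨m, ρ, rfl⟩ := hχ
    exact ⟨m, ρ.comp L.subtype, rfl⟩
  have hML := ML L (H.subgroupOf L) (by rw [hcH']; exact hH) hidx _ hΦ n hn
  -- kernel trivial
  have hker : charKer hΦ = ⊥ := by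
    rw [eq_bot_iff]
    intro x hx
    rw [mem_charKer] at hx
    have : (x : G) = 1 := hfaith _ hx
    rw [Subgroup.mem_bot]
    exact Subtype.ext this
  set C : Subgroup L := cenQuot (H.subgroupOf L) (charKer hΦ ⊓ H.subgroupOf L) with hCdef
  have hCmem : ∀ x : L, x ∈ C ↔ ∀ h ∈ H, h * (x : G) = (x : G) * h := by
    intro x
    rw [hCdef, mem_cenQuot]
    constructor
    · intro hx h hh
      have h0 : (⟨h, hHL hh⟩ : L)⁻¹ * x⁻¹ * ⟨h, hHL hh⟩ * x ∈ charKer hΦ :=
        (Subgroup.mem_inf.mp (hx ⟨h, hHL hh⟩ (Subgroup.mem_subgroupOf.mpr hh))).1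
      rw [hker] at h0
      have h1 := Subgroup.mem_bot.mp h0
      have h2 := congrArg (Subtype.val) h1
      simp only [Subgroup.coe_mul, Subgroup.coe_inv, Subgroup.coe_one] at h2
      calc h * (x : G) = (x : G) * h * (h⁻¹ * (x : G)⁻¹ * h * (x : G)) := by group
        _ = (x : G) * h := by rw [h2, mul_one]
    · intro hx h hh
      have hh' : (h : G) ∈ H := Subgroup.mem_subgroupOf.mp hh
      have h1 : h⁻¹ * x⁻¹ * h * x = 1 := by
        apply Subtype.ext
        simp only [Subgroup.coe_mul, Subgroup.coe_inv, Subgroup.coe_one]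
        have := hx h hh'
        calc (h : G)⁻¹ * (x : G)⁻¹ * h * x = (h : G)⁻¹ * (x : G)⁻¹ * (h * x) := by group
          _ = (h : G)⁻¹ * (x : G)⁻¹ * (x * h) := by rw [this]
          _ = 1 := by group
      rw [h1]
      exact Subgroup.one_mem _
  have hCn : C.Normal := by rw [hCdef]; infer_instance
  -- Q' ⊓ C has order p^c
  have hcQC : Nat.card ↥(C ⊓ Q.subgroupOf L) = p ^ c := by
    rw [← hC]
    refine Nat.card_congr ?_
    refine
      { toFun := fun x => ⟨(x : L), ?_⟩
        invFun := fun g => ⟨⟨(g : G), hQL g.2.1⟩, ?_⟩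
        left_inv := fun x => rfl
        right_inv := fun g => rfl }
    · have hx := x.2
      rw [Subgroup.mem_inf] at hx
      refine Subgroup.mem_inf.mpr ⟨Subgroup.mem_subgroupOf.mp hx.2, ?_⟩
      rw [Subgroup.mem_centralizer_iff]
      exact fun h hh => (hCmem x).mp hx.1 h hh
    · have hg := g.2
      rw [Subgroup.mem_inf, Subgroup.mem_centralizer_iff] at hg
      refine Subgroup.mem_inf.mpr ⟨(hCmem _).mpr (fun h hh => hg.2 h hh), ?_⟩
      exact Subgroup.mem_subgroupOf.mpr hg.1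
  -- C.relIndex Q' = p^(b-c)
  have hrel : C.relIndex (Q.subgroupOf L) * p ^ c = p ^ b := by
    rw [← Subgroup.inf_relIndex_right, ← hcQC, ← hcQ']
    have := Subgroup.card_mul_index ((C ⊓ Q.subgroupOf L).subgroupOf (Q.subgroupOf L))
    rw [Nat.card_congr (Subgroup.subgroupOfEquivOfLe (inf_le_right :
      C ⊓ Q.subgroupOf L ≤ Q.subgroupOf L)).toEquiv] at this
    rw [mul_comm]
    exact this
  have hdvd : C.relIndex (Q.subgroupOf L) ∣ C.index := Subgroup.relIndex_dvd_index_of_normal _ _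
  have hcb : c ≤ b := by
    have : p ^ c ∣ p ^ b := Dvd.intro_left _ hrel
    exact (Nat.pow_dvd_pow_iff_le_right hp.one_lt).mp this
  have hrel' : C.relIndex (Q.subgroupOf L) = p ^ (b - c) := by
    have h1 : p ^ b = p ^ (b - c) * p ^ c := by rw [← pow_add, Nat.sub_add_cancel hcb]
    rw [h1] at hrel
    exact Nat.eq_of_mul_eq_mul_right (pos_of_ne_zero (pow_ne_zero _ hp.ne_zero)) hrel
  rw [hrel'] at hdvd
  have hidx0 : C.index ≠ 0 := Subgroup.index_ne_zero_of_finite
  have hle : b - c ≤ (C.index).factorization p :=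
    (hp.pow_dvd_iff_le_factorization hidx0).mp hdvd
  omega

end Cfsg.Agent.Lib.Helper48.PSL
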