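import Mathlib

set_option autoImplicit false

namespace Cfsg.Agent.Lib.Helper48

/-- All lists `a₁ ≤ a₂ ≤ …` (as built: head is the smallest part) with parts `≥ lo` and sum `≤ s`.
`fuel` bounds the recursion depth; `s ≤ fuel` suffices. -/
def partsLE : ℕ → ℕ → ℕ → List (List ℕ)
  | 0, _, _ => [[]]
  | fuel + 1, s, lo =>
    [] :: ((List.range (s + 1)).filter (fun a => lo ≤ a)).flatMap
      (fun a => (partsLE fuel (s - a) a).map (fun l => a :: l))

theorem partsLE_complete (fuel : ℕ) : ∀ (s lo : ℕ), 1 ≤ lo → s ≤ fuel → ∀ m : Multiset ℕ,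
    (∀ a ∈ m, lo ≤ a) → m.sum ≤ s → ∃ l ∈ partsLE fuel s lo, (l : Multiset ℕ) = m := by
  induction fuel with
  | zero =>
    intro s lo hlo hs m hm hsum
    refine ⟨[], by simp [partsLE], ?_⟩
    by_contra hne
    have hne' : m ≠ 0 := fun h => hne (by simp [h])
    obtain ⟨a, ha⟩ := Multiset.exists_mem_of_ne_zero hne'
    have h1 := hm a ha
    have h2 : a ≤ m.sum := Multiset.le_sum_of_mem ha
    omega
  | succ fuel ih =>
    intro s lo hlo hs m hm hsum
    by_cases hm0 : m = 0
    · exact ⟨[], by simp [partsLE], by simp [hm0]⟩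
    · have hne : m.toFinset.Nonempty := by
        obtain ⟨a, ha⟩ := Multiset.exists_mem_of_ne_zero hm0
        exact ⟨a, Multiset.mem_toFinset.mpr ha⟩
      obtain ⟨a, ha, hmin⟩ := Finset.exists_min_image m.toFinset id hne
      rw [Multiset.mem_toFinset] at ha
      obtain ⟨m', rfl⟩ := Multiset.exists_cons_of_mem ha
      have hla : lo ≤ a := hm a (Multiset.mem_cons_self a m')
      have hm' : ∀ b ∈ m', a ≤ b := fun b hb =>
        hmin b (Multiset.mem_toFinset.mpr (Multiset.mem_cons_of_mem hb))
      rw [Multiset.sum_cons] at hsum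
      obtain ⟨l', hl', hl'm⟩ := ih (s - a) a (le_trans hlo hla) (by omega) m' hm' (by omega)
      refine ⟨a :: l', ?_, ?_⟩
      · simp only [partsLE, List.mem_cons, List.mem_flatMap, List.mem_filter, List.mem_range,
          decide_eq_true_eq, List.mem_map]
        right
        exact ⟨a, ⟨by omega, hla⟩, l', hl', rfl⟩
      · rw [← hl'm]
        rfl

end Cfsg.Agent.Lib.Helper48
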