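import Mathlib
import Cfsg.Agent.Lib.Helper48.R3Gen

/-!
K-R3 (S1788): a variant of `prank_of_three_roots` for a subgroup `H` of `GL D.Idx F` (e.g. a twisted group)
and a parameter group `A` of exponent two mapping additively to the three root parameters.
-/

set_option autoImplicit false

namespace Cfsg.Agent.Lib.Helper48.R3

open Cfsg Cfsg.Lie Cfsg.Agent.Lib.Helper24

/-- three pairwise commuting root subgroups, with parameters `g₁ a, g₂ a, g₃ a` depending additively on
`a : A`, give `2`-rank at least three in a subgroup `H` containing the products -/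
theorem prank_of_three_roots_sub (D : ChevalleyDatum) {F : Type*} [Field F]
    (H : Subgroup (GL D.Idx F)) {A : Type*} [AddCommGroup A] (hA2 : ∀ a : A, a + a = 0)
    (hcard : 8 ≤ Nat.card A) (g1 g2 g3 : A →+ F)
    (r1 r2 r3 : ℕ)
    (h1 : rootCheck D r1 = true) (h2 : rootCheck D r2 = true) (h3 : rootCheck D r3 = true)
    (c12 : commCheck D r1 r2 = true) (c13 : commCheck D r1 r3 = true)
    (c23 : commCheck D r2 r3 = true)
    (hmem : ∀ a : A, xg D r1 h1 (g1 a) * xg D r2 h2 (g2 a) * xg D r3 h3 (g3 a) ∈ H)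
    (hinj : ∀ a : A, D.x F r1 (g1 a) * D.x F r2 (g2 a) * D.x F r3 (g3 a) = 1 → a = 0) :
    Cfsg.PRankAtLeast 2 3 ↥H := by
  classical
  let f : Multiplicative A → ↥H := fun a =>
    ⟨xg D r1 h1 (g1 (Multiplicative.toAdd a)) * xg D r2 h2 (g2 (Multiplicative.toAdd a)) *
        xg D r3 h3 (g3 (Multiplicative.toAdd a)), hmem _⟩
  have hf1 : f 1 = 1 := by
    apply Subtype.ext
    show xg D r1 h1 (g1 0) * xg D r2 h2 (g2 0) * xg D r3 h3 (g3 0) = 1
    rw [map_zero, map_zero, map_zero, xg_zero, xg_zero, xg_zero, one_mul, one_mul]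
  have hfmul : ∀ a b, f (a * b) = f a * f b := by
    intro a b
    apply Subtype.ext
    show xg D r1 h1 (g1 (Multiplicative.toAdd a + Multiplicative.toAdd b)) *
        xg D r2 h2 (g2 (Multiplicative.toAdd a + Multiplicative.toAdd b)) *
        xg D r3 h3 (g3 (Multiplicative.toAdd a + Multiplicative.toAdd b)) =
      (xg D r1 h1 (g1 (Multiplicative.toAdd a)) * xg D r2 h2 (g2 (Multiplicative.toAdd a)) *
        xg D r3 h3 (g3 (Multiplicative.toAdd a))) *
      (xg D r1 h1 (g1 (Multiplicative.toAdd b)) * xg D r2 h2 (g2 (Multiplicative.toAdd b)) *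
        xg D r3 h3 (g3 (Multiplicative.toAdd b)))
    rw [map_add, map_add, map_add]
    generalize g1 (Multiplicative.toAdd a) = a1
    generalize g2 (Multiplicative.toAdd a) = a2
    generalize g3 (Multiplicative.toAdd a) = a3
    generalize g1 (Multiplicative.toAdd b) = b1
    generalize g2 (Multiplicative.toAdd b) = b2
    generalize g3 (Multiplicative.toAdd b) = b3
    rw [xg_add, xg_add, xg_add]
    have e1 : xg D r1 h1 b1 * xg D r2 h2 a2 = xg D r2 h2 a2 * xg D r1 h1 b1 :=
      xg_comm D r1 r2 h1 h2 c12 b1 a2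
    have e2 : xg D r1 h1 b1 * xg D r3 h3 a3 = xg D r3 h3 a3 * xg D r1 h1 b1 :=
      xg_comm D r1 r3 h1 h3 c13 b1 a3
    have e3 : xg D r2 h2 b2 * xg D r3 h3 a3 = xg D r3 h3 a3 * xg D r2 h2 b2 :=
      xg_comm D r2 r3 h2 h3 c23 b2 a3
    calc xg D r1 h1 a1 * xg D r1 h1 b1 * (xg D r2 h2 a2 * xg D r2 h2 b2) *
          (xg D r3 h3 a3 * xg D r3 h3 b3)
        = xg D r1 h1 a1 * (xg D r1 h1 b1 * xg D r2 h2 a2) * (xg D r2 h2 b2 * xg D r3 h3 a3) *
            xg D r3 h3 b3 := by simp only [mul_assoc]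
      _ = xg D r1 h1 a1 * xg D r2 h2 a2 * (xg D r1 h1 b1 * xg D r3 h3 a3) * xg D r2 h2 b2 *
            xg D r3 h3 b3 := by rw [e1, e3]; simp only [mul_assoc]
      _ = _ := by rw [e2]; simp only [mul_assoc]
  let ψ : Multiplicative A →* ↥H := { toFun := f, map_one' := hf1, map_mul' := hfmul }
  have hψ : Function.Injective ψ := by
    rw [injective_iff_map_eq_one]
    intro a ha
    have hm : D.x F r1 (g1 (Multiplicative.toAdd a)) * D.x F r2 (g2 (Multiplicative.toAdd a)) *
        D.x F r3 (g3 (Multiplicative.toAdd a)) = 1 := by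
      have := congrArg (fun g : ↥H => ((g : GL D.Idx F) : Matrix D.Idx D.Idx F)) ha
      simpa [ψ, f] using this
    exact Multiplicative.toAdd.injective (hinj _ hm)
  have hK : ∀ a : Multiplicative A, a ^ 2 = 1 := by
    intro a
    apply Multiplicative.toAdd.injective
    show (2 : ℕ) • Multiplicative.toAdd a = 0
    rw [two_nsmul]
    exact hA2 _
  have hcard' : 2 ^ 3 ≤ Nat.card (Multiplicative A) := by
    have : Nat.card (Multiplicative A) = Nat.card A := Nat.card_congr Multiplicative.toAdd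
    rw [this]
    exact hcard
  refine ⟨ψ.range, ⟨⟨?_⟩⟩, ?_, ?_⟩
  · rintro ⟨_, a, rfl⟩ ⟨_, b, rfl⟩
    apply Subtype.ext
    change ψ a * ψ b = ψ b * ψ a
    rw [← map_mul, ← map_mul, mul_comm]
  · rintro _ ⟨a, rfl⟩
    rw [← map_pow, hK, map_one]
  · rw [← Nat.card_congr (MonoidHom.ofInjective hψ).toEquiv]
    exact hcard'

end Cfsg.Agent.Lib.Helper48.R3
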