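import Mathlib
import Cfsg.Prelude.Def_LieTwisted
import Cfsg.Agent.Lib.Helper48.R3GenSub

/-!
K-R3-2E6 (178812, S1788; parallel hand): `²E₆(q)`, `q` even, has `2`-rank at least three:
`A = { x_{p₁}(t) x_{p₆}(t^q) x_{p₄}(s) : t ∈ K, s ∈ {0, 1} }`, products of generators.
-/

set_option autoImplicit false
set_option maxRecDepth 100000

namespace Cfsg.Agent.Lib.Helper48.R3

open Cfsg Cfsg.Lie Cfsg.Agent.Lib.Helper24

theorem e6_root_56 : rootCheck chevE6 56 = true := by decide +kernel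
theorem e6_root_36 : rootCheck chevE6 36 = true := by decide +kernel
theorem e6_root_39 : rootCheck chevE6 39 = true := by decide +kernel
theorem e6_comm_56_36 : commCheck chevE6 56 36 = true := by decide +kernel
theorem e6_comm_56_39 : commCheck chevE6 56 39 = true := by decide +kernel
theorem e6_comm_36_39 : commCheck chevE6 36 39 = true := by decide +kernel

theorem e6tw_col2 : applyWord chevE6 [(56, Poly.x0), (36, Poly.x1), (39, Poly.x2)] [(2, Poly.one)] =
    [(2, [(⟨0, 0, 0, 0⟩, 1)]), (62, [(⟨1, 0, 0, 0⟩, 1)]), (42, []), (45, [(⟨0, 0, 1, 0⟩, 1)])] := by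
  decide +kernel

theorem e6tw_col1 : applyWord chevE6 [(56, Poly.x0), (36, Poly.x1), (39, Poly.x2)] [(1, Poly.one)] =
    [(1, [(⟨0, 0, 0, 0⟩, 1)]), (62, []), (42, []), (45, [(⟨0, 0, 1, 0⟩, 1)])] := by
  decide +kernel

theorem e6tw_rank : chevE6.rank = 6 := rfl

theorem e6tw_nroots : chevE6.nroots = 72 := rfl

/-- a prime power whose square is the order of a field of characteristic two is a power of two -/
theorem exists_two_pow_of_card (K : Type) [Field K] [Fintype K] [CharP K 2] (q : ℕ)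
    (hK : Fintype.card K = q ^ 2) : ∃ k : ℕ, q = 2 ^ k := by
  obtain ⟨n, hp, hn⟩ := FiniteField.card K 2
  have hdvd : q ∣ 2 ^ (n : ℕ) := by
    rw [← hn, hK]
    exact dvd_pow_self q two_ne_zero
  obtain ⟨k, -, hk⟩ := (Nat.dvd_prime_pow Nat.prime_two).mp hdvd
  exact ⟨k, hk⟩

theorem prank_twistedE6 (K : Type) [Field K] [Fintype K] [CharP K 2] (q : ℕ) (hq : IsPrimePow q)
    (hK : Fintype.card K = q ^ 2) :
    Cfsg.PRankAtLeast 2 3 (Cfsg.Lie.twistedE6 K q) := by
  obtain ⟨k, hk⟩ := exists_two_pow_of_card K q hK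
  have hq2 : 2 ≤ q := hq.two_le
  have l1 : 56 < chevE6.nroots := by rw [e6tw_nroots]; norm_num
  have l3 : 39 < chevE6.nroots := by rw [e6tw_nroots]; norm_num
  have : ExpChar K 2 := ExpChar.prime Nat.prime_two
  let g1 : K × ZMod 2 →+ K := AddMonoidHom.fst K (ZMod 2)
  let g2 : K × ZMod 2 →+ K :=
    ((iterateFrobenius K 2 k : K →+* K) : K →+ K).comp (AddMonoidHom.fst K (ZMod 2))
  let g3 : K × ZMod 2 →+ K :=
    ((ZMod.castHom (dvd_refl 2) K : ZMod 2 →+* K) : ZMod 2 →+ K).comp (AddMonoidHom.snd K (ZMod 2))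
  have hg1 : ∀ a : K × ZMod 2, g1 a = a.1 := fun a => rfl
  have hg2 : ∀ a : K × ZMod 2, g2 a = a.1 ^ q := by
    intro a
    show iterateFrobenius K 2 k a.1 = a.1 ^ q
    rw [iterateFrobenius_def, hk]
  have hg3 : ∀ a : K × ZMod 2, g3 a = ((a.2 : ZMod 2).cast : K) := fun a => rfl
  have hcast : ∀ s : ZMod 2, ((s.cast : K)) ^ q = (s.cast : K) := by
    intro s
    have : s = 0 ∨ s = 1 := by revert s; decide
    rcases this with rfl | rfl
    · simp [zero_pow (by omega : q ≠ 0)]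
    · simp
  refine prank_of_three_roots_sub chevE6 (twistedE6 K q) (A := K × ZMod 2) ?_ ?_ g1 g2 g3 56 36 39
    e6_root_56 e6_root_36 e6_root_39 e6_comm_56_36 e6_comm_56_39 e6_comm_36_39 ?_ ?_
  · intro a
    refine Prod.ext ?_ ?_ <;> exact CharTwo.add_self_eq_zero _
  · have h4 : 4 ≤ Fintype.card K := by
      rw [hK]
      calc 4 = 2 ^ 2 := by norm_num
        _ ≤ q ^ 2 := Nat.pow_le_pow_left hq2 2
    rw [Nat.card_eq_fintype_card, Fintype.card_prod, ZMod.card]
    omega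
  · intro a
    rw [hg1, hg2, hg3]
    apply Subgroup.mul_mem
    · apply Subgroup.subset_closure
      refine ⟨[(e6p1, a.1), (e6p6, a.1 ^ q)], ?_, ?_⟩
      · right
        exact ⟨a.1, (e6p1, e6p6), by simp, rfl⟩
      · simp [ChevalleyDatum.wordMat, e6p1, e6p6]
    · apply Subgroup.subset_closure
      refine ⟨[(e6p4, ((a.2 : ZMod 2).cast : K))], ?_, ?_⟩
      · left
        exact ⟨_, hcast a.2, e6p4, by simp, rfl⟩
      · simp [ChevalleyDatum.wordMat, e6p4]
  · intro a h
    rw [hg1, hg2, hg3] at h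
    have h2 := denV_eq_of_prod_eq_one chevE6 56 36 39 2 _ _ _ _ e6tw_col2 h
    have h1 := denV_eq_of_prod_eq_one chevE6 56 36 39 1 _ _ _ _ e6tw_col1 h
    have a1 := congrFun h2 (Sum.inr ⟨56, l1⟩)
    have a3 := congrFun h1 (Sum.inr ⟨39, l3⟩)
    simp [denV, enc, e6tw_rank, Mono.den] at a1 a3
    have hs : a.2 = 0 := by
      have hinj : Function.Injective (ZMod.castHom (dvd_refl 2) K : ZMod 2 →+* K) :=
        RingHom.injective _
      apply hinj
      rw [map_zero]
      exact a3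
    exact Prod.ext a1 hs

end Cfsg.Agent.Lib.Helper48.R3
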