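import Mathlib
import Cfsg.Agent.Lib.Helper40.NilCovDefs

/-!
# K-S3894-R6 (keystone 389408, architect helper40): `GL_n(F)` is transitive on nonzero vectors.
-/

set_option autoImplicit false

namespace Cfsg.Agent.Lib.Helper48.S3894

open Matrix Cfsg.Agent.Lib.Helper40.NilCov

variable {F : Type*} [Field F]

/-- K-S3894-R6.  `GL_n(F)` is transitive on nonzero vectors. -/
theorem exists_gl_mulVec_e0 (n : ℕ) (hn : 0 < n) (v : Fin n → F) (hv : v ≠ 0) :
    ∃ h : GL (Fin n) F, (h : Matrix (Fin n) (Fin n) F) *ᵥ (Pi.single (⟨0, hn⟩ : Fin n) (1 : F)) = v := by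
  classical
  obtain ⟨i₀, hi₀⟩ : ∃ i, v i ≠ 0 := by
    by_contra hcon
    apply hv
    funext i
    by_contra h
    exact hcon ⟨i, h⟩
  set σ : Equiv.Perm (Fin n) := Equiv.swap ⟨0, hn⟩ i₀ with hσ
  set M : Matrix (Fin n) (Fin n) F := (1 : Matrix (Fin n) (Fin n) F).updateCol i₀ v with hM
  set P : Matrix (Fin n) (Fin n) F := σ.permMatrix F with hP
  have hdetM : M.det = v i₀ := by
    rw [hM, ← Matrix.cramer_apply, Matrix.cramer_one]
    rfl
  have hdetP : P.det ≠ 0 := by
    rw [hP, Matrix.det_permutation]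
    rcases Int.units_eq_one_or (Equiv.Perm.sign σ) with h | h <;> rw [h] <;> simp
  have hdet : (M * P).det ≠ 0 := by
    rw [Matrix.det_mul, hdetM]
    exact mul_ne_zero hi₀ hdetP
  refine ⟨Matrix.GeneralLinearGroup.mkOfDetNeZero (M * P) hdet, ?_⟩
  show (M * P) *ᵥ _ = v
  rw [← Matrix.mulVec_mulVec, hP, Matrix.permMatrix_mulVec]
  have h1 : (Pi.single (⟨0, hn⟩ : Fin n) (1 : F)) ∘ σ = Pi.single i₀ (1 : F) := by
    funext j
    simp only [Function.comp_apply, Pi.single_apply, hσ]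
    by_cases hj : j = i₀
    · subst hj
      simp
    · rw [if_neg hj]
      by_cases hj0 : j = ⟨0, hn⟩
      · subst hj0
        rw [Equiv.swap_apply_left, if_neg]
        exact fun h => hj h.symm
      · rw [Equiv.swap_apply_of_ne_of_ne hj0 hj, if_neg hj0]
  rw [h1, Matrix.mulVec_single_one, hM]
  funext i
  simp [Matrix.col_apply, Matrix.updateCol_self]

end Cfsg.Agent.Lib.Helper48.S3894
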