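import Mathlib

/-!
K-SPC-C10 (267619, S2676 pack, architect helper73; parallel hand): square roots of unipotent matrices as
polynomials, characteristic not two.
-/

set_option autoImplicit false

namespace Cfsg.Agent.Lib.Helper48.SPC

open Polynomial

variable {F : Type*} [Field F]

/-- a polynomial square root of `1 + X` modulo `X ^ (s + 1)` -/
theorem exists_sqrt_one_add_X (h2 : (2 : F) ≠ 0) (s : ℕ) :
    ∃ Q T : F[X], Q * Q = 1 + X + X ^ (s + 1) * T := by
  induction s with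
  | zero => exact ⟨1, -1, by ring⟩
  | succ s ih =>
    obtain ⟨Q, T, hQ⟩ := ih
    have hc : (2 : F[X]) * C (2⁻¹ : F) = 1 := by
      rw [← map_ofNat (C : F →+* F[X]) 2, ← C_mul, mul_inv_cancel₀ h2, C_1]
    generalize C (2⁻¹ : F) = c at hc
    refine ⟨Q * (1 - c * X ^ (s + 1) * T),
      -T - X ^ s * T ^ 2 + c ^ 2 * X ^ s * T ^ 2 * (1 + X + X ^ (s + 1) * T), ?_⟩
    linear_combination (1 - c * X ^ (s + 1) * T) ^ 2 * hQ -
      (X ^ (s + 1) * T) * (1 + X + X ^ (s + 1) * T) * hc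

theorem exists_poly_sqrt {ι : Type*} [Fintype ι] [DecidableEq ι] (h2 : (2 : F) ≠ 0)
    (h : Matrix ι ι F) (hn : IsNilpotent (h - 1)) :
    ∃ P : Polynomial F, Polynomial.aeval h P * Polynomial.aeval h P = h := by
  obtain ⟨r, hr⟩ := hn
  obtain ⟨Q, T, hQ⟩ := exists_sqrt_one_add_X h2 r
  refine ⟨Q.comp (X - 1), ?_⟩
  have e1 : Polynomial.aeval h (Q.comp (X - 1)) = Polynomial.aeval (h - 1) Q := by
    rw [Polynomial.aeval_comp]
    congr 2
    simp
  rw [e1, ← map_mul, hQ]
  simp only [map_add, map_mul, map_one, map_pow, Polynomial.aeval_X]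
  rw [pow_succ, hr, zero_mul, zero_mul, add_zero]
  abel

end Cfsg.Agent.Lib.Helper48.SPC
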