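import Mathlib
import Cfsg.Prelude.Def_JordanBlocks
import Cfsg.Agent.Lib.Helper73.UCDefs
import Cfsg.Agent.Lib.Helper73.SPCDefs
import Cfsg.Agent.Lib.Helper49.UnipotentClasses
import Cfsg.Agent.Lib.Helper22.UCA1

/-!
K-SPC-D3 (267628, S2676 pack, architect helper73): uniqueness of the Jordan type of a matrix,
by the ranks of the powers of `A - 1`.
-/

set_option autoImplicit false

namespace Cfsg.Agent.Lib.Helper48.SPC

open Matrix Module Cfsg.Agent.Lib.Helper73.UC Cfsg.Agent.Lib.Helper73.SPC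

variable {F : Type*} [Field F]

/-- the standard basis is a Jordan basis for the nilpotent Jordan matrix -/
theorem isJordanBasis_nilM {t : ℕ} (d : Fin t → ℕ) :
    Cfsg.Agent.Lib.Helper49.IsJordanBasis (Matrix.toLin' (nilM d F)) d (Pi.basisFun F (JI d)) := by
  classical
  intro k j
  rw [Pi.basisFun_apply, Matrix.toLin'_apply, Matrix.mulVec_single_one]
  funext x
  rw [Matrix.col_apply, Cfsg.Agent.Lib.Helper22.UC.uca1_nilM_apply]
  split_ifs with h1 h2 h2
  · rw [Pi.basisFun_apply, Pi.single_apply, if_pos]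
    rcases x with ⟨l, b⟩
    obtain ⟨h3, h4⟩ := h1
    simp only at h3 h4
    subst h3
    exact congrArg _ (Fin.ext h4)
  · exfalso
    obtain ⟨h3, h4⟩ := h1
    rcases x with ⟨l, b⟩
    simp only at h3 h4
    subst h3
    have := b.2
    omega
  · rw [Pi.basisFun_apply, Pi.single_apply, if_neg]
    intro hx
    apply h1
    subst hx
    exact ⟨rfl, rfl⟩
  · rfl

/-- the rank of the powers of the nilpotent Jordan matrix -/
theorem rank_nilM_pow {t : ℕ} (d : Fin t → ℕ) (m : ℕ) :
    ((nilM d F) ^ m).rank = ∑ k, (d k - m) := by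
  classical
  rw [← (isJordanBasis_nilM (F := F) d).finrank_range_pow m, Matrix.rank, ← Matrix.toLin'_pow,
    Matrix.toLin'_apply']

/-- the ranks of the powers of `A - 1` for a matrix of a given Jordan type -/
theorem rank_pow_of_isConj {ι : Type*} [Fintype ι] [DecidableEq ι] {t : ℕ} (d : Fin t → ℕ)
    (e : JI d ≃ ι) (A : Matrix ι ι F)
    (h : IsConj (Matrix.reindex e e (Cfsg.jordanTypeMatrix d F)) A) (m : ℕ) :
    ((A - 1) ^ m).rank = ∑ k, (d k - m) := by
  classical
  obtain ⟨c, hc⟩ := h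
  have hc' : (c : Matrix ι ι F) * Matrix.reindex e e (Cfsg.jordanTypeMatrix d F) =
      A * (c : Matrix ι ι F) := hc
  have hcc : (c : Matrix ι ι F) * ((c⁻¹ : (Matrix ι ι F)ˣ) : Matrix ι ι F) = 1 := by
    rw [← Units.val_mul, mul_inv_cancel, Units.val_one]
  have hR : Matrix.reindex e e (Cfsg.jordanTypeMatrix d F) - 1 =
      Matrix.reindexAlgEquiv F F e (nilM d F) := by
    rw [Matrix.coe_reindexAlgEquiv]
    unfold nilM
    ext i j
    simp [Matrix.one_apply, Matrix.sub_apply]
  have h1 : A - 1 = (c : Matrix ι ι F) * (Matrix.reindexAlgEquiv F F e (nilM d F)) *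
      ((c⁻¹ : (Matrix ι ι F)ˣ) : Matrix ι ι F) := by
    rw [← hR, mul_sub, mul_one, hc', sub_mul, mul_assoc, hcc, mul_one]
  rw [h1, Units.conj_pow, ← map_pow]
  have hdet : IsUnit (c : Matrix ι ι F).det :=
    (Matrix.isUnit_iff_isUnit_det _).mp c.isUnit
  have hdet' : IsUnit ((c⁻¹ : (Matrix ι ι F)ˣ) : Matrix ι ι F).det :=
    (Matrix.isUnit_iff_isUnit_det _).mp (c⁻¹).isUnit
  rw [Matrix.rank_mul_eq_left_of_isUnit_det _ _ hdet', Matrix.rank_mul_eq_right_of_isUnit_det _ _ hdet,
    Matrix.coe_reindexAlgEquiv, Matrix.rank_reindex, rank_nilM_pow]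

theorem matHasType_unique {ι : Type*} [Fintype ι] [DecidableEq ι] {n : ℕ} (A : Matrix ι ι F)
    (μ μ' : Nat.Partition n) (h : MatHasType A μ) (h' : MatHasType A μ') : μ = μ' := by
  classical
  obtain ⟨t, d, e, hd, hμ, hc⟩ := h
  obtain ⟨t', d', e', hd', hμ', hc'⟩ := h'
  apply Nat.Partition.ext
  rw [← hμ, ← hμ']
  ext j
  rw [← Cfsg.Agent.Lib.Helper49.card_fiber_eq_count, ← Cfsg.Agent.Lib.Helper49.card_fiber_eq_count]
  rcases Nat.eq_zero_or_pos j with rfl | hj
  · have e1 : (Finset.univ.filter fun k => d k = 0) = ∅ := by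
      apply Finset.filter_eq_empty_iff.mpr
      intro k _ hk
      have := hd k
      omega
    have e2 : (Finset.univ.filter fun k => d' k = 0) = ∅ := by
      apply Finset.filter_eq_empty_iff.mpr
      intro k _ hk
      have := hd' k
      omega
    rw [e1, e2, Finset.card_empty, Finset.card_empty]
  · apply Cfsg.Agent.Lib.Helper49.card_eq_of_sums_eq d d' _ j hj
    intro m
    rw [← rank_pow_of_isConj d e A hc m, ← rank_pow_of_isConj d' e' A hc' m]

end Cfsg.Agent.Lib.Helper48.SPC
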