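import Mathlib

/-!
K-SPC-D6 (267631, S2676 pack, architect helper73; parallel hand): every partition of `card ι` has data.
-/

set_option autoImplicit false

namespace Cfsg.Agent.Lib.Helper48.SPC

theorem exists_data_of_partition {ι : Type*} [Fintype ι] [DecidableEq ι] {n : ℕ}
    (hn : Fintype.card ι = n) (μ : Nat.Partition n) :
    ∃ (t : ℕ) (d : Fin t → ℕ) (_ : ((k : Fin t) × Fin (d k)) ≃ ι), (∀ k, 1 ≤ d k) ∧
      Multiset.map d Finset.univ.val = μ.parts := by
  classical
  set l := μ.parts.toList with hl
  let d : Fin l.length → ℕ := fun k => l.get k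
  have hmap : Multiset.map d Finset.univ.val = μ.parts := by
    rw [Fin.univ_val_map, List.ofFn_get, hl, Multiset.coe_toList]
  have hd : ∀ k, 1 ≤ d k := by
    intro k
    apply μ.parts_pos
    rw [← Multiset.mem_toList]
    exact List.get_mem l k
  have hsum : ∑ k, d k = n := by
    have : (Multiset.map d Finset.univ.val).sum = n := by rw [hmap, μ.parts_sum]
    exact this
  have hcard : Fintype.card ((k : Fin l.length) × Fin (d k)) = Fintype.card ι := by
    rw [Fintype.card_sigma, hn]
    simp only [Fintype.card_fin]
    exact hsum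
  exact ⟨l.length, d, Fintype.equivOfCardEq hcard, hd, hmap⟩

end Cfsg.Agent.Lib.Helper48.SPC
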