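import Mathlib
import Cfsg.Prelude.Def_GeometricClasses
import Cfsg.Agent.Lib.Helper87.SU3Defs

/-!
# K-SU3-C4 (keystone 577804, architect helper87), part (a): the concrete computations over `F25`.

`F25 = QuadraticAlgebra (ZMod 5) 2 0`.  All facts are decided in the kernel.
-/

set_option autoImplicit false

namespace Cfsg.Agent.Lib.Helper48.SU3K

open Cfsg Cfsg.Geo Matrix Cfsg.Agent.Lib.Helper87.SU3

instance fact_prime_five : Fact (Nat.Prime 5) := ⟨by norm_num⟩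

/-- the concrete field with 25 elements, `t ^ 2 = 2` -/
abbrev F25 := QuadraticAlgebra (ZMod 5) 2 0

instance f25_fact : Fact (∀ r : ZMod 5, r ^ 2 ≠ (2 : ZMod 5) + 0 * r) := ⟨by decide⟩

instance f25_fintype : Fintype F25 :=
  Fintype.ofEquiv (ZMod 5 × ZMod 5) (QuadraticAlgebra.equivProd (2 : ZMod 5) 0).symm

theorem f25_card : Fintype.card F25 = 25 := by
  rw [Fintype.card_congr (QuadraticAlgebra.equivProd (2 : ZMod 5) 0), Fintype.card_prod, ZMod.card]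

/-- `InY5` on a triple of coordinates -/
def inY {K : Type*} [Field K] (a b c : K) : Prop :=
  a ^ 6 + b ^ 6 + c ^ 6 = 1 ∧
    ((a ^ 3 + b ^ 3 + c ^ 3 = 0 ∧ (a * b * c = 0 ∨ (a * b * c) ^ 2 = -1)) ∨
      ((a * b * c) ^ 2 = 2 ∧ ((a ^ 3 + b ^ 3 + c ^ 3) * (a * b * c)) ^ 3 = 2))

instance {K : Type*} [Field K] [DecidableEq K] (a b c : K) : Decidable (inY a b c) := by
  unfold inY; infer_instance

/-- the image of a triple under a matrix, coordinate `i` -/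
def img {K : Type*} [Field K] (A : Matrix (Fin 3) (Fin 3) K) (a b c : K) (i : Fin 3) : K :=
  A i 0 * a + A i 1 * b + A i 2 * c

/-- the invariance of the 270 vectors under a matrix, on triples -/
def InvY {K : Type*} [Field K] (A : Matrix (Fin 3) (Fin 3) K) : Prop :=
  ∀ a b c : K, a ^ 6 + b ^ 6 + c ^ 6 = 1 → inY a b c →
    inY (img A a b c 0) (img A a b c 1) (img A a b c 2)

/-- the determinant of a `3 × 3` matrix, written out -/
def det3 {K : Type*} [Field K] (A : Matrix (Fin 3) (Fin 3) K) : K :=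
  A 0 0 * A 1 1 * A 2 2 - A 0 0 * A 1 2 * A 2 1 - A 0 1 * A 1 0 * A 2 2 + A 0 1 * A 1 2 * A 2 0
    + A 0 2 * A 1 0 * A 2 1 - A 0 2 * A 1 1 * A 2 0

/-- `A` is unitary for `x ↦ x ^ 5`, of determinant one -/
def IsSU {K : Type*} [Field K] (A : Matrix (Fin 3) (Fin 3) K) : Prop :=
  (Aᵀ).map (· ^ 5) * A = 1 ∧ det3 A = 1

instance {K : Type*} [Field K] [DecidableEq K] (A : Matrix (Fin 3) (Fin 3) K) : Decidable (IsSU A) := by
  unfold IsSU; infer_instance

/-- the matrix identities used for `3.M_10` -/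
def MatFacts {K : Type*} [Field K] (ω : K) : Prop :=
  (sM ω * sM ω * (sM ω * sM ω) = 1 ∧ sM' ω * sM' ω * (sM' ω * sM' ω) = 1 ∧
    (t5m : Matrix (Fin 3) (Fin 3) K) * t5m = 1 ∧
    aM ω * aM ω * aM ω = 1 ∧ (bM : Matrix (Fin 3) (Fin 3) K) * bM * bM = 1) ∧
  (IsSU (sM ω) ∧ IsSU (sM' ω) ∧ IsSU (t5m : Matrix (Fin 3) (Fin 3) K) ∧ IsSU (aM ω) ∧
    IsSU (bM : Matrix (Fin 3) (Fin 3) K)) ∧
  (sM ω * aM ω = bM * bM * sM ω ∧ sM ω * bM = aM ω * sM ω ∧
    sM' ω * aM ω = aM ω * aM ω * (bM * bM) * sM' ω ∧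
    sM' ω * bM = (ω ^ 2 • (1 : Matrix (Fin 3) (Fin 3) K)) * (aM ω * aM ω * bM) * sM' ω)

instance {K : Type*} [Field K] [DecidableEq K] (ω : K) : Decidable (MatFacts ω) := by
  unfold MatFacts; infer_instance

set_option maxRecDepth 100000 in
theorem matFacts_F25 : ∀ ω : F25, ω ^ 2 + ω + 1 = 0 → MatFacts ω := by
  decide +kernel

set_option maxRecDepth 100000 in
theorem invY_sM : ∀ ω : F25, ω ^ 2 + ω + 1 = 0 → ∀ a b c : F25, a ^ 6 + b ^ 6 + c ^ 6 = 1 → inY a b c →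
    inY (img (sM ω) a b c 0) (img (sM ω) a b c 1) (img (sM ω) a b c 2) := by
  decide +kernel

set_option maxRecDepth 100000 in
theorem invY_sM' : ∀ ω : F25, ω ^ 2 + ω + 1 = 0 → ∀ a b c : F25, a ^ 6 + b ^ 6 + c ^ 6 = 1 → inY a b c →
    inY (img (sM' ω) a b c 0) (img (sM' ω) a b c 1) (img (sM' ω) a b c 2) := by
  decide +kernel

set_option maxRecDepth 100000 in
theorem invY_aM : ∀ ω : F25, ω ^ 2 + ω + 1 = 0 → ∀ a b c : F25, a ^ 6 + b ^ 6 + c ^ 6 = 1 → inY a b c →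
    inY (img (aM ω) a b c 0) (img (aM ω) a b c 1) (img (aM ω) a b c 2) := by
  decide +kernel

set_option maxRecDepth 100000 in
theorem invY_t5m : ∀ a b c : F25, a ^ 6 + b ^ 6 + c ^ 6 = 1 → inY a b c →
    inY (img (t5m : Matrix (Fin 3) (Fin 3) F25) a b c 0) (img (t5m : Matrix (Fin 3) (Fin 3) F25) a b c 1)
      (img (t5m : Matrix (Fin 3) (Fin 3) F25) a b c 2) := by
  decide +kernel

set_option maxRecDepth 100000 in
theorem invY_bM : ∀ a b c : F25, a ^ 6 + b ^ 6 + c ^ 6 = 1 → inY a b c →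
    inY (img (bM : Matrix (Fin 3) (Fin 3) F25) a b c 0) (img (bM : Matrix (Fin 3) (Fin 3) F25) a b c 1)
      (img (bM : Matrix (Fin 3) (Fin 3) F25) a b c 2) := by
  decide +kernel

end Cfsg.Agent.Lib.Helper48.SU3K
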