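import Mathlib
import Cfsg.Prelude.Def_GeometricClasses
import Cfsg.Agent.Lib.Helper87.SU3Defs
import Cfsg.Agent.Lib.Helper10.SU3KDefs
import Cfsg.Agent.Lib.Helper48.SU3KC4a

/-!
# K-SU3-C4 (keystone 577804, architect helper87): `m10_gens_mem`.

The generators of `3.M_10 < SU_3(5)` preserve the 270 vectors `InY5`, are unitary of determinant one, and `sM ω`, `sM' ω`
normalise the Heisenberg group.  The computations are done over the concrete field `F25` (`SU3KC4a`) and transported.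
-/

set_option autoImplicit false

namespace Cfsg.Agent.Lib.Helper48.SU3K

open Cfsg Cfsg.Geo Matrix Cfsg.Agent.Lib.Helper87.SU3

section transport

variable {F : Type*} [Field F] {K : Type*} [Field K] (e : F →+* K)

theorem map_sM (ω : F) : (sM ω).map e = sM (e ω) := by
  ext i j
  fin_cases i <;> fin_cases j <;> simp [sM, map_inv₀]

theorem map_sM' (ω : F) : (sM' ω).map e = sM' (e ω) := by
  ext i j
  fin_cases i <;> fin_cases j <;> simp [sM', map_inv₀]

theorem map_aM (ω : F) : (aM ω).map e = aM (e ω) := by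
  ext i j
  fin_cases i <;> fin_cases j <;> simp [aM]

theorem map_bM : (bM : Matrix (Fin 3) (Fin 3) F).map e = bM := by
  ext i j
  fin_cases i <;> fin_cases j <;> simp [bM]

theorem map_t5m : (t5m : Matrix (Fin 3) (Fin 3) F).map e = t5m := by
  ext i j
  fin_cases i <;> fin_cases j <;> simp [t5m, map_ofNat]

theorem map_injective' {M N : Matrix (Fin 3) (Fin 3) F} (h : M.map e = N.map e) : M = N :=
  Matrix.map_injective e.injective h

theorem map_one' : (1 : Matrix (Fin 3) (Fin 3) F).map e = 1 :=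
  Matrix.map_one e (map_zero e) (map_one e)

theorem map_smul_one' (c : F) : (c • (1 : Matrix (Fin 3) (Fin 3) F)).map e = e c • (1 : Matrix (Fin 3) (Fin 3) K) := by
  ext i j
  by_cases h : i = j
  · subst h; simp
  · simp [Matrix.one_apply_ne h]

theorem map_dag (A : Matrix (Fin 3) (Fin 3) F) :
    ((Aᵀ).map (· ^ 5)).map e = ((A.map e)ᵀ).map (· ^ 5) := by
  ext i j
  simp [map_pow]

theorem det_eq_det3 (A : Matrix (Fin 3) (Fin 3) F) : A.det = det3 A := by
  rw [Matrix.det_fin_three]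
  unfold det3
  ring

theorem map_det3 (A : Matrix (Fin 3) (Fin 3) F) : e (det3 A) = det3 (A.map e) := by
  unfold det3
  simp [map_sub, map_add, map_mul]

theorem isSU_of_map (A : Matrix (Fin 3) (Fin 3) F) (h : IsSU (A.map e)) : IsSU A := by
  obtain ⟨h1, h2⟩ := h
  refine ⟨?_, ?_⟩
  · apply map_injective' e
    rw [Matrix.map_mul, map_dag, h1, map_one']
  · apply e.injective
    rw [map_det3, h2, map_one]

theorem inY_map (a b c : F) : inY (e a) (e b) (e c) ↔ inY a b c := by
  have hi : ∀ x y : F, e x = e y ↔ x = y := fun x y => e.injective.eq_iff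
  have h1 : e a ^ 6 + e b ^ 6 + e c ^ 6 = e (a ^ 6 + b ^ 6 + c ^ 6) := by simp only [map_add, map_pow]
  have h2 : e a ^ 3 + e b ^ 3 + e c ^ 3 = e (a ^ 3 + b ^ 3 + c ^ 3) := by simp only [map_add, map_pow]
  have h3 : e a * e b * e c = e (a * b * c) := by simp only [map_mul]
  have c1 : (1 : K) = e 1 := (map_one e).symm
  have c0 : (0 : K) = e 0 := (map_zero e).symm
  have cm : (-1 : K) = e (-1) := by rw [map_neg, map_one]
  have c2 : (2 : K) = e 2 := (map_ofNat e 2).symm
  unfold inY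
  rw [h1, h2, h3, cm, c2, c0]
  rw [show e (a ^ 6 + b ^ 6 + c ^ 6) = 1 ↔ e (a ^ 6 + b ^ 6 + c ^ 6) = e 1 by rw [map_one]]
  simp only [← map_pow, ← map_mul, hi]

theorem mulVec_eq_img (A : Matrix (Fin 3) (Fin 3) F) (v : Fin 3 → F) (i : Fin 3) :
    (A *ᵥ v) i = img A (v 0) (v 1) (v 2) i := by
  simp [img, Matrix.mulVec, dotProduct, Fin.sum_univ_three]

theorem map_img (A : Matrix (Fin 3) (Fin 3) F) (a b c : F) (i : Fin 3) :
    e (img A a b c i) = img (A.map e) (e a) (e b) (e c) i := by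
  simp [img]

theorem inY5_of_invY (A : Matrix (Fin 3) (Fin 3) F) (h : InvY (A.map e)) (v : Fin 3 → F)
    (hv : InY5 v) : InY5 (A *ᵥ v) := by
  have hv' : inY (v 0) (v 1) (v 2) := hv
  have h1 : inY (e (v 0)) (e (v 1)) (e (v 2)) := (inY_map e _ _ _).2 hv'
  have h2 := h _ _ _ h1.1 h1
  rw [← map_img, ← map_img, ← map_img] at h2
  have h3 := (inY_map e _ _ _).1 h2
  rw [← mulVec_eq_img, ← mulVec_eq_img, ← mulVec_eq_img] at h3
  exact h3

end transport

section main

variable {F : Type*} [Field F] [Fintype F]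

local notation "M3" => Matrix (Fin 3) (Fin 3) F
local notation "G3" => GL (Fin 3) F

/-- from the matrix facts to membership -/
theorem exists_mem_of_facts (hF : Fintype.card F = 25) (A : M3) (n : ℕ) (hn : 0 < n) (hpow : A ^ n = 1)
    (hsu : IsSU A) (hinv : ∀ v, InY5 v → InY5 (A *ᵥ v)) :
    ∃ g : G3, (g : M3) = A ∧ g ∈ stab InY5 ⊓ SU3 F 5 := by
  have hdet : A.det = 1 := by rw [det_eq_det3]; exact hsu.2
  have hdet0 : A.det ≠ 0 := by rw [hdet]; exact one_ne_zero
  refine ⟨Matrix.GeneralLinearGroup.mkOfDetNeZero A hdet0, rfl, ?_, ?_, ?_⟩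
  · apply mem_stab_of_forall_imp hn
    · apply Units.ext
      rw [Units.val_pow_eq_pow_val]
      exact hpow
    · exact hinv
  · have hF' : Fintype.card F = 5 ^ 2 := by rw [hF]; norm_num
    exact (Cfsg.Agent.Lib.Helper10.SU3K.mem_GU_iff_dag hF' (by norm_num) _).2 hsu.1
  · show Matrix.GeneralLinearGroup.det _ = 1
    apply Units.ext
    rw [Matrix.GeneralLinearGroup.val_det_apply]
    exact hdet

omit [Fintype F] in
/-- normalising the Heisenberg group, from the images of the generators -/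
theorem mem_normalizer_heis (ω : F) (R₀ : Subgroup G3) (hR : IsHeis ω R₀) (g ga gb gz : G3)
    (hg4 : g ^ 4 = 1) (hga : (ga : M3) = aM ω) (hgb : (gb : M3) = bM) (hgz : (gz : M3) = ω • (1 : M3))
    (hca : g * ga * g⁻¹ ∈ R₀) (hcb : g * gb * g⁻¹ ∈ R₀) (hcz : g * gz * g⁻¹ ∈ R₀) :
    g ∈ subgroupNormalizer R₀ := by
  have hconj : ∀ x ∈ R₀, g * x * g⁻¹ ∈ R₀ := by
    intro x hx
    obtain ⟨i, j, k, hijk⟩ := (hR x).1 hx
    have hx' : x = gz ^ i * ga ^ j * gb ^ k := by
      apply Units.ext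
      rw [hijk, Units.val_mul, Units.val_mul, Units.val_pow_eq_pow_val, Units.val_pow_eq_pow_val,
        Units.val_pow_eq_pow_val, hga, hgb, hgz, smul_pow, one_pow, smul_mul_assoc, one_mul, smul_mul_assoc]
    have h1 : g * x * g⁻¹ = (g * gz * g⁻¹) ^ i * (g * ga * g⁻¹) ^ j * (g * gb * g⁻¹) ^ k := by
      rw [hx', conj_pow, conj_pow, conj_pow]
      group
    rw [h1]
    exact R₀.mul_mem (R₀.mul_mem (R₀.pow_mem hcz i) (R₀.pow_mem hca j)) (R₀.pow_mem hcb k)
  unfold subgroupNormalizer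
  rw [Subgroup.mem_normalizer_iff]
  intro h
  refine ⟨hconj h, fun hh => ?_⟩
  have h3 := hconj _ (hconj _ (hconj _ hh))
  have e4 : g * g * g * g = 1 := by rw [← hg4, pow_succ, pow_succ, pow_succ, pow_one]
  have h4 : g * (g * (g * (g * h * g⁻¹) * g⁻¹) * g⁻¹) * g⁻¹ = (g * g * g * g) * h * (g * g * g * g)⁻¹ := by
    group
  rw [h4, e4, one_mul, inv_one, mul_one] at h3
  exact h3

/-- K-SU3-C4. -/
theorem m10_gens_mem (hF : Fintype.card F = 25) (ω : F) (hω : ω ^ 2 + ω + 1 = 0) :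
    (∀ A : M3, (A = sM ω ∨ A = sM' ω ∨ A = t5m ∨ A = aM ω ∨ A = bM) →
      ∃ g : G3, (g : M3) = A ∧ g ∈ stab InY5 ⊓ SU3 F 5) ∧
    (∀ R₀ : Subgroup G3, IsHeis ω R₀ → ∀ g : G3, ((g : M3) = sM ω ∨ (g : M3) = sM' ω) → g ∈ subgroupNormalizer R₀) := by
  classical
  -- transport to the concrete field
  let E : F ≃+* F25 := FiniteField.ringEquivOfCardEq (hF.trans f25_card.symm)
  let e : F →+* F25 := E.toRingHom
  have hω' : (e ω) ^ 2 + e ω + 1 = 0 := by
    have := congrArg e hω
    simpa only [map_add, map_pow, map_one, map_zero] using this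
  obtain ⟨⟨p1, p2, p3, p4, p5⟩, ⟨u1, u2, u3, u4, u5⟩, ⟨r1, r2, r3, r4⟩⟩ := matFacts_F25 (e ω) hω'
  -- the abstract matrix identities
  have hS4 : sM ω ^ 4 = 1 := by
    apply map_injective' e
    rw [show (4 : ℕ) = 2 + 2 from rfl, pow_add, pow_two, Matrix.map_mul, Matrix.map_mul, map_sM, map_one']
    exact p1
  have hS'4 : sM' ω ^ 4 = 1 := by
    apply map_injective' e
    rw [show (4 : ℕ) = 2 + 2 from rfl, pow_add, pow_two, Matrix.map_mul, Matrix.map_mul, map_sM', map_one']
    exact p2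
  have ht2 : (t5m : M3) ^ 2 = 1 := by
    apply map_injective' e
    rw [pow_two, Matrix.map_mul, map_t5m, map_one']
    exact p3
  have ha3 : aM ω ^ 3 = 1 := by
    apply map_injective' e
    rw [pow_succ, pow_two, Matrix.map_mul, Matrix.map_mul, map_aM, map_one']
    exact p4
  have hb3 : (bM : M3) ^ 3 = 1 := by
    apply map_injective' e
    rw [pow_succ, pow_two, Matrix.map_mul, Matrix.map_mul, map_bM, map_one']
    exact p5
  have hsuS : IsSU (sM ω) := isSU_of_map e _ (by rw [map_sM]; exact u1)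
  have hsuS' : IsSU (sM' ω) := isSU_of_map e _ (by rw [map_sM']; exact u2)
  have hsut : IsSU (t5m : M3) := isSU_of_map e _ (by rw [map_t5m]; exact u3)
  have hsua : IsSU (aM ω) := isSU_of_map e _ (by rw [map_aM]; exact u4)
  have hsub : IsSU (bM : M3) := isSU_of_map e _ (by rw [map_bM]; exact u5)
  have hiS : ∀ v, InY5 v → InY5 (sM ω *ᵥ v) :=
    inY5_of_invY e _ (by rw [map_sM]; exact invY_sM (e ω) hω')
  have hiS' : ∀ v, InY5 v → InY5 (sM' ω *ᵥ v) :=
    inY5_of_invY e _ (by rw [map_sM']; exact invY_sM' (e ω) hω')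
  have hit : ∀ v, InY5 v → InY5 ((t5m : M3) *ᵥ v) :=
    inY5_of_invY e _ (by rw [map_t5m]; exact invY_t5m)
  have hia : ∀ v, InY5 v → InY5 (aM ω *ᵥ v) :=
    inY5_of_invY e _ (by rw [map_aM]; exact invY_aM (e ω) hω')
  have hib : ∀ v, InY5 v → InY5 ((bM : M3) *ᵥ v) :=
    inY5_of_invY e _ (by rw [map_bM]; exact invY_bM)
  have part1 : ∀ A : M3, (A = sM ω ∨ A = sM' ω ∨ A = t5m ∨ A = aM ω ∨ A = bM) →
      ∃ g : G3, (g : M3) = A ∧ g ∈ stab InY5 ⊓ SU3 F 5 := by
    rintro A (rfl | rfl | rfl | rfl | rfl)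
    · exact exists_mem_of_facts hF _ 4 (by norm_num) hS4 hsuS hiS
    · exact exists_mem_of_facts hF _ 4 (by norm_num) hS'4 hsuS' hiS'
    · exact exists_mem_of_facts hF _ 2 (by norm_num) ht2 hsut hit
    · exact exists_mem_of_facts hF _ 3 (by norm_num) ha3 hsua hia
    · exact exists_mem_of_facts hF _ 3 (by norm_num) hb3 hsub hib
  refine ⟨part1, ?_⟩
  -- the relations
  have R1 : sM ω * aM ω = bM * bM * sM ω := by
    apply map_injective' e
    simp only [Matrix.map_mul, map_sM, map_aM, map_bM]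
    exact r1
  have R2 : sM ω * bM = aM ω * sM ω := by
    apply map_injective' e
    simp only [Matrix.map_mul, map_sM, map_aM, map_bM]
    exact r2
  have R3 : sM' ω * aM ω = aM ω * aM ω * (bM * bM) * sM' ω := by
    apply map_injective' e
    simp only [Matrix.map_mul, map_sM', map_aM, map_bM]
    exact r3
  have R4 : sM' ω * bM = (ω ^ 2 • (1 : M3)) * (aM ω * aM ω * bM) * sM' ω := by
    apply map_injective' e
    simp only [Matrix.map_mul, map_sM', map_aM, map_bM, map_smul_one', map_pow]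
    exact r4
  have hω3 : ω * ω ^ 2 = 1 := by linear_combination (ω - 1) * hω
  intro R₀ hR g hg
  obtain ⟨ga, hga, -⟩ := part1 (aM ω) (Or.inr (Or.inr (Or.inr (Or.inl rfl))))
  obtain ⟨gb, hgb, -⟩ := part1 bM (Or.inr (Or.inr (Or.inr (Or.inr rfl))))
  let gz : G3 := ⟨ω • 1, ω ^ 2 • 1, by rw [smul_mul_smul_comm, one_mul, hω3, one_smul],
    by rw [smul_mul_smul_comm, one_mul, mul_comm, hω3, one_smul]⟩
  have hgz : (gz : M3) = ω • (1 : M3) := rfl
  have haR : ga ∈ R₀ := (hR ga).2 ⟨0, 1, 0, by rw [hga]; simp⟩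
  have hbR : gb ∈ R₀ := (hR gb).2 ⟨0, 0, 1, by rw [hgb]; simp⟩
  have hzR : gz ∈ R₀ := (hR gz).2 ⟨1, 0, 0, by rw [hgz]; simp⟩
  have hcz : g * gz * g⁻¹ ∈ R₀ := by
    have h1 : g * gz = gz * g := by
      apply Units.ext
      rw [Units.val_mul, Units.val_mul, hgz, Matrix.mul_smul, Matrix.smul_mul, Matrix.mul_one, Matrix.one_mul]
    rw [h1, mul_inv_cancel_right]
    exact hzR
  rcases hg with hg | hg
  · have hg4 : g ^ 4 = 1 := by
      apply Units.ext
      rw [Units.val_pow_eq_pow_val, hg, hS4]; rfl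
    have hca : g * ga * g⁻¹ ∈ R₀ := by
      have h1 : g * ga = gb * gb * g := by
        apply Units.ext
        simp only [Units.val_mul, hg, hga, hgb]
        exact R1
      rw [h1, mul_inv_cancel_right]
      exact R₀.mul_mem hbR hbR
    have hcb : g * gb * g⁻¹ ∈ R₀ := by
      have h1 : g * gb = ga * g := by
        apply Units.ext
        simp only [Units.val_mul, hg, hga, hgb]
        exact R2
      rw [h1, mul_inv_cancel_right]
      exact haR
    exact mem_normalizer_heis ω R₀ hR g ga gb gz hg4 hga hgb hgz hca hcb hcz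
  · have hg4 : g ^ 4 = 1 := by
      apply Units.ext
      rw [Units.val_pow_eq_pow_val, hg, hS'4]; rfl
    have hca : g * ga * g⁻¹ ∈ R₀ := by
      have h1 : g * ga = ga * ga * (gb * gb) * g := by
        apply Units.ext
        simp only [Units.val_mul, hg, hga, hgb]
        exact R3
      rw [h1, mul_inv_cancel_right]
      exact R₀.mul_mem (R₀.mul_mem haR haR) (R₀.mul_mem hbR hbR)
    have hcb : g * gb * g⁻¹ ∈ R₀ := by
      have h1 : g * gb = gz ^ 2 * (ga * ga * gb) * g := by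
        apply Units.ext
        simp only [Units.val_mul, Units.val_pow_eq_pow_val, hg, hga, hgb, hgz, smul_pow, one_pow]
        exact R4
      rw [h1, mul_inv_cancel_right]
      exact R₀.mul_mem (R₀.pow_mem hzR 2) (R₀.mul_mem (R₀.mul_mem haR haR) hbR)
    exact mem_normalizer_heis ω R₀ hR g ga gb gz hg4 hga hgb hgz hca hcb hcz

end main

end Cfsg.Agent.Lib.Helper48.SU3K
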