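import Mathlib
import Cfsg.Prelude.Def_Classical
import Cfsg.Prelude.Def_GeometricClasses
import Cfsg.Agent.Lib.Helper49.SUBDefs

/-!
# K-SUB-9 (keystone 596509, S5965 pack): Lagrange for `SL_n(F₀)` inside the subfield subgroup
-/

set_option autoImplicit false

namespace Cfsg.Agent.Lib.Helper48.SUB

open Matrix Polynomial Cfsg.Agent.Lib.Helper49.SUB

variable {F : Type*} [Field F] [Fintype F]

omit [Fintype F] in
theorem map_subtype_injective (F₀ : Subfield F) (n : ℕ) :
    Function.Injective (Matrix.SpecialLinearGroup.map (n := Fin n) (F₀.subtype : ↥F₀ →+* F)) := by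
  intro A B hAB
  ext i j
  have h := congrArg (fun X : Matrix.SpecialLinearGroup (Fin n) F => (X : Matrix (Fin n) (Fin n) F) i j) hAB
  simpa using h

omit [Fintype F] in
theorem toGL_map_mem (F₀ : Subfield F) (n : ℕ) (A : Matrix.SpecialLinearGroup (Fin n) ↥F₀) :
    (Matrix.SpecialLinearGroup.toGL
      (Matrix.SpecialLinearGroup.map (F₀.subtype : ↥F₀ →+* F) A) : GL (Fin n) F) ∈ HS F₀ n := by
  apply GL₀_le_HS
  refine ⟨Matrix.SpecialLinearGroup.toGL A, ?_⟩
  apply Units.ext
  ext i j
  simp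

theorem index_mul_card_dvd (F₀ : Subfield F) (n : ℕ) :
    ((HS F₀ n).comap (Matrix.SpecialLinearGroup.toGL :
        Matrix.SpecialLinearGroup (Fin n) F →* GL (Fin n) F)).index *
      Nat.card (Matrix.SpecialLinearGroup (Fin n) ↥F₀) ∣
        Nat.card (Matrix.SpecialLinearGroup (Fin n) F) := by
  classical
  set K : Subgroup (Matrix.SpecialLinearGroup (Fin n) F) :=
    (HS F₀ n).comap (Matrix.SpecialLinearGroup.toGL :
        Matrix.SpecialLinearGroup (Fin n) F →* GL (Fin n) F) with hK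
  have hrange : (Matrix.SpecialLinearGroup.map (n := Fin n) (F₀.subtype : ↥F₀ →+* F)).range ≤ K := by
    rintro _ ⟨A, rfl⟩
    rw [hK, Subgroup.mem_comap]
    exact toGL_map_mem F₀ n A
  have hcard : Nat.card (Matrix.SpecialLinearGroup (Fin n) ↥F₀) =
      Nat.card (Matrix.SpecialLinearGroup.map (n := Fin n) (F₀.subtype : ↥F₀ →+* F)).range :=
    Nat.card_congr (MonoidHom.ofInjective (map_subtype_injective F₀ n)).toEquiv
  have hdvd : Nat.card (Matrix.SpecialLinearGroup (Fin n) ↥F₀) ∣ Nat.card K := by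
    rw [hcard]
    exact Subgroup.card_dvd_of_le hrange
  rw [← Subgroup.index_mul_card K]
  exact Nat.mul_dvd_mul_left _ hdvd

end Cfsg.Agent.Lib.Helper48.SUB
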