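import Mathlib
import Cfsg.Prelude.Def_ClassicalGeometry
import Cfsg.Agent.Lib.Helper48.Sp2GDefs

set_option autoImplicit false

/-! Leaf L1 of the pack K-Sp2G (S2411): the adjacency lemma for an abstract set `T`. -/

namespace Cfsg.Agent.Lib.Helper48.Sp2G

open Matrix Cfsg.Agent.Lib.Helper48.RSp Cfsg.Agent.Lib.Helper18

section
variable {m : ℕ} {F : Type*} [Field F]

local notation "V" => (Fin (m + 2) ⊕ Fin (m + 2) → F)
local notation "f" => Cfsg.sympForm (m + 2) F

theorem l1_f_eI (x : V) (i : Fin (m + 2)) : f x (eI i) = x (Sum.inr i) := by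
  unfold eI
  exact sf_single_inl (m + 2) x i

theorem l1_f_fI (x : V) (i : Fin (m + 2)) : f x (fI i) = - x (Sum.inl i) := by
  unfold fI
  exact sf_single_inr (m + 2) x i

theorem l1_eI_inl (i j : Fin (m + 2)) : (eI i : V) (Sum.inl j) = if j = i then 1 else 0 := by
  unfold eI
  rw [Pi.single_apply]
  simp only [Sum.inl.injEq]

theorem l1_eI_inr (i j : Fin (m + 2)) : (eI i : V) (Sum.inr j) = 0 := by
  unfold eI
  simp

theorem l1_fI_inl (i j : Fin (m + 2)) : (fI i : V) (Sum.inl j) = 0 := by
  unfold fI
  simp

theorem l1_fI_inr (i j : Fin (m + 2)) : (fI i : V) (Sum.inr j) = if j = i then 1 else 0 := by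
  unfold fI
  rw [Pi.single_apply]
  simp only [Sum.inr.injEq]

/-- the common step: `a, b` adjacent indices (in either order), `v_a ≠ 0`: `v + r e_b ∈ T` -/
theorem l1_step (T : Set V)
    (hhyp : ∀ v ∈ T, ∀ w ∈ T, f v w ≠ 0 → ∀ s : F, v + s • w ∈ T)
    (he : ∀ j : Fin (m + 2), (eI j : V) ∈ T) (hf : ∀ j : Fin (m + 2), (fI j : V) ∈ T)
    (a b : Fin (m + 2)) (hab : a ≠ b) (hadj : (eI a + eI b : V) ∈ T)
    (v : V) (hv : v ∈ T) (hv0 : ∀ i, v (Sum.inr i) = 0) (hva : v (Sum.inl a) ≠ 0) (r : F) :
    v + r • eI b ∈ T := by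
  have h1 : v + (1 : F) • fI a ∈ T := by
    apply hhyp v hv (fI a) (hf a)
    rw [l1_f_fI]
    exact neg_ne_zero.2 hva
  have h2 : v + (1 : F) • fI a + r • (eI a + eI b) ∈ T := by
    apply hhyp _ h1 _ hadj
    rw [sf_add_right, l1_f_eI, l1_f_eI]
    simp only [Pi.add_apply, Pi.smul_apply, smul_eq_mul, hv0, l1_fI_inr, if_true, zero_add, one_mul]
    rw [if_neg (Ne.symm hab)]
    simp
  have hp : (fI a + r • eI a : V) ∈ T := by
    apply hhyp _ (hf a) _ (he a)
    rw [l1_f_eI, l1_fI_inr, if_pos rfl]
    exact one_ne_zero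
  have h3 : v + (1 : F) • fI a + r • (eI a + eI b) + (-1 : F) • (fI a + r • eI a) ∈ T := by
    apply hhyp _ h2 _ hp
    rw [sf_add_right, sf_smul_right, l1_f_fI, l1_f_eI]
    simp only [Pi.add_apply, Pi.smul_apply, smul_eq_mul, hv0, l1_fI_inr, l1_fI_inl, l1_eI_inl,
      l1_eI_inr, if_true, zero_add, one_mul, mul_zero, add_zero, mul_one]
    rw [if_neg hab]
    intro h
    apply hva
    have : -(v (Sum.inl a) + r * (1 + 0)) + r = - v (Sum.inl a) := by ring
    rw [this] at h
    exact neg_eq_zero.1 h
  have e : v + (1 : F) • fI a + r • (eI a + eI b) + (-1 : F) • (fI a + r • eI a) = v + r • eI b := by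
    module
  rwa [e] at h3

end

theorem hW_of_adjacent {m : ℕ} {F : Type*} [Field F] (T : Set (Fin (m + 2) ⊕ Fin (m + 2) → F))
    (hsmul : ∀ v ∈ T, ∀ a : F, a • v ∈ T)
    (hhyp : ∀ v ∈ T, ∀ w ∈ T, Cfsg.sympForm (m + 2) F v w ≠ 0 → ∀ s : F, v + s • w ∈ T)
    (he : ∀ j : Fin (m + 2), (eI j : Fin (m + 2) ⊕ Fin (m + 2) → F) ∈ T)
    (hf : ∀ j : Fin (m + 2), (fI j : Fin (m + 2) ⊕ Fin (m + 2) → F) ∈ T)
    (hadj : ∀ (j : Fin (m + 2)) (hj : j.val + 1 < m + 2),
      (eI j + eI ⟨j.val + 1, hj⟩ : Fin (m + 2) ⊕ Fin (m + 2) → F) ∈ T) :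
    ∀ w : Fin (m + 2) ⊕ Fin (m + 2) → F, (∀ i, w (Sum.inr i) = 0) → w ∈ T := by
  have key : ∀ K : ℕ, ∀ w : Fin (m + 2) ⊕ Fin (m + 2) → F, (∀ i, w (Sum.inr i) = 0) →
      (∀ i : Fin (m + 2), K < i.val → w (Sum.inl i) = 0) → w ∈ T := by
    intro K
    induction K with
    | zero =>
      intro w hw0 hsupp
      have : w = w (Sum.inl 0) • (eI (0 : Fin (m + 2)) : Fin (m + 2) ⊕ Fin (m + 2) → F) := by
        funext x
        rcases x with i | i
        · rw [Pi.smul_apply, smul_eq_mul, l1_eI_inl]
          by_cases hi : i = 0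
          · rw [if_pos hi, hi, mul_one]
          · rw [if_neg hi, mul_zero]
            exact hsupp i (Nat.pos_of_ne_zero (fun h => hi (Fin.ext h)))
        · rw [Pi.smul_apply, smul_eq_mul, l1_eI_inr, mul_zero]
          exact hw0 i
      rw [this]
      exact hsmul _ (he 0) _
    | succ K ih =>
      intro w hw0 hsupp
      by_cases hK : K + 1 < m + 2
      · set j : Fin (m + 2) := ⟨K, by omega⟩ with hjdef
        have hj : j.val + 1 < m + 2 := hK
        set j' : Fin (m + 2) := ⟨j.val + 1, hj⟩ with hj'def
        have hjj' : j ≠ j' := by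
          intro h
          have := congrArg Fin.val h
          simp [hjdef, hj'def] at this
        set a : F := w (Sum.inl j') with ha
        by_cases ha0 : a = 0
        · apply ih w hw0
          intro i hi
          by_cases hi' : i = j'
          · rw [hi']; exact ha0
          · apply hsupp i
            have : i.val ≠ K + 1 := fun h => hi' (Fin.ext (by simp [hj'def, hjdef, h]))
            omega
        · set w' : Fin (m + 2) ⊕ Fin (m + 2) → F := w + (-a) • eI j' with hw'
          have hw'0 : ∀ i, w' (Sum.inr i) = 0 := by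
            intro i
            simp [hw', hw0, l1_eI_inr]
          have hw'supp : ∀ i : Fin (m + 2), K < i.val → w' (Sum.inl i) = 0 := by
            intro i hi
            simp only [hw', Pi.add_apply, Pi.smul_apply, smul_eq_mul, l1_eI_inl]
            by_cases hi' : i = j'
            · rw [if_pos hi', hi', ← ha]; ring
            · rw [if_neg hi', mul_zero, add_zero]
              apply hsupp i
              have : i.val ≠ K + 1 := fun h => hi' (Fin.ext (by simp [hj'def, hjdef, h]))
              omega
          have hw'j : w' (Sum.inl j) = w (Sum.inl j) := by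
            simp [hw', l1_eI_inl, hjj']
          have hw'j' : w' (Sum.inl j') = 0 := by
            simp [hw', l1_eI_inl, ← ha]
          have hww' : w' + a • eI j' = w := by
            rw [hw']; module
          by_cases hwj : w (Sum.inl j) ≠ 0
          · have h1 := ih w' hw'0 hw'supp
            have := l1_step T hhyp he hf j j' hjj' (hadj j hj) w' h1 hw'0 (by rwa [hw'j]) a
            rwa [hww'] at this
          · rw [not_not] at hwj
            set w'' : Fin (m + 2) ⊕ Fin (m + 2) → F := w' + eI j with hw''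
            have hw''0 : ∀ i, w'' (Sum.inr i) = 0 := by
              intro i
              simp [hw'', hw'0, l1_eI_inr]
            have hw''supp : ∀ i : Fin (m + 2), K < i.val → w'' (Sum.inl i) = 0 := by
              intro i hi
              simp only [hw'', Pi.add_apply, l1_eI_inl]
              have hij : i ≠ j := by
                intro h
                rw [h] at hi
                simp [hjdef] at hi
              rw [if_neg hij, add_zero]
              exact hw'supp i hi
            have h1 := ih w'' hw''0 hw''supp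
            have hw''j : w'' (Sum.inl j) ≠ 0 := by
              simp [hw'', hw'j, hwj, l1_eI_inl]
            have h2 := l1_step T hhyp he hf j j' hjj' (hadj j hj) w'' h1 hw''0 hw''j a
            -- step down
            have hadj' : (eI j' + eI j : Fin (m + 2) ⊕ Fin (m + 2) → F) ∈ T := by
              have := hadj j hj
              rwa [add_comm (eI j : Fin (m + 2) ⊕ Fin (m + 2) → F) (eI j')] at this
            have h30 : ∀ i, (w'' + a • eI j' : Fin (m + 2) ⊕ Fin (m + 2) → F) (Sum.inr i) = 0 := by
              intro i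
              simp [hw''0, l1_eI_inr]
            have h3j' : (w'' + a • eI j' : Fin (m + 2) ⊕ Fin (m + 2) → F) (Sum.inl j') ≠ 0 := by
              simp only [hw'', Pi.add_apply, Pi.smul_apply, smul_eq_mul, l1_eI_inl, hw'j']
              rw [if_neg (Ne.symm hjj')]
              simpa using ha0
            have h3 := l1_step T hhyp he hf j' j (Ne.symm hjj') hadj' _ h2 h30 h3j' (-1)
            have e : w'' + a • eI j' + (-1 : F) • eI j = w := by
              rw [← hww', hw'']; module
            rwa [e] at h3
      · apply ih w hw0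
        intro i hi
        have := i.2
        omega
  intro w hw
  exact key (m + 1) w hw (fun i hi => by have := i.2; omega)

end Cfsg.Agent.Lib.Helper48.Sp2G
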