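import Cfsg.Agent.Lib.Helper48.StODefs
import Cfsg.Agent.Lib.Helper21.StOC5a
import Cfsg.Agent.Lib.Helper14.StOC3c
import Cfsg.Agent.Lib.Helper88.StOC3b
import Cfsg.Agent.Lib.Helper28.StOM5
import Cfsg.Agent.Lib.Helper52.StOC5b
import Cfsg.Agent.Lib.Helper85.StOF1Z
import Cfsg.Agent.Lib.Helper56.StOF1P
import Cfsg.Agent.Lib.Helper27.StOF2Z
import Cfsg.Agent.Lib.Helper32.StOF2P
import Cfsg.Agent.Lib.Helper90.StOC8a
import Cfsg.Agent.Lib.Helper42.StOM1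
import Cfsg.Agent.Lib.Helper80.StOO3
import Cfsg.Agent.Lib.Helper26.StOM4
import Cfsg.Agent.Lib.Helper82.StOO12
import Cfsg.Agent.Lib.Helper03.StOC9
import Cfsg.Agent.Lib.Helper50.StOF3Z
import Cfsg.Agent.Lib.Helper27.StOF3P
import Cfsg.Agent.Lib.Helper90.StOC8
import Cfsg.Agent.Lib.Helper62.StOC3a
import Cfsg.Agent.Lib.Helper86.StOC4
import Cfsg.Agent.Lib.Helper97.StOR1
import Cfsg.Agent.Lib.Helper79.StOR2
import Cfsg.Agent.Lib.Helper48.StORestrict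
import Cfsg.Agent.Lib.Helper65.StSpA4
import Cfsg.Agent.Lib.Helper50.SpinorIndex
import Cfsg.Agent.Lib.Helper50.StdForms

/-!
# K-StO pack: the (B,N)-pair of `O_{2m+1}(F)`, its restriction to `Ω`, and the Steinberg character of
`PΩ_{2m+1}(F)` (S2547)
-/

set_option autoImplicit false
set_option linter.unusedSectionVars false

namespace Cfsg.Agent.Lib.Helper48.StOGlue

open Cfsg Cfsg.Agent.Lib.Helper48.StO

variable {m : ℕ} {F : Type*} [Field F]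

theorem T_le_B : Tsub m F ≤ Bsub m F := inf_le_left

theorem T_le_N : Tsub m F ≤ Nsub m F := le_sup_right

theorem S_subset_N : Sset m F ⊆ (Nsub m F : Set (OG m F)) := fun s hs =>
  (le_sup_left : Subgroup.closure (Sset m F) ≤ Nsub m F) (Subgroup.subset_closure hs)

theorem B_inf_N : Bsub m F ⊓ Nsub m F = Tsub m F := by
  apply le_antisymm
  · rintro g ⟨hgB, hgN⟩
    obtain ⟨σ, hσ⟩ := Cfsg.Agent.Lib.Helper42.StO.exists_monWith g hgN
    exact Cfsg.Agent.Lib.Helper26.StO.mem_T_of_monWith g σ hσ hgB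
  · exact le_inf T_le_B T_le_N

theorem sup_eq_top [Fintype F] (h2 : (2 : F) ≠ 0) : Bsub m F ⊔ Nsub m F = ⊤ := by
  rw [eq_top_iff, ← Cfsg.Agent.Lib.Helper21.StO.B_sup_Bminus (m := m) (F := F) h2]
  apply sup_le le_sup_left
  intro b hb
  have h1 := (Cfsg.Agent.Lib.Helper52.StO.conj_w0_mem_B_iff b).2 hb
  have hJ : w0 m F ∈ Bsub m F ⊔ Nsub m F :=
    (le_sup_right : Nsub m F ≤ _) Cfsg.Agent.Lib.Helper86.StO.w0_mem_N
  have h2' : (w0 m F)⁻¹ * b * w0 m F ∈ Bsub m F ⊔ Nsub m F := (le_sup_left : Bsub m F ≤ _) h1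
  have e : b = w0 m F * ((w0 m F)⁻¹ * b * w0 m F) * (w0 m F)⁻¹ := by group
  rw [e]
  exact mul_mem (mul_mem hJ h2') (inv_mem hJ)

theorem conj_T_mem_B (n : OG m F) (hn : n ∈ Nsub m F) (t : OG m F) (ht : t ∈ Tsub m F) :
    n * t * n⁻¹ ∈ Bsub m F := by
  obtain ⟨σ, hσ⟩ := Cfsg.Agent.Lib.Helper42.StO.exists_monWith n hn
  exact T_le_B (Cfsg.Agent.Lib.Helper28.StO.conj_mem_T n σ hσ t ht)

theorem mul_mem_union (s : OG m F) (hs : s ∈ Sset m F) (n : OG m F) (hn : n ∈ Nsub m F)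
    (b : OG m F) (hb : b ∈ Bsub m F) :
    s * b * n ∈ DoubleCoset.doubleCoset (s * n) (Bsub m F : Set (OG m F)) (Bsub m F) ∪
      DoubleCoset.doubleCoset n (Bsub m F : Set (OG m F)) (Bsub m F) := by
  obtain ⟨σ, hσ⟩ := Cfsg.Agent.Lib.Helper42.StO.exists_monWith n hn
  have hnT : ∀ h ∈ Tsub m F, n⁻¹ * h * n ∈ Bsub m F := by
    intro h hh
    have := conj_T_mem_B n⁻¹ (inv_mem hn) h hh
    rwa [inv_inv] at this
  rcases hs with ⟨i, hi, rfl⟩ | ⟨hm, rfl⟩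
  · exact Cfsg.Agent.Lib.Helper65.StSp.mul_mem_union_of (Bsub m F) (Tsub m F) T_le_B _ n
      (fun t => xPerm m F i (nxt i hi) t)
      (fun t => xPerm m F (nxt i hi) i t)
      (fun t => Cfsg.Agent.Lib.Helper97.StO.xPerm_mem_B i (nxt i hi) (by simp [Fin.lt_def, nxt]) t)
      (Cfsg.Agent.Lib.Helper97.StO.xPerm_zero _ _ (ne_nxt i hi))
      (Cfsg.Agent.Lib.Helper56.StO.decomp_perm i hi)
      (Cfsg.Agent.Lib.Helper32.StO.dich_perm i hi n σ hσ)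
      (Cfsg.Agent.Lib.Helper27.StO.rank_one_perm i hi) hnT b hb
  · exact Cfsg.Agent.Lib.Helper65.StSp.mul_mem_union_of (Bsub m F) (Tsub m F) T_le_B _ n
      (fun t => xZ m F (lastF hm) t) (fun t => yZ m F (lastF hm) t)
      (fun t => Cfsg.Agent.Lib.Helper97.StO.xZ_mem_B _ t)
      (Cfsg.Agent.Lib.Helper97.StO.xZ_zero _)
      (Cfsg.Agent.Lib.Helper85.StO.decomp_last hm)
      (Cfsg.Agent.Lib.Helper27.StO.dich_last hm n σ hσ)
      (Cfsg.Agent.Lib.Helper50.StO.rank_one_flip (lastF hm)) hnT b hb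

variable (m F)

/-- the (B,N)-pair of `O_{2m+1}(F)` -/
def bnPair [Fintype F] (h2 : (2 : F) ≠ 0) : Cfsg.BNPair (OG m F) where
  B := Bsub m F
  N := Nsub m F
  S := Sset m F
  sup_eq_top := sup_eq_top h2
  conj_mem := fun n hn t ht => by
    rw [B_inf_N] at ht
    exact conj_T_mem_B n hn t ht
  subset := S_subset_N
  sq_mem := Cfsg.Agent.Lib.Helper62.StO.sq_mem_B
  inj := Cfsg.Agent.Lib.Helper88.StO.S_inj
  closure_sup := by rw [B_inf_N]; rfl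
  mul_mem_union := fun s hs n hn b hb => mul_mem_union s hs n hn b hb
  conj_ne := Cfsg.Agent.Lib.Helper14.StO.S_conj_ne

variable {m F}

theorem QOdd_nondegenerate (h2 : (2 : F) ≠ 0) :
    (QuadraticMap.polarBilin (Cfsg.Agent.Lib.Helper50.QOdd m F)).Nondegenerate := by
  have hdet : (Matrix.fromBlocks ((2 * (1 : F)) • (1 : Matrix Unit Unit F))
        (0 : Matrix Unit (Fin m ⊕ Fin m) F) (0 : Matrix (Fin m ⊕ Fin m) Unit F)
        (Matrix.fromBlocks (0 : Matrix (Fin m) (Fin m) F) (1 : Matrix (Fin m) (Fin m) F)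
        (1 : Matrix (Fin m) (Fin m) F) (0 : Matrix (Fin m) (Fin m) F))).det ≠ 0 := by
    rw [Cfsg.Agent.Lib.Helper50.det_odd_gram]
    exact mul_ne_zero (mul_ne_zero h2 one_ne_zero) (pow_ne_zero _ (neg_ne_zero.mpr one_ne_zero))
  exact Cfsg.Agent.Lib.Helper50.qfOfPolar_nondegenerate _ _ _ _ hdet

theorem index_Omega [Fintype F] (h2 : (2 : F) ≠ 0) (hm : 1 ≤ m) :
    (Cfsg.Omega F (Cfsg.quadFormOdd m F)).index = 4 := by
  have hcard : Fintype.card (Unit ⊕ (Fin m ⊕ Fin m)) = 2 * m + 1 := by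
    simp; ring
  exact Cfsg.Agent.Lib.Helper50.index_commutator h2 (Cfsg.Agent.Lib.Helper50.QOdd m F)
    (QOdd_nondegenerate h2) (by rw [hcard]; omega)

/-- `Ω` as a subgroup of `O_{2m+1}(F)` -/
abbrev Om (m : ℕ) (F : Type*) [Field F] : Subgroup (OG m F) := Cfsg.Omega F (Cfsg.quadFormOdd m F)

theorem Om_sup_T [Fintype F] (p : ℕ) [Fact p.Prime] [CharP F p] (h2 : (2 : F) ≠ 0) (hp2 : p ≠ 2)
    (hm : 1 ≤ m) : Om m F ⊔ Tsub m F = ⊤ :=
  Cfsg.Agent.Lib.Helper82.StO.sup_eq_top_of_index_four (Om m F) (Tsub m F) (Bsub m F) (Bminus m F)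
    (index_Omega h2 hm) p Fact.out hp2
    (Cfsg.Agent.Lib.Helper90.StO.exists_diag_unip p) (Cfsg.Agent.Lib.Helper90.StO.exists_diag_unip_minus p) (Cfsg.Agent.Lib.Helper21.StO.B_sup_Bminus h2)

theorem pElement_mem_Om [Fintype F] (p : ℕ) [Fact p.Prime] (h2 : (2 : F) ≠ 0) (hp2 : p ≠ 2)
    (hm : 1 ≤ m) (g : OG m F) (hg : g ^ p = 1) : g ∈ Om m F :=
  Cfsg.Agent.Lib.Helper82.StO.mem_of_pow_prime_pow_eq_one (Om m F) (index_Omega h2 hm) p Fact.out hp2 g 1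
    (by rwa [pow_one])

theorem center_Om_le [Fintype F] (p : ℕ) [Fact p.Prime] [CharP F p] (h2 : (2 : F) ≠ 0)
    (hp2 : p ≠ 2) (hm : 1 ≤ m) (z : ↥(Om m F)) (hz : z ∈ Subgroup.center ↥(Om m F)) :
    (z : OG m F) ∈ Tsub m F := by
  rw [Subgroup.mem_center_iff] at hz
  apply Cfsg.Agent.Lib.Helper80.StO.mem_T_of_commute h2
  · intro k s
    have := hz ⟨xZ m F k s, pElement_mem_Om p h2 hp2 hm _ (Cfsg.Agent.Lib.Helper79.StO.xZ_pow_char p k s)⟩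
    exact (congrArg Subtype.val this).symm
  · intro k s
    have := hz ⟨yZ m F k s, pElement_mem_Om p h2 hp2 hm _ (Cfsg.Agent.Lib.Helper79.StO.yZ_pow_char p k s)⟩
    exact (congrArg Subtype.val this).symm

theorem main [Fintype F] (p : ℕ) [Fact p.Prime] [CharP F p] (hodd : Odd (Fintype.card F))
    (hm : 1 ≤ m) :
    ∃ χ : Cfsg.POmega F (Cfsg.quadFormOdd m F) → ℂ,
      Cfsg.IsIrrCharacter (Cfsg.POmega F (Cfsg.quadFormOdd m F)) χ ∧
      ∀ P : Sylow p (Cfsg.POmega F (Cfsg.quadFormOdd m F)), χ 1 = Nat.card P ∧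
        ∀ x : Cfsg.POmega F (Cfsg.quadFormOdd m F), x ∈ P → x ≠ 1 → χ x = 0 := by
  have h2 : (2 : F) ≠ 0 := Cfsg.Agent.Lib.Helper50.two_ne_zero_of_odd_card rfl hodd
  have hp2 : p ≠ 2 := by
    rintro rfl
    exact h2 (by exact_mod_cast CharP.cast_eq_zero F 2)
  obtain ⟨a, ha⟩ := Cfsg.Agent.Lib.Helper90.StO.relIndex_T_B (m := m) (F := F) p
  exact Cfsg.Agent.Lib.Helper48.StO.steinberg_of_restrict (bnPair m F h2) (Om m F) (Tsub m F) B_inf_N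
    (Om_sup_T p h2 hp2 hm) p (w0 m F) Cfsg.Agent.Lib.Helper86.StO.w0_mem_N
    (fun b hb hc => ⟨hb, (Cfsg.Agent.Lib.Helper52.StO.conj_w0_mem_B_iff b).1 hc⟩) a ha
    (Cfsg.Agent.Lib.Helper03.StO.not_dvd_card_T p) (center_Om_le p h2 hp2 hm)

end Cfsg.Agent.Lib.Helper48.StOGlue
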