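import Mathlib
import Cfsg.Prelude.Def_LieExceptional
import Cfsg.Agent.Lib.Helper49.StGeneric
import Cfsg.Agent.Lib.Helper92.StOA5
import Cfsg.Agent.Lib.Helper64.StOA6

/-!
# Generic endgame for a (B,N)-pair restricted to a normal subgroup (K-StO pack, S2547; reusable for
S2548 / S2549)

`steinberg_of_restrict`: `P` a (B,N)-pair of a finite group `G`, `H ⊴ G` with `H T = G` (`T = B ∩ N`),
`w ∈ N` with `B ∩ w B w⁻¹ ⊆ T`, `|B : T| = p^a`, `p ∤ |T|`, `Z(H) ⊆ T`  ⟹  `H / Z(H)` has an irreducible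
character of degree the order of a Sylow `p`-subgroup vanishing on the non-identity elements of every
Sylow `p`-subgroup.  (A5 by helper92, A6 by helper64, endgame `exists_steinberg` by helper49.)
-/

set_option autoImplicit false

namespace Cfsg.Agent.Lib.Helper48.StO

theorem card_subgroupOf_dvd {G : Type*} [Group G] [Finite G] (T H : Subgroup G) :
    Nat.card ↥(T.subgroupOf H) ∣ Nat.card ↥T := by
  let f : ↥(T.subgroupOf H) →* ↥T :=
    { toFun := fun x => ⟨(x : ↥H), x.2⟩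
      map_one' := rfl
      map_mul' := fun _ _ => rfl }
  have hf : Function.Injective f := by
    intro x y hxy
    apply Subtype.ext
    apply Subtype.ext
    exact congrArg (fun t : ↥T => (t : G)) hxy
  exact Subgroup.card_dvd_of_injective f hf

theorem inf_subgroupOf {G : Type*} [Group G] (B N H : Subgroup G) :
    B.subgroupOf H ⊓ N.subgroupOf H = (B ⊓ N).subgroupOf H := by
  ext x
  simp [Subgroup.mem_subgroupOf]

/-- the generic endgame for a (B,N)-pair restricted to a normal subgroup -/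
theorem steinberg_of_restrict {G : Type*} [Group G] [Finite G] (P : Cfsg.BNPair G)
    (H : Subgroup G) [H.Normal] (T : Subgroup G) (hBN : P.B ⊓ P.N = T) (hHT : H ⊔ T = ⊤)
    (p : ℕ) [Fact p.Prime] (w : G) (hw : w ∈ P.N)
    (hwB : ∀ b ∈ P.B, w⁻¹ * b * w ∈ P.B → b ∈ T)
    (a : ℕ) (ha : T.relIndex P.B = p ^ a) (hTp : ¬ p ∣ Nat.card ↥T)
    (hZ : ∀ z : ↥H, z ∈ Subgroup.center ↥H → (z : G) ∈ T) :
    ∃ χ : ↥H ⧸ Subgroup.center ↥H → ℂ, Cfsg.IsIrrCharacter (↥H ⧸ Subgroup.center ↥H) χ ∧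
      ∀ Q : Sylow p (↥H ⧸ Subgroup.center ↥H), χ 1 = Nat.card Q ∧
        ∀ x : ↥H ⧸ Subgroup.center ↥H, x ∈ Q → x ≠ 1 → χ x = 0 := by
  have hTB : T ≤ P.B := hBN ▸ inf_le_left
  have hTN : T ≤ P.N := hBN ▸ inf_le_right
  obtain ⟨P', hB', hN'⟩ := Cfsg.Agent.Lib.Helper92.StO.exists_bnPair_subgroupOf P H (by rw [hBN]; exact hHT)
  have hBN' : P'.B ⊓ P'.N = T.subgroupOf H := by
    rw [hB', hN', inf_subgroupOf, hBN]
  have hw' : w ∈ H ⊔ T := by rw [hHT]; trivial
  have hw'' : w ∈ ((H ⊔ T : Subgroup G) : Set G) := hw'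
  rw [Subgroup.normal_mul] at hw''
  obtain ⟨ω, hω, t, ht, hωt⟩ := Set.mem_mul.1 hw''
  simp only [SetLike.mem_coe] at hω ht
  have hωN : ω ∈ P.N := by
    have : ω = w * t⁻¹ := by rw [← hωt]; group
    rw [this]
    exact mul_mem hw (inv_mem (hTN ht))
  refine Cfsg.Agent.Lib.Helper49.StGeneric.exists_steinberg P' p ⟨ω, hω⟩ ?_ ?_ a ?_ ?_ ?_
  · rw [hN']; exact hωN
  · intro b hb hc
    rw [hB'] at hb hc
    rw [hN']
    have hb1 : (b : G) ∈ P.B := hb
    have hc1 : ω⁻¹ * (b : G) * ω ∈ P.B := hc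
    have hc2 : w⁻¹ * (b : G) * w ∈ P.B := by
      have e : w⁻¹ * (b : G) * w = t⁻¹ * (ω⁻¹ * (b : G) * ω) * t := by
        rw [← hωt]; group
      rw [e]
      exact mul_mem (mul_mem (inv_mem (hTB ht)) hc1) (hTB ht)
    exact hTN (hwB _ hb1 hc2)
  · rw [hBN', hB', Cfsg.Agent.Lib.Helper64.StO.relIndex_subgroupOf_eq H P.B T hTB hHT]
    exact ha
  · rw [hBN']
    exact fun hdvd => hTp (dvd_trans hdvd (card_subgroupOf_dvd T H))
  · rw [hBN']
    intro z hz
    exact hZ z hz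

end Cfsg.Agent.Lib.Helper48.StO
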