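import Mathlib
import Cfsg.Agent.Lib.Helper49.StOpDefs

/-!
# K-StOp pack (S2548), leaf C5a2: the last step of the flag induction
-/

set_option autoImplicit false
set_option linter.unusedSectionVars false

namespace Cfsg.Agent.Lib.Helper48.StOp

open Matrix Cfsg Cfsg.Agent.Lib.Helper49.StOp

variable {m : ℕ} {F : Type*} [Field F]

theorem c5a2_flipE_mul_self (k : Fin m) : flipE m k * flipE m k = 1 := by
  unfold flipE
  exact Equiv.swap_mul_self _ _

theorem c5a2_quad_flip (k : Fin m) (u : OI m → F) :
    Cfsg.quadFormPlus m F (u ∘ flipE m k) = Cfsg.quadFormPlus m F u := by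
  unfold Cfsg.quadFormPlus
  apply Finset.sum_congr rfl
  intro i _
  simp only [Function.comp]
  by_cases h : i = k
  · subst h
    have h1 : flipE m i (Sum.inl i) = Sum.inr i := Equiv.swap_apply_left _ _
    have h2 : flipE m i (Sum.inr i) = Sum.inl i := Equiv.swap_apply_right _ _
    rw [h1, h2, mul_comm]
  · have h1 : flipE m k (Sum.inl i) = Sum.inl i :=
      Equiv.swap_apply_of_ne_of_ne (by simp [eI, h]) (by simp [fI])
    have h2 : flipE m k (Sum.inr i) = Sum.inr i :=
      Equiv.swap_apply_of_ne_of_ne (by simp [eI]) (by simp [fI, h])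
    rw [h1, h2]

/-- the matrix of `rFlip k` -/
theorem c5a2_mat_rFlip (k : Fin m) : mat (rFlip m F k) = rFlipMat m F k := by
  apply mat_ofMat
  apply exists_of_isometry (rFlipMat m F k) (rFlipMat m F k)
  · unfold rFlipMat
    rw [← Matrix.permMatrix_mul, c5a2_flipE_mul_self, Matrix.permMatrix_one]
  · unfold rFlipMat
    rw [← Matrix.permMatrix_mul, c5a2_flipE_mul_self, Matrix.permMatrix_one]
  · intro u
    unfold rFlipMat
    rw [Matrix.permMatrix_mulVec]
    exact c5a2_quad_flip k u

theorem c5a2_mat_rFlip_mul (k : Fin m) (g : OG m F) (a b : OI m) :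
    mat (rFlip m F k * g) a b = mat g (flipE m k a) b := by
  rw [mat_mul, c5a2_mat_rFlip]
  unfold rFlipMat
  rw [Equiv.Perm.permMatrix, PEquiv.toMatrix_toPEquiv_mul]
  rfl

theorem c5a2_pos_fI_ge (l : Fin m) : m ≤ pos m (fI l) := by
  have := l.2
  change m ≤ 2 * m - 1 - l.val
  omega

/-- Fact A: in the first `j` columns the `f`-rows vanish -/
theorem c5a2_fA (j : ℕ) (hjm : j ≤ m) (g : OG m F) (hg : g ∈ FlagStab m F j) (l i : Fin m)
    (hi : i.val < j) : mat g (fI l) (eI i) = 0 := by
  apply hg
  · exact hi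
  · have := c5a2_pos_fI_ge l
    change i.val < pos m (fI l)
    omega

/-- Fact B: in the first `j` columns the `e`-rows below the diagonal vanish -/
theorem c5a2_fB (j : ℕ) (g : OG m F) (hg : g ∈ FlagStab m F j) (l i : Fin m)
    (hi : i.val < j) (hil : i < l) : mat g (eI l) (eI i) = 0 := by
  apply hg
  · exact hi
  · exact hil

/-- row `e_i` of `g⁻¹ g` and of `1`, restricted to the `e`-columns `< j` -/
theorem c5a2_row (j : ℕ) (hjm : j ≤ m) (g : OG m F) (hg : g ∈ FlagStab m F j) (i l : Fin m)
    (hl : l.val < j) :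
    ∑ l' : Fin m, mat g⁻¹ (eI i) (eI l') * mat g (eI l') (eI l) = if i = l then 1 else 0 := by
  have h := congrFun (congrFun (mat_inv_mul_mat g) (eI i)) (eI l)
  rw [Matrix.mul_apply, Fintype.sum_sum_type] at h
  have h0 : ∑ x : Fin m, mat g⁻¹ (eI i) (Sum.inr x) * mat g (Sum.inr x) (eI l) = 0 := by
    apply Finset.sum_eq_zero
    intro x _
    rw [show (Sum.inr x : OI m) = fI x from rfl, c5a2_fA j hjm g hg x l hl, mul_zero]
  rw [h0, add_zero] at h
  rw [show (∑ l' : Fin m, mat g⁻¹ (eI i) (eI l') * mat g (eI l') (eI l)) =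
    ∑ x : Fin m, mat g⁻¹ (eI i) (Sum.inl x) * mat g (Sum.inl x) (eI l) from rfl, h]
  rw [Matrix.one_apply]
  by_cases hil : i = l
  · rw [if_pos hil, if_pos (by rw [hil])]
  · rw [if_neg hil, if_neg (fun e : eI i = eI l => hil (Sum.inl_injective e))]

/-- the diagonal entries of the first `j` columns are non-zero, and `g⁻¹` is upper triangular there -/
theorem c5a2_diag (j : ℕ) (hjm : j ≤ m) (g : OG m F) (hg : g ∈ FlagStab m F j) :
    ∀ n : ℕ, ∀ i : Fin m, i.val = n → i.val < j →
      mat g (eI i) (eI i) ≠ 0 ∧ ∀ l : Fin m, l < i → mat g⁻¹ (eI i) (eI l) = 0 := by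
  intro n
  induction n using Nat.strong_induction_on with
  | _ n ih =>
    intro i hin hij
    have hinv : ∀ l : Fin m, l < i → mat g⁻¹ (eI i) (eI l) = 0 := by
      intro l
      induction' hl : l.val using Nat.strong_induction_on with n' ih' generalizing l
      intro hli
      have hlj : l.val < j := lt_trans hli hij
      have hrow := c5a2_row j hjm g hg i l hlj
      rw [if_neg (ne_of_gt hli)] at hrow
      rw [Finset.sum_eq_single l] at hrow
      · have hd := (ih l.val (by rw [← hin]; exact hli) l rfl hlj).1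
        rcases mul_eq_zero.1 hrow with h | h
        · exact h
        · exact absurd h hd
      · intro l' _ hne
        rcases lt_or_gt_of_ne hne with h | h
        · rw [ih' l'.val (by rw [← hl]; exact h) l' rfl (lt_trans h hli), zero_mul]
        · rw [c5a2_fB j g hg l' l hlj h, mul_zero]
      · intro h; exact absurd (Finset.mem_univ l) h
    refine ⟨?_, hinv⟩
    have hrow := c5a2_row j hjm g hg i i hij
    rw [if_pos rfl, Finset.sum_eq_single i] at hrow
    · intro h0
      rw [h0, mul_zero] at hrow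
      exact zero_ne_one hrow
    · intro l' _ hne
      rcases lt_or_gt_of_ne hne with h | h
      · rw [hinv l' h, zero_mul]
      · rw [c5a2_fB j g hg l' i hij h, mul_zero]
    · intro h; exact absurd (Finset.mem_univ i) h

theorem c5a2_diag_ne (j : ℕ) (hjm : j ≤ m) (g : OG m F) (hg : g ∈ FlagStab m F j) (i : Fin m)
    (hij : i.val < j) : mat g (eI i) (eI i) ≠ 0 :=
  (c5a2_diag j hjm g hg i.val i rfl hij).1

/-- `Q` of a column -/
theorem c5a2_quad_col (g : OG m F) (b : OI m) (u : OI m → F) (hu : u = Pi.single b 1) :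
    mat g *ᵥ u = fun a => mat g a b := by
  subst hu
  ext a
  simp [Matrix.mulVec, dotProduct, Pi.single_apply]

theorem c5a2_Q_col (g : OG m F) (i : Fin m) :
    ∑ l : Fin m, mat g (eI l) (eI i) * mat g (fI l) (eI i) = 0 := by
  have h := quad_mulVec g (Pi.single (eI i) 1)
  rw [c5a2_quad_col g (eI i) _ rfl] at h
  unfold Cfsg.quadFormPlus at h
  rw [show (∑ l : Fin m, mat g (eI l) (eI i) * mat g (fI l) (eI i)) =
    ∑ x : Fin m, mat g (Sum.inl x) (eI i) * mat g (Sum.inr x) (eI i) from rfl, h]
  apply Finset.sum_eq_zero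
  intro x _
  rw [show (Pi.single (eI i) (1 : F) : OI m → F) (Sum.inr x) = 0 from
    Pi.single_eq_of_ne (by simp [eI]) _, mul_zero]

theorem c5a2_Q_two (g : OG m F) (i k : Fin m) :
    ∑ l : Fin m, (mat g (eI l) (eI i) + mat g (eI l) (eI k)) *
      (mat g (fI l) (eI i) + mat g (fI l) (eI k)) = 0 := by
  have h := quad_mulVec g (Pi.single (eI i) 1 + Pi.single (eI k) 1)
  rw [Matrix.mulVec_add, c5a2_quad_col g (eI i) _ rfl, c5a2_quad_col g (eI k) _ rfl] at h
  unfold Cfsg.quadFormPlus at h
  rw [show (∑ l : Fin m, (mat g (eI l) (eI i) + mat g (eI l) (eI k)) *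
      (mat g (fI l) (eI i) + mat g (fI l) (eI k))) =
    ∑ x : Fin m, ((fun a => mat g a (eI i)) + fun a => mat g a (eI k)) (Sum.inl x) *
      ((fun a => mat g a (eI i)) + fun a => mat g a (eI k)) (Sum.inr x) from rfl, h]
  apply Finset.sum_eq_zero
  intro x _
  have h1 : (Pi.single (eI i) (1 : F) : OI m → F) (Sum.inr x) = 0 :=
    Pi.single_eq_of_ne (by simp [eI]) _
  have h2 : (Pi.single (eI k) (1 : F) : OI m → F) (Sum.inr x) = 0 :=
    Pi.single_eq_of_ne (by simp [eI]) _
  rw [Pi.add_apply, Pi.add_apply, h1, h2, add_zero, mul_zero]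

/-- the polar identity for two of the first columns -/
theorem c5a2_polar (j : ℕ) (hjm : j ≤ m) (g : OG m F) (hg : g ∈ FlagStab m F j) (i k : Fin m)
    (hi : i.val < j) :
    ∑ l : Fin m, mat g (eI l) (eI i) * mat g (fI l) (eI k) = 0 := by
  have h2 := c5a2_Q_two g i k
  have hk := c5a2_Q_col g k
  have e : ∀ l : Fin m, (mat g (eI l) (eI i) + mat g (eI l) (eI k)) *
      (mat g (fI l) (eI i) + mat g (fI l) (eI k)) =
      mat g (eI l) (eI i) * mat g (fI l) (eI k) + mat g (eI l) (eI k) * mat g (fI l) (eI k) := by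
    intro l
    rw [c5a2_fA j hjm g hg l i hi]
    ring
  rw [Finset.sum_congr rfl (fun l _ => e l), Finset.sum_add_distrib, hk, add_zero] at h2
  exact h2

/-- the `f`-coordinates `< j` of the column `e_k` vanish -/
theorem c5a2_col_f (j : ℕ) (hjm : j ≤ m) (g : OG m F) (hg : g ∈ FlagStab m F j) (k : Fin m) :
    ∀ n : ℕ, ∀ i : Fin m, i.val = n → i.val < j → mat g (fI i) (eI k) = 0 := by
  intro n
  induction n using Nat.strong_induction_on with
  | _ n ih =>
    intro i hin hij
    have hp := c5a2_polar j hjm g hg i k hij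
    rw [Finset.sum_eq_single i] at hp
    · rcases mul_eq_zero.1 hp with h | h
      · exact absurd h (c5a2_diag_ne j hjm g hg i hij)
      · exact h
    · intro l _ hne
      rcases lt_or_gt_of_ne hne with h | h
      · rw [ih l.val (by rw [← hin]; exact h) l rfl (lt_trans h hij), mul_zero]
      · rw [c5a2_fB j g hg l i hij h, zero_mul]
    · intro h; exact absurd (Finset.mem_univ i) h

theorem flagStab_last (hm : 0 < m) (g : OG m F) (hg : g ∈ FlagStab m F (m - 1)) :
    g ∈ FlagStab m F m ∨ rFlip m F (lastF hm) * g ∈ FlagStab m F m := by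
  set k : Fin m := lastF hm with hk
  have hkv : k.val = m - 1 := rfl
  have hjm : m - 1 ≤ m := Nat.sub_le _ _
  have hcol : ∀ i : Fin m, i ≠ k → mat g (fI i) (eI k) = 0 := by
    intro i hik
    apply c5a2_col_f (m - 1) hjm g hg k i.val i rfl
    have := i.2
    have : i.val ≠ m - 1 := fun e => hik (Fin.ext (by rw [e, hkv]))
    omega
  have hQ := c5a2_Q_col g k
  rw [Finset.sum_eq_single k] at hQ
  rotate_left
  · intro l _ hne
    rw [hcol l hne, mul_zero]
  · intro h; exact absurd (Finset.mem_univ k) h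
  -- every column index of position `< m` is some `e_i`
  have hcases : ∀ b : OI m, pos m b < m → ∃ i : Fin m, b = eI i := by
    rintro (i | i) hb
    · exact ⟨i, rfl⟩
    · exfalso
      have := c5a2_pos_fI_ge i
      change pos m (fI i) < m at hb
      omega
  -- rows of position `> m - 1` are `f`-rows
  have hrows : ∀ a : OI m, pos m (eI k) < pos m a → ∃ l : Fin m, a = fI l := by
    rintro (l | l) hab
    · exfalso
      have := l.2
      change k.val < l.val at hab
      omega
    · exact ⟨l, rfl⟩
  have hlt : ∀ i : Fin m, i ≠ k → i.val < m - 1 := by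
    intro i hik
    have := i.2
    have : i.val ≠ m - 1 := fun e => hik (Fin.ext (by rw [e, hkv]))
    omega
  rcases mul_eq_zero.1 hQ with hx | hy
  · -- `x = 0`: use `r g`
    right
    intro a b hb hab
    obtain ⟨i, hbi⟩ := hcases b hb
    rw [hbi] at hab ⊢
    rw [c5a2_mat_rFlip_mul]
    by_cases hik : i = k
    · rw [hik] at hab ⊢
      obtain ⟨l, hal⟩ := hrows a hab
      rw [hal]
      by_cases hlk : l = k
      · rw [hlk]
        have : flipE m k (fI k) = eI k := Equiv.swap_apply_right _ _
        rw [this]; exact hx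
      · have : flipE m k (fI l) = fI l :=
          Equiv.swap_apply_of_ne_of_ne (by simp [eI]) (by simp [fI, hlk])
        rw [this]; exact hcol l hlk
    · have hiv : i.val < m - 1 := hlt i hik
      apply hg _ _ (show pos m (eI i) < m - 1 from hiv)
      change i.val < pos m (flipE m k a)
      change i.val < pos m a at hab
      by_cases h1 : a = eI k
      · rw [h1, show flipE m k (eI k) = fI k from Equiv.swap_apply_left _ _]
        have := c5a2_pos_fI_ge k
        omega
      · by_cases h2 : a = fI k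
        · rw [h2, show flipE m k (fI k) = eI k from Equiv.swap_apply_right _ _]
          change i.val < k.val
          omega
        · rw [show flipE m k a = a from Equiv.swap_apply_of_ne_of_ne h1 h2]
          exact hab
  · -- `y = 0`: `g` itself
    left
    intro a b hb hab
    obtain ⟨i, hbi⟩ := hcases b hb
    rw [hbi] at hab ⊢
    by_cases hik : i = k
    · rw [hik] at hab ⊢
      obtain ⟨l, hal⟩ := hrows a hab
      rw [hal]
      by_cases hlk : l = k
      · rw [hlk]; exact hy
      · exact hcol l hlk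
    · have hiv : i.val < m - 1 := hlt i hik
      exact hg _ _ (show pos m (eI i) < m - 1 from hiv) hab

end Cfsg.Agent.Lib.Helper48.StOp
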