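import Mathlib
import Cfsg.Agent.Lib.Helper49.StSpDefs

/-!
K-StSp-C8 (254517, S2545 pack, architect helper49; parallel hand): `|B : T|` is a power of `p`.
`δ : B → B`, `b ↦ diag(b)` is an idempotent endomorphism with image `T` and kernel the unitriangular
matrices of `B`, a `p`-group.
-/

set_option autoImplicit false
set_option linter.unusedSectionVars false
set_option linter.unusedVariables false

namespace Cfsg.Agent.Lib.Helper48.StSp

open Cfsg Cfsg.Agent.Lib.Helper49.StSp Matrix

variable {m : ℕ} {F : Type*} [Field F]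

/-! ### upper triangular matrices for `pos` -/

/-- the diagonal of a product of upper triangular matrices -/
theorem c8_diag_mul (A A' : Matrix (Fin m ⊕ Fin m) (Fin m ⊕ Fin m) F)
    (hA : ∀ a b, pos m b < pos m a → A a b = 0) (hA' : ∀ a b, pos m b < pos m a → A' a b = 0)
    (a : Fin m ⊕ Fin m) : (A * A') a a = A a a * A' a a := by
  rw [Matrix.mul_apply]
  apply Finset.sum_eq_single a
  · intro c _ hc
    rcases lt_or_gt_of_ne (fun h => hc (pos_injective m h)) with h | h
    · rw [hA a c h, zero_mul]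
    · rw [hA' c a h, mul_zero]
  · intro h
    exact absurd (Finset.mem_univ a) h

theorem c8_mul_J_inl (A : Matrix (Fin m ⊕ Fin m) (Fin m ⊕ Fin m) F) (a : Fin m ⊕ Fin m) (j : Fin m) :
    (A * Matrix.J (Fin m) F) a (Sum.inl j) = A a (Sum.inr j) := by
  simp [Matrix.mul_apply, Matrix.J, Fintype.sum_sum_type, Matrix.one_apply]

theorem c8_mul_J_inr (A : Matrix (Fin m ⊕ Fin m) (Fin m ⊕ Fin m) F) (a : Fin m ⊕ Fin m) (j : Fin m) :
    (A * Matrix.J (Fin m) F) a (Sum.inr j) = - A a (Sum.inl j) := by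
  simp [Matrix.mul_apply, Matrix.J, Fintype.sum_sum_type, Matrix.one_apply]

/-- the diagonal of an upper triangular symplectic matrix is symplectic -/
theorem c8_diag_swap (A : Matrix (Fin m ⊕ Fin m) (Fin m ⊕ Fin m) F)
    (hS : A ∈ Matrix.symplecticGroup (Fin m) F)
    (hA : ∀ a b, pos m b < pos m a → A a b = 0) (i : Fin m) :
    A (Sum.inl i) (Sum.inl i) * A (Sum.inr i) (Sum.inr i) = 1 := by
  have h1 := SymplecticGroup.mem_iff.mp hS
  have h2 := congrFun (congrFun h1 (Sum.inl i)) (Sum.inr i)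
  rw [Matrix.mul_apply, Fintype.sum_sum_type] at h2
  simp only [c8_mul_J_inl, c8_mul_J_inr, Matrix.transpose_apply] at h2
  have e1 : ∑ j : Fin m, A (Sum.inl i) (Sum.inr j) * A (Sum.inr i) (Sum.inl j) = 0 := by
    apply Finset.sum_eq_zero
    intro j _
    have : pos m (Sum.inl j) < pos m (Sum.inr i) := by
      simp only [pos]
      have := i.2; have := j.2; omega
    rw [hA _ _ this, mul_zero]
  have e2 : ∑ j : Fin m, -A (Sum.inl i) (Sum.inl j) * A (Sum.inr i) (Sum.inr j) =
      -(A (Sum.inl i) (Sum.inl i) * A (Sum.inr i) (Sum.inr i)) := by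
    rw [Finset.sum_eq_single i]
    · ring
    · intro j _ hj
      rcases lt_or_gt_of_ne (fun h => hj (Fin.ext h) : (j : ℕ) ≠ (i : ℕ)) with h | h
      · have : pos m (Sum.inl j) < pos m (Sum.inl i) := by simp only [pos]; exact h
        rw [hA _ _ this, neg_zero, zero_mul]
      · have : pos m (Sum.inr j) < pos m (Sum.inr i) := by
          simp only [pos]
          have := i.2; have := j.2; omega
        rw [hA _ _ this, mul_zero]
    · intro h
      exact absurd (Finset.mem_univ i) h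
  rw [e1, e2, zero_add] at h2
  have h3 : Matrix.J (Fin m) F (Sum.inl i) (Sum.inr i) = -1 := by
    simp [Matrix.J]
  rw [h3] at h2
  exact neg_injective h2

/-- a diagonal matrix with `d a * d a.swap = 1` is symplectic -/
theorem c8_diagonal_mem (d : Fin m ⊕ Fin m → F)
    (hd : ∀ i : Fin m, d (Sum.inl i) * d (Sum.inr i) = 1) :
    Matrix.diagonal d ∈ Matrix.symplecticGroup (Fin m) F := by
  rw [SymplecticGroup.mem_iff]
  ext a c
  rw [Matrix.diagonal_transpose, Matrix.mul_diagonal, Matrix.diagonal_mul]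
  rcases a with i | i <;> rcases c with j | j
  · simp [Matrix.J]
  · by_cases hij : i = j
    · subst hij
      have := hd i
      simp only [Matrix.J, Matrix.fromBlocks_apply₁₂, Matrix.neg_apply, Matrix.one_apply_eq]
      linear_combination -this
    · simp [Matrix.J, hij]
  · by_cases hij : i = j
    · subst hij
      have := hd i
      simp only [Matrix.J, Matrix.fromBlocks_apply₂₁, Matrix.one_apply_eq]
      linear_combination this
    · simp [Matrix.J, hij]
  · simp [Matrix.J]

/-! ### strictly upper triangular matrices are nilpotent -/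

theorem c8_pow_apply_eq_zero (N : Matrix (Fin m ⊕ Fin m) (Fin m ⊕ Fin m) F)
    (hN : ∀ a b, pos m b ≤ pos m a → N a b = 0) (k : ℕ) :
    ∀ a b, pos m b < pos m a + k → (N ^ k) a b = 0 := by
  induction k with
  | zero =>
    intro a b h
    rw [pow_zero, Matrix.one_apply, if_neg]
    rintro rfl
    omega
  | succ k ih =>
    intro a b h
    rw [pow_succ, Matrix.mul_apply]
    apply Finset.sum_eq_zero
    intro c _
    by_cases hc : pos m c < pos m a + k
    · rw [ih a c hc, zero_mul]
    · rw [hN c b (by omega), mul_zero]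

theorem c8_pos_lt (a : Fin m ⊕ Fin m) : pos m a < 2 * m := by
  rcases a with a | a <;> simp only [pos] <;> have := a.2 <;> omega

theorem c8_pow_eq_zero (N : Matrix (Fin m ⊕ Fin m) (Fin m ⊕ Fin m) F)
    (hN : ∀ a b, pos m b ≤ pos m a → N a b = 0) : N ^ (2 * m) = 0 := by
  ext a b
  rw [c8_pow_apply_eq_zero N hN (2 * m) a b (by have := c8_pos_lt b; omega)]
  rfl

/-- a unitriangular matrix has `p`-power order in characteristic `p` -/
theorem c8_unitri_pow (p : ℕ) [Fact p.Prime] [CharP F p]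
    (A : Matrix (Fin m ⊕ Fin m) (Fin m ⊕ Fin m) F)
    (hA : ∀ a b, pos m b < pos m a → A a b = 0) (hA1 : ∀ a, A a a = 1) :
    A ^ (p ^ (2 * m)) = 1 := by
  rcases isEmpty_or_nonempty (Fin m ⊕ Fin m) with he | hne
  · exact Subsingleton.elim _ _
  · have hN : ∀ a b, pos m b ≤ pos m a → (A - 1) a b = 0 := by
      intro a b hab
      rw [Matrix.sub_apply, Matrix.one_apply]
      rcases eq_or_lt_of_le hab with h | h
      · have : b = a := pos_injective m h
        subst this
        rw [hA1, if_pos rfl, sub_self]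
      · rw [hA a b h, if_neg, sub_zero]
        rintro rfl
        exact lt_irrefl _ h
    have h0 : (A - 1) ^ (2 * m) = 0 := c8_pow_eq_zero _ hN
    have hle : 2 * m ≤ p ^ (2 * m) :=
      le_of_lt (Nat.lt_pow_self (Fact.out : p.Prime).one_lt)
    have h1 : (A - 1) ^ (p ^ (2 * m)) = 0 := by
      rw [← Nat.sub_add_cancel hle, pow_add, h0, mul_zero]
    have h2 : A = (A - 1) + 1 := by abel
    rw [h2, add_pow_char_pow_of_commute p (2 * m) (Commute.one_right _), h1, one_pow, zero_add]

/-! ### the diagonal part -/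

theorem c8_upper_of_mem {b : SpG m F} (hb : b ∈ Bsub m F) :
    ∀ a c, pos m c < pos m a → (b.1 : Matrix (Fin m ⊕ Fin m) (Fin m ⊕ Fin m) F) a c = 0 :=
  (mem_Bsub_iff b).1 hb

/-- the diagonal part of an element of `B`, as an element of `Sp` -/
def c8_dSp (b : SpG m F) (hb : b ∈ Bsub m F) : SpG m F :=
  ⟨Matrix.diagonal (fun a => (b.1 : Matrix (Fin m ⊕ Fin m) (Fin m ⊕ Fin m) F) a a),
    c8_diagonal_mem _ (fun i => c8_diag_swap b.1 b.2 (c8_upper_of_mem hb) i)⟩

theorem c8_dSp_mem_T (b : SpG m F) (hb : b ∈ Bsub m F) : c8_dSp b hb ∈ Tsub m F := by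
  rw [mem_Tsub_iff]
  intro a c hac
  exact Matrix.diagonal_apply_ne _ hac

theorem c8_dSp_mem_B (b : SpG m F) (hb : b ∈ Bsub m F) : c8_dSp b hb ∈ Bsub m F :=
  (c8_dSp_mem_T b hb).1

/-- the diagonal part, as an endomorphism of `B` -/
def c8_delta : ↥(Bsub m F) →* ↥(Bsub m F) where
  toFun b := ⟨c8_dSp b.1 b.2, c8_dSp_mem_B b.1 b.2⟩
  map_one' := by
    apply Subtype.ext
    apply Subtype.ext
    show Matrix.diagonal (fun a => (1 : Matrix (Fin m ⊕ Fin m) (Fin m ⊕ Fin m) F) a a) = 1
    rw [← Matrix.diagonal_one]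
    congr 1
    funext a
    simp
  map_mul' b b' := by
    apply Subtype.ext
    apply Subtype.ext
    show Matrix.diagonal (fun a => ((b.1.1 : Matrix (Fin m ⊕ Fin m) (Fin m ⊕ Fin m) F) * b'.1.1) a a) =
      Matrix.diagonal (fun a => (b.1.1 : Matrix (Fin m ⊕ Fin m) (Fin m ⊕ Fin m) F) a a) *
        Matrix.diagonal (fun a => (b'.1.1 : Matrix (Fin m ⊕ Fin m) (Fin m ⊕ Fin m) F) a a)
    rw [Matrix.diagonal_mul_diagonal]
    congr 1
    funext a
    exact c8_diag_mul _ _ (c8_upper_of_mem b.2) (c8_upper_of_mem b'.2) a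

theorem c8_delta_apply_apply (b : ↥(Bsub m F)) (a c : Fin m ⊕ Fin m) :
    ((c8_delta b).1.1 : Matrix (Fin m ⊕ Fin m) (Fin m ⊕ Fin m) F) a c =
      if a = c then (b.1.1 : Matrix (Fin m ⊕ Fin m) (Fin m ⊕ Fin m) F) a a else 0 := by
  show Matrix.diagonal _ a c = _
  rw [Matrix.diagonal_apply]

theorem c8_delta_delta (b : ↥(Bsub m F)) : c8_delta (c8_delta b) = c8_delta b := by
  apply Subtype.ext
  apply Subtype.ext
  ext a c
  rw [c8_delta_apply_apply, c8_delta_apply_apply, c8_delta_apply_apply, if_pos rfl]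

theorem c8_mem_ker_iff (b : ↥(Bsub m F)) :
    b ∈ (c8_delta (m := m) (F := F)).ker ↔
      ∀ a, (b.1.1 : Matrix (Fin m ⊕ Fin m) (Fin m ⊕ Fin m) F) a a = 1 := by
  rw [MonoidHom.mem_ker]
  constructor
  · intro h a
    have := c8_delta_apply_apply b a a
    rw [h, if_pos rfl] at this
    rw [← this]
    show (1 : Matrix (Fin m ⊕ Fin m) (Fin m ⊕ Fin m) F) a a = 1
    simp
  · intro h
    apply Subtype.ext
    apply Subtype.ext
    ext a c
    rw [c8_delta_apply_apply]
    show _ = (1 : Matrix (Fin m ⊕ Fin m) (Fin m ⊕ Fin m) F) a c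
    rw [Matrix.one_apply, h a]

theorem c8_isComplement :
    Subgroup.IsComplement' (c8_delta (m := m) (F := F)).ker ((Tsub m F).subgroupOf (Bsub m F)) := by
  apply Subgroup.isComplement'_of_disjoint_and_mul_eq_univ
  · rw [Subgroup.disjoint_def]
    intro x hx hxT
    have h1 := (c8_mem_ker_iff x).1 hx
    have h2 := (mem_Tsub_iff x.1).1 (Subgroup.mem_subgroupOf.mp hxT)
    apply Subtype.ext
    apply Subtype.ext
    ext a c
    show _ = (1 : Matrix (Fin m ⊕ Fin m) (Fin m ⊕ Fin m) F) a c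
    rw [Matrix.one_apply]
    by_cases hac : a = c
    · subst hac
      rw [if_pos rfl, h1 a]
    · rw [if_neg hac, h2 a c hac]
  · rw [Set.eq_univ_iff_forall]
    intro b
    refine ⟨b * (c8_delta b)⁻¹, ?_, c8_delta b, ?_, ?_⟩
    · show b * (c8_delta b)⁻¹ ∈ (c8_delta (m := m) (F := F)).ker
      rw [MonoidHom.mem_ker, map_mul, map_inv, c8_delta_delta, mul_inv_cancel]
    · show c8_delta b ∈ (Tsub m F).subgroupOf (Bsub m F)
      rw [Subgroup.mem_subgroupOf]
      exact c8_dSp_mem_T b.1 b.2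
    · show b * (c8_delta b)⁻¹ * c8_delta b = b
      rw [inv_mul_cancel_right]

theorem c8_ker_isPGroup (p : ℕ) [Fact p.Prime] [CharP F p] :
    IsPGroup p ↥(c8_delta (m := m) (F := F)).ker := by
  intro g
  refine ⟨2 * m, ?_⟩
  have h1 := (c8_mem_ker_iff g.1).1 g.2
  have h2 := c8_unitri_pow p (g.1.1.1 : Matrix (Fin m ⊕ Fin m) (Fin m ⊕ Fin m) F)
    (c8_upper_of_mem g.1.2) h1
  apply Subtype.ext
  apply Subtype.ext
  apply Subtype.ext
  rw [Subgroup.coe_pow, Subgroup.coe_pow, SubmonoidClass.coe_pow]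
  exact h2

theorem relIndex_T_B [Fintype F] (p : ℕ) [Fact p.Prime] [CharP F p] :
    ∃ a : ℕ, (Tsub m F).relIndex (Bsub m F) = p ^ a := by
  have h1 : (Tsub m F).relIndex (Bsub m F) =
      Nat.card ↥(c8_delta (m := m) (F := F)).ker :=
    (c8_isComplement (m := m) (F := F)).index_eq_card
  rw [h1]
  exact (IsPGroup.iff_card).mp (c8_ker_isPGroup p)

end Cfsg.Agent.Lib.Helper48.StSp
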