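import Mathlib
import Cfsg.Agent.Lib.Helper49.StSpDefs
import Cfsg.Agent.Lib.Helper48.StSpC8

/-!
K-StSp-C9 (254518, S2545 pack, architect helper49; parallel hand): `T` is a `p'`-group.
-/

set_option autoImplicit false
set_option linter.unusedSectionVars false
set_option linter.unusedVariables false

namespace Cfsg.Agent.Lib.Helper48.StSp

open Cfsg Cfsg.Agent.Lib.Helper49.StSp Matrix

variable {m : ℕ} {F : Type*} [Field F]

/-- a diagonal symplectic matrix has order dividing `q - 1` -/
theorem c9_pow_card_sub_one [Fintype F] (t : SpG m F) (ht : t ∈ Tsub m F) :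
    t ^ (Fintype.card F - 1) = 1 := by
  have hoff := (mem_Tsub_iff t).1 ht
  have hB : t ∈ Bsub m F := ht.1
  have hsw := c8_diag_swap t.1 t.2 (c8_upper_of_mem hB)
  have hne : ∀ a, (t.1 : Matrix (Fin m ⊕ Fin m) (Fin m ⊕ Fin m) F) a a ≠ 0 := by
    rintro (i | i) h0
    · have := hsw i
      rw [h0, zero_mul] at this
      exact zero_ne_one this
    · have := hsw i
      rw [h0, mul_zero] at this
      exact zero_ne_one this
  have hdiag : (t.1 : Matrix (Fin m ⊕ Fin m) (Fin m ⊕ Fin m) F) =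
      Matrix.diagonal (fun a => (t.1 : Matrix (Fin m ⊕ Fin m) (Fin m ⊕ Fin m) F) a a) := by
    ext a c
    rw [Matrix.diagonal_apply]
    by_cases hac : a = c
    · subst hac; rw [if_pos rfl]
    · rw [if_neg hac, hoff a c hac]
  apply Subtype.ext
  rw [SubmonoidClass.coe_pow, hdiag, Matrix.diagonal_pow]
  show Matrix.diagonal _ = (1 : Matrix (Fin m ⊕ Fin m) (Fin m ⊕ Fin m) F)
  rw [← Matrix.diagonal_one]
  congr 1
  funext a
  exact FiniteField.pow_card_sub_one_eq_one _ (hne a)

theorem not_dvd_card_T [Fintype F] (p : ℕ) [Fact p.Prime] [CharP F p] :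
    ¬ p ∣ Nat.card (Tsub m F) := by
  intro hdvd
  obtain ⟨t, ht⟩ := exists_prime_orderOf_dvd_card' p hdvd
  have h1 : t ^ (Fintype.card F - 1) = 1 := by
    apply Subtype.ext
    rw [Subgroup.coe_pow]
    exact c9_pow_card_sub_one t.1 t.2
  have h2 : p ∣ Fintype.card F - 1 := by
    rw [← ht]
    exact orderOf_dvd_of_pow_eq_one h1
  obtain ⟨n, hp, hn⟩ := FiniteField.card F p
  have h3 : p ∣ Fintype.card F := by
    rw [hn]
    exact dvd_pow_self p n.ne_zero
  have hpos : 1 ≤ Fintype.card F := Fintype.card_pos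
  have h4 : p ∣ 1 := by
    have := Nat.dvd_sub h3 h2
    rwa [Nat.sub_sub_self hpos] at this
  exact (Fact.out : p.Prime).one_lt.ne' (Nat.dvd_one.mp h4)

end Cfsg.Agent.Lib.Helper48.StSp
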