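import Mathlib

/-!
K-S5529-B (keystone 3356, architect helper95): a permutation of prime order `p` has
`p * #orbits = n + (p-1) * #fixed points`  (Burnside for the cyclic group `⟨g⟩` of order `p`).
-/

set_option autoImplicit false

namespace Cfsg.Agent.Lib.Helper48.TripleGen

open Equiv

/-- In a group of prime order generated by `g`, a non-identity element has the same fixed points as `g`. -/
theorem fixedBy_eq_of_ne_one {α : Type*} (g : Perm α) (p : ℕ)
    (hp : p.Prime) (hg : orderOf g = p) (x : ↥(Subgroup.zpowers g)) (hx : x ≠ 1) (a : α) :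
    x • a = a ↔ g a = a := by
  have : Fact p.Prime := ⟨hp⟩
  have hcard : Nat.card ↥(Subgroup.zpowers g) = p := by rw [Nat.card_zpowers, hg]
  have htop : Subgroup.zpowers x = ⊤ := zpowers_eq_top_of_prime_card hcard hx
  constructor
  · intro h
    have hgm : (⟨g, Subgroup.mem_zpowers g⟩ : ↥(Subgroup.zpowers g)) ∈ Subgroup.zpowers x := by
      rw [htop]; trivial
    obtain ⟨k, hk⟩ := Subgroup.mem_zpowers_iff.mp hgm
    have h1 : (x ^ k) • a = a := by
      have : a ∈ MulAction.fixedBy α x := h
      exact MulAction.zpow_smul_eq_iff_period_dvd.mpr (by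
        have : MulAction.period x a = 1 := MulAction.period_eq_one_iff.mpr h
        rw [this]; exact one_dvd _)
    rw [hk] at h1
    exact h1
  · intro h
    obtain ⟨k, hk⟩ := Subgroup.mem_zpowers_iff.mp x.2
    have h2 : (g ^ k) a = a := by
      have : MulAction.period g a = 1 := MulAction.period_eq_one_iff.mpr h
      have h3 : (g ^ k) • a = a :=
        MulAction.zpow_smul_eq_iff_period_dvd.mpr (by rw [this]; exact one_dvd _)
      exact h3
    have : (x : Perm α) a = a := by rw [← hk]; exact h2
    exact this

theorem prime_order_orbit_count {α : Type*} [Fintype α] [DecidableEq α] (g : Perm α) (p : ℕ)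
    (hp : p.Prime) (hg : orderOf g = p) :
    p * Nat.card (MulAction.orbitRel.Quotient ↥(Subgroup.zpowers g) α) =
      Fintype.card α + (p - 1) * (Finset.univ.filter fun a => g a = a).card := by
  classical
  have hcard : Nat.card ↥(Subgroup.zpowers g) = p := by rw [Nat.card_zpowers, hg]
  have : Fintype ↥(Subgroup.zpowers g) := Fintype.ofFinite _
  have : Fintype (Quotient (MulAction.orbitRel ↥(Subgroup.zpowers g) α)) := Fintype.ofFinite _
  have hB := MulAction.sum_card_fixedBy_eq_card_orbits_mul_card_group ↥(Subgroup.zpowers g) α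
  have hcard' : Fintype.card ↥(Subgroup.zpowers g) = p := by
    rw [← Nat.card_eq_fintype_card]; exact hcard
  rw [hcard'] at hB
  have hq : Nat.card (MulAction.orbitRel.Quotient ↥(Subgroup.zpowers g) α) =
      Fintype.card (Quotient (MulAction.orbitRel ↥(Subgroup.zpowers g) α)) := by
    rw [Nat.card_eq_fintype_card]
  rw [hq, mul_comm, ← hB]
  -- evaluate the sum
  have hterm : ∀ x : ↥(Subgroup.zpowers g),
      Fintype.card ↥(MulAction.fixedBy α x) =
        if x = 1 then Fintype.card α else (Finset.univ.filter fun a => g a = a).card := by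
    intro x
    split_ifs with hx
    · subst hx
      rw [Fintype.card_congr (Equiv.subtypeUnivEquiv (fun a => by simp))]
    · rw [Fintype.card_subtype]
      congr 1
      ext a
      simp only [Finset.mem_filter, Finset.mem_univ, true_and, MulAction.mem_fixedBy]
      exact fixedBy_eq_of_ne_one g p hp hg x hx a
  rw [Finset.sum_congr rfl (fun x _ => hterm x)]
  rw [Finset.sum_ite, Finset.sum_const, Finset.sum_const]
  have h1 : (Finset.univ.filter fun x : ↥(Subgroup.zpowers g) => x = 1).card = 1 := by
    rw [Finset.filter_eq' ]; simp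
  have h2 : (Finset.univ.filter fun x : ↥(Subgroup.zpowers g) => ¬ x = 1).card = p - 1 := by
    have := Finset.card_filter_add_card_filter_not (s := (Finset.univ : Finset ↥(Subgroup.zpowers g)))
      (fun x => x = 1)
    rw [h1, Finset.card_univ, hcard'] at this
    omega
  rw [h1, h2]
  simp
end Cfsg.Agent.Lib.Helper48.TripleGen
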